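import Cfsg.Agent.Co.CT.Tab

set_option autoImplicit false
set_option maxRecDepth 100000
set_option Elab.async false

namespace Cfsg.Co.D1

open Cfsg.H6

def c0 : Clm := ⟨0, 0, false, [], [1], 0, [], []⟩
def c1 : Clm := ⟨0, 0, false, [], [2], 0, [], []⟩
def c2 : Clm := ⟨0, 0, false, [], [3], 0, [], []⟩
def c3 : Clm := ⟨0, 0, false, [], [4], 0, [], []⟩
def c4 : Clm := ⟨0, 0, false, [], [5], 0, [], []⟩
def c5 : Clm := ⟨0, 0, false, [], [6], 0, [], []⟩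
def c6 : Clm := ⟨0, 0, false, [], [7], 0, [], []⟩
def c7 : Clm := ⟨0, 0, false, [], [8], 0, [], []⟩
def c8 : Clm := ⟨0, 0, false, [], [9], 0, [], []⟩
def c9 : Clm := ⟨0, 0, false, [], [10], 0, [], []⟩
def c10 : Clm := ⟨0, 0, false, [], [13], 0, [], []⟩
def c11 : Clm := ⟨0, 1, true, [], [], 1, [], []⟩
def c12 : Clm := ⟨1, 2, true, [2], [], 1, [], []⟩
def c13 : Clm := ⟨2, 0, false, [], [], 999, [], []⟩
def c14 : Clm := ⟨1, 0, true, [], [], 5, [([], 11, [])], []⟩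
def c15 : Clm := ⟨2, 1, true, [], [2], 5, [([], 12, [])], []⟩
def c16 : Clm := ⟨0, 1, true, [], [2], 4, [([27], 15, [])], []⟩
def c17 : Clm := ⟨1, 1, false, [2], [2], 3, [([], 16, []), ([], 11, [])], []⟩
def c18 : Clm := ⟨1, 1, false, [], [7,9,10], 3, [([], 11, []), ([1,15,11,19,15,17,13,10,14,18,12,10,14,0], 11, [7,9,10])], []⟩
def c19 : Clm := ⟨1, 1, false, [], [5,7,9,3,7,11], 3, [([], 11, []), ([1,15,11,19,15,21,15,20,18,12,2,10,14], 11, [5,7,9,3,7,11])], []⟩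
def c20 : Clm := ⟨1, 1, false, [], [9,14,12,14], 3, [([], 11, []), ([15,11,19,21,11,15,7,14,10,4,20,18,10,14], 11, [9,14,12,14])], []⟩
def c21 : Clm := ⟨1, 1, false, [], [14,5,7], 3, [([], 11, []), ([15,11,21,19,15,13,15,18,14,20,18,10,14,0], 11, [14,5,7])], []⟩
def c22 : Clm := ⟨1, 1, false, [], [4,13,9], 3, [([], 11, []), ([1,15,11,21,11,21,1,19,8,10,0,20,2,10,14], 11, [4,13,9])], []⟩
def c23 : Clm := ⟨1, 1, true, [8], [3,7,12,2,8,7], 9, [([34], 15, []), ([26,12,14,2], 14, [12])], []⟩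
def c24 : Clm := ⟨1, 1, true, [3,7,12,2,8,7], [8], 5, [([], 23, [])], []⟩
def c25 : Clm := ⟨1, 3, true, [8,6,13,10,8,1], [], 1, [], []⟩
def c26 : Clm := ⟨3, 1, true, [], [8,6,13,1,10,8], 5, [([], 25, [])], []⟩
def c27 : Clm := ⟨3, 3, false, [], [10,9,11,13,7], 3, [([], 25, []), ([41,37,43,37,40,36,43], 25, [10,9,11,13,7])], []⟩
def c28 : Clm := ⟨3, 3, false, [], [5,11], 3, [([], 25, []), ([37,35,36], 25, [5,11])], []⟩
def c29 : Clm := ⟨3, 3, false, [], [7,9,7,13], 3, [([], 25, []), ([44,42,39,42,44], 25, [7,9,7,13])], []⟩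
def c30 : Clm := ⟨3, 3, false, [], [13,3,14,13,9,14,13,3,14], 3, [([], 25, []), ([45,36,41,44,42,36], 25, [13,3,14,13,9,14,13,3,14])], []⟩
def c31 : Clm := ⟨3, 3, true, [8], [4,5,14,13,9,14,13,10,9,14,2,8,7], 9, [([], 25, []), ([37], 26, [4,5,9,10,14,13,9,14,13,14])], []⟩
def c32 : Clm := ⟨3, 3, true, [3,8], [3,14,13,10,14,13,9,10,14,13,2,8,7], 9, [([], 25, [3]), ([40,37], 26, [3,14,13,9,14,13,14,13,10,9])], []⟩
def c33 : Clm := ⟨3, 1, true, [7,8], [3,7,5,13,8,14,5,13,14,13,14,8,7], 9, [([], 25, [7]), ([45,43,34,42], 24, [3,14,13,10,14,13,4,14,13,9])], []⟩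
def c34 : Clm := ⟨1, 3, true, [3,7,5,13,8,14,5,13,14,13,14,8,7], [7,8], 5, [([], 33, [])], []⟩
def c35 : Clm := ⟨3, 3, false, [7,8], [4,13,14,13,9,14,12,13,10,14,8,7], 3, [([], 34, []), ([42,34,43,36,45], 25, [4,13,14,13,9,14,12,13,10,14])], []⟩
def c36 : Clm := ⟨3, 1, true, [3,7,8], [3,7,13,9,3,1,8,10,13,6,8,7,13,1], 9, [([], 25, [3,7]), ([44,43,34,42], 24, [13,3,14,5,13,14,13,3,14])], []⟩
def c37 : Clm := ⟨1, 3, true, [3,7,13,9,3,1,8,10,13,6,8,7,13,1], [3,7,8], 5, [([], 36, [])], []⟩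
def c38 : Clm := ⟨3, 3, false, [3,7,8], [3,5,14,5,13,14,13,4,10,14,2,8,7], 3, [([], 37, []), ([42,37,34,43,44], 25, [3,5,10,14,13,14,5,13,4,14])], []⟩
def c39 : Clm := ⟨1, 4, true, [8,10,6,8], [], 1, [], []⟩
def c40 : Clm := ⟨4, 1, true, [], [8,6,10,8], 5, [([], 39, [])], []⟩
def c41 : Clm := ⟨4, 4, false, [], [5,9,14,5], 3, [([], 39, []), ([37,44,35,45,40], 39, [5,9,14,5])], []⟩
def c42 : Clm := ⟨4, 4, false, [], [3,7,9,12,14], 3, [([], 39, []), ([35,45,41,44,37], 39, [3,7,9,12,14])], []⟩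
def c43 : Clm := ⟨4, 4, false, [], [14,5,12,10], 3, [([], 39, []), ([42,36,45,45,43,36], 39, [14,5,12,10])], []⟩
def c44 : Clm := ⟨4, 4, false, [], [4], 3, [([], 39, []), ([37,43,43,43,36,34], 39, [4])], []⟩
def c45 : Clm := ⟨4, 4, true, [8], [3,2,8,7], 9, [([], 39, []), ([39,34], 40, [7])], []⟩
def c46 : Clm := ⟨4, 4, true, [3,2,8,7], [8], 5, [([], 45, [])], []⟩
def c47 : Clm := ⟨4, 1, true, [7,8], [3,9,14,2,8,6,5,10,8,10], 9, [([], 39, [7]), ([34], 24, [10,14,12])], []⟩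
def c48 : Clm := ⟨1, 4, true, [3,9,14,2,8,6,5,10,8,10], [7,8], 5, [([], 47, [])], []⟩
def c49 : Clm := ⟨4, 4, false, [7,8], [5,10,9,7,14,5,8,7], 3, [([], 48, []), ([40,42,36], 39, [5,10,9,7,14,5])], []⟩
def c50 : Clm := ⟨1, 5, true, [8,10,6,13,6,8], [], 1, [], []⟩
def c51 : Clm := ⟨5, 1, true, [], [8,6,10,13,6,8], 5, [([], 50, [])], []⟩
def c52 : Clm := ⟨5, 5, false, [], [4,7,9,7], 3, [([], 50, []), ([45,45,43,39,43,44,44,34], 50, [4,7,9,7])], []⟩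
def c53 : Clm := ⟨5, 5, false, [], [10,14,13,14,5,13,14,12,13], 3, [([], 50, []), ([45,36,42,37,45,42,37,43,36], 50, [10,14,13,14,5,13,14,12,13])], []⟩
def c54 : Clm := ⟨5, 5, false, [], [10,14,13,9,14,13,14,13,4], 3, [([], 50, []), ([39,44,42,36,45,43,36,42], 50, [10,14,13,9,14,13,14,13,4])], []⟩
def c55 : Clm := ⟨5, 5, true, [8], [3,7,5,9,7,2,8,7], 9, [([], 50, []), ([38,38], 51, [4,7,5,9])], []⟩
def c56 : Clm := ⟨5, 1, true, [7,8], [3,5,7,8,6,10,13,3,6,8,7], 9, [([], 50, [7]), ([34], 24, [14,13,10,14,12])], []⟩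
def c57 : Clm := ⟨1, 5, true, [3,5,7,8,6,10,13,3,6,8,7], [7,8], 5, [([], 56, [])], []⟩
def c58 : Clm := ⟨5, 5, false, [7,8], [4,13,10,14,12,13,14,5,13,14,8,7], 3, [([], 57, []), ([44,43,39,45], 50, [4,13,10,14,12,13,14,5,13,14])], []⟩
def c59 : Clm := ⟨5, 3, true, [14,8], [5,10,9,12,14,13,10,14,13,2,8,7], 9, [([], 50, [14]), ([37], 26, [5,9,12,10,14,13,9,14,13])], []⟩
def c60 : Clm := ⟨3, 5, true, [5,10,9,12,14,13,10,14,13,2,8,7], [14,8], 5, [([], 59, [])], []⟩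
def c61 : Clm := ⟨5, 4, true, [3,14,8], [13,4,14,12,2,8,7], 9, [([], 50, [3,14]), ([38,34], 40, [4,7,13,3,14,12])], []⟩
def c62 : Clm := ⟨4, 5, true, [13,4,14,12,2,8,7], [3,14,8], 5, [([], 61, [])], []⟩
def c63 : Clm := ⟨5, 5, true, [5,14,8], [3,5,14,12,2,8,7], 9, [([], 50, [5,14]), ([43,34,42,34], 51, [5,7,14,12])], []⟩
def c64 : Clm := ⟨5, 5, true, [3,10,14,8], [5,7,10,9,12,14,5,2,8,7], 9, [([], 50, [3,10,14]), ([37,40,43,34,37], 51, [7,5,10,9,14,5])], []⟩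
def c65 : Clm := ⟨5, 5, true, [5,7,10,9,12,14,5,2,8,7], [3,10,14,8], 5, [([], 64, [])], []⟩
def c66 : Clm := ⟨3, 3, true, [5,10,9,14,13,10,14,13,14,8,6,7], [9,13,10,14,13,9,3,14,13,14,2,8,6,7], 9, [([], 59, [3,5,14]), ([116,109], 60, [14,5,11,14])], []⟩
def c67 : Clm := ⟨3, 3, true, [9,13,10,14,13,9,3,14,13,14,2,8,6,7], [5,10,9,14,13,10,14,13,14,8,6,7], 5, [([], 66, [])], []⟩
def c68 : Clm := ⟨5, 5, true, [3,11,8,6,5], [4,7,9,7,5,2,8,6,5], 11, [([], 60, [5,7,14]), ([77,71,56], 59, [5,7,14])], []⟩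
def c69 : Clm := ⟨5, 5, true, [10,14,5,7,2,8,6,10,8,14,11], [12,14,11,9,2,8,6,7,10,8], 11, [([], 60, [5,7,10,14,5]), ([61,70,54], 59, [5,7,10,14])], []⟩
def c70 : Clm := ⟨5, 5, true, [12,14,11,9,2,8,6,7,10,8], [10,14,5,7,2,8,6,10,8,14,11], 5, [([], 69, [])], []⟩
def c71 : Clm := ⟨5, 5, true, [3,14,5,8,6,13,6,5,8,3,7], [11,9,7,14,8,6,5,13,6,8], 11, [([], 60, [5,14,5,13,14,5]), ([61,76,55,76], 59, [5,14,13,14])], []⟩
def c72 : Clm := ⟨5, 5, true, [11,9,7,14,8,6,5,13,6,8], [3,14,5,8,6,13,6,5,8,3,7], 5, [([], 71, [])], []⟩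
def c73 : Clm := ⟨4, 4, true, [7,9,7,9,13,8,6,7], [3,7,9,13,7,9,2,8,6,7], 9, [([], 61, [3,5,14]), ([117,108,116,108], 62, [14,5,11,14])], []⟩
def c74 : Clm := ⟨4, 4, true, [3,7,9,13,7,9,2,8,6,7], [7,9,7,9,13,8,6,7], 5, [([], 73, [])], []⟩
def c75 : Clm := ⟨5, 5, true, [11,14,13,14,12,8,6], [3,11,9,14,13,14,2,8,6,7], 11, [([], 62, [9,3,13,14,12]), ([87,98,88,99,82,87], 61, [3,13,14])], []⟩
def c76 : Clm := ⟨5, 5, true, [3,11,9,14,13,14,2,8,6,7], [11,14,13,14,12,8,6], 5, [([], 75, [])], []⟩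
def c77 : Clm := ⟨5, 5, true, [7,11,9,7,8,6,5], [7,9,3,7,5,2,8,6,5], 11, [([], 62, [5,9,7,12,14]), ([99,99,82,87,98,84], 61, [5,7,14])], []⟩
def c78 : Clm := ⟨5, 5, true, [14,12,14,5,8,6,8,13,14,5,8,7], [4,9,14,11,8,6,13,3,6,8], 11, [([], 62, [3,5,14,13,14,5,12,14]), ([87,88,87,98,98,82], 61, [5,11,14,13,9,7,14])], []⟩
def c79 : Clm := ⟨5, 5, true, [4,9,14,11,8,6,13,3,6,8], [14,12,14,5,8,6,8,13,14,5,8,7], 5, [([], 78, [])], []⟩
def c80 : Clm := ⟨5, 5, true, [5,10,14,13,3,9,14,8,6,7], [4,12,14,5,7,13,8,6], 9, [([108,106,104], 65, [13,7,14,12]), ([108,108,104], 76, [5,14,5,7,12])], []⟩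
def c81 : Clm := ⟨5, 5, true, [4,12,14,5,7,13,8,6], [5,10,14,13,3,9,14,8,6,7], 5, [([], 80, [])], []⟩
def c82 : Clm := ⟨4, 4, true, [7,5,9,14,2,8,6,10,13,1,8,10], [3,5,11,12,2,8,10,14,13,1,8,9], 11, [([], 74, [5,13,4,14,13,14,5,13]), ([99,99,82], 74, [5,13,14,13,9,14,5,11])], []⟩
def c83 : Clm := ⟨5, 5, true, [9,14,13,14,12,10,4,1,2,8,7,10], [4,7,9,14,13,10,14,5,1,8,10], 9, [([108,108,108,104], 76, [7,10,4,14]), ([108,108,106,104], 76, [7,10,4,14,5])], []⟩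
def c84 : Clm := ⟨5, 5, true, [4,7,9,14,13,10,14,5,1,8,10], [9,14,13,14,12,10,4,1,2,8,7,10], 5, [([], 83, [])], []⟩
def c85 : Clm := ⟨5, 5, true, [9,11,14,13,14,13,10,12,2,8,6,10,8,13,1,9,7], [14,5,11,13,14,13,2,8,6,10,8,13,1], 11, [([], 84, [4,13,14,5,13,14,13,14]), ([117,109,109,104], 76, [5,13,14,13,4,14,11])], []⟩
def c86 : Clm := ⟨5, 5, true, [14,5,11,13,14,13,2,8,6,10,8,13,1], [9,11,14,13,14,13,10,12,2,8,6,10,8,13,1,9,7], 5, [([], 85, [])], []⟩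
def c87 : Clm := ⟨5, 5, true, [9,13,14,13,14,12,13,10,2,8,6,10,13,1,8,10], [10,12,14,13,10,14,13,2,8,6,10,8,9,13,1], 11, [([], 84, [4,5,13,3,14,13,10,14,13,14]), ([117,106,104], 76, [13,4,10,14,11,13,14])], []⟩
def c88 : Clm := ⟨5, 5, true, [3,14,5,13,14,13,3,14,5,8,14,11,13,1], [7,14,5,13,14,11,13,9,14,2,8,6,13,1], 9, [([108,108,108,104], 76, [5,13,14,13,4,10,14,11]), ([108,104,108], 76, [3,10,13,9,14,13,14,12,13])], []⟩
def c89 : Clm := ⟨5, 5, true, [7,14,5,13,14,11,13,9,14,2,8,6,13,1], [3,14,5,13,14,13,3,14,5,8,14,11,13,1], 5, [([], 88, [])], []⟩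
def c90 : Clm := ⟨5, 5, true, [3,10,14,13,4,9,14,13,10,14,8,10,14,13,1,8,10], [9,3,14,13,14,13,3,2,8,6,10,8,9,13,1], 11, [([], 84, [4,10,13,3,14,13,9,14,13,14]), ([117,104,106,104], 76, [7,9,3,13,10,14,13,14])], []⟩
def c91 : Clm := ⟨5, 5, true, [9,3,14,13,14,13,3,2,8,6,10,8,9,13,1], [3,10,14,13,4,9,14,13,10,14,8,10,14,13,1,8,10], 5, [([], 90, [])], []⟩
def c92 : Clm := ⟨5, 5, true, [4,5,11,13,8,14,13,6,5,8,10,8], [4,5,9,2,8,14,13,6,8,10,8], 11, [([116,106], 79, [4,10,14,13,3]), ([109,104,106], 79, [10,14,5,12])], []⟩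
def c93 : Clm := ⟨5, 5, true, [5,11,13,8,14,13,6,8,10,8,12], [3,7,9,7,9,11,8,14,13,6,8,10,8], 11, [([116,106], 79, [9,10,14,13,4]), ([116,104,108], 79, [9,10,14,11])], []⟩
def c94 : Clm := ⟨5, 5, true, [4,7,12,14,13,8,6,7,10,13,14,8], [10,14,13,7,9,14,13,14,13,8,6,13,14,13,8,11,14,13], 9, [([108], 81, [4,10,13,14]), ([117,108,104], 91, [12,14,13,9,7,14,5])], []⟩
def c95 : Clm := ⟨5, 5, true, [3,10,14,13,9,7,14,13,14,5,8,6,10,13,6,8,6,13,2], [3,9,11,14,5,8,6,13,6,8,3,13], 11, [([109,106], 86, [9,14,13,3,10,9,14,5]), ([116,104,106], 81, [14,13,4,10,14,11,13,14])], []⟩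
def c96 : Clm := ⟨5, 5, true, [3,9,11,14,5,8,6,13,6,8,3,13], [3,10,14,13,9,7,14,13,14,5,8,6,10,13,6,8,6,13,2], 5, [([], 95, [])], []⟩
def c97 : Clm := ⟨5, 5, true, [3,4,7,12,14,13,8,6,10,13,14,8], [3,9,7,12,14,5,1,8,10,13,6,13,14,8], 9, [([108], 81, [5,14,13,10,4,14,11]), ([104,117], 96, [7,9,7])], []⟩
def c98 : Clm := ⟨5, 3, true, [4,7,9,10,14,13,14,2,8,6,5], [5,9,14,13,3,10,14,5,2,8,6,5,11], 9, [([], 84, [5,7,10,4,14]), ([109,106], 60, [7,9,13,7,14,5])], []⟩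
def c99 : Clm := ⟨3, 5, true, [5,9,14,13,3,10,14,5,2,8,6,5,11], [4,7,9,10,14,13,14,2,8,6,5], 5, [([], 98, [])], []⟩
def c100 : Clm := ⟨5, 5, true, [3,14,12,14,5,8,6,10,13,6,8,6,13,8,3], [4,10,14,13,14,5,13,14,12,8,6,10,8,13,6,8,13,3], 11, [([], 70, [3,5,9,13,14,13,10]), ([117,104,109], 86, [13,9,7,14,13,10,9,14,5])], []⟩
def c101 : Clm := ⟨5, 5, true, [4,10,14,13,14,5,13,14,12,8,6,10,8,13,6,8,13,3], [3,14,12,14,5,8,6,10,13,6,8,6,13,8,3], 5, [([], 100, [])], []⟩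
def c102 : Clm := ⟨5, 5, true, [9,3,14,13,10,14,13,9,14,1,8,10,13,8,6,13,8], [7,9,7,13,1,8,10,13,6,13,8,14,13,7], 9, [([], 89, [3,13,9,7,14,13,10,14]), ([116], 71, [14,13,14,13,7])], []⟩
def c103 : Clm := ⟨1, 6, true, [8,6,13,6,8], [], 1, [], []⟩
def c104 : Clm := ⟨6, 1, true, [], [8,6,13,6,8], 5, [([], 103, [])], []⟩
def c105 : Clm := ⟨6, 6, false, [], [5,11], 3, [([], 103, []), ([37,35,41,39,40,37,34], 103, [5,11])], []⟩
def c106 : Clm := ⟨6, 6, false, [], [5,9,14,11], 3, [([], 103, []), ([42,45,45,39,44,44,43,38], 103, [5,9,14,11])], []⟩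
def c107 : Clm := ⟨6, 6, false, [], [3,9,7,12,14], 3, [([], 103, []), ([43,35,42,45,37,45,42,37,34], 103, [3,9,7,12,14])], []⟩
def c108 : Clm := ⟨6, 6, true, [8], [3,7,9,7,2,8,7], 9, [([], 103, []), ([38,34], 104, [4,7,9])], []⟩
def c109 : Clm := ⟨6, 6, true, [3,8], [4,2,8,7], 9, [([], 103, [3]), ([44,40,45], 104, [3,4,7])], []⟩
def c110 : Clm := ⟨6, 1, true, [7,8], [3,7,8,6,13,3,6,8,7], 9, [([], 103, [7]), ([34], 24, [14,5,13,14,12])], []⟩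
def c111 : Clm := ⟨1, 6, true, [3,7,8,6,13,3,6,8,7], [7,8], 5, [([], 110, [])], []⟩
def c112 : Clm := ⟨6, 6, false, [7,8], [3,4,5,11,12,14,8,7], 3, [([], 111, []), ([34,42,37,42,36], 103, [3,4,5,11,12,14])], []⟩
def c113 : Clm := ⟨6, 6, true, [10,8], [4,10,12,14,13,2,8,7], 9, [([], 103, [10]), ([44,42,34,43,45,42], 104, [3,12,10,14,13,4])], []⟩
def c114 : Clm := ⟨6, 6, true, [4,10,12,14,13,2,8,7], [10,8], 5, [([], 113, [])], []⟩
def c115 : Clm := ⟨6, 1, true, [14,8], [9,7,11,13,9,1,8,7,13,6,13,14,8,7], 9, [([], 103, [14]), ([43,45,43,34,42], 24, [13,14,13,10,14,13,9,10])], []⟩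
def c116 : Clm := ⟨1, 6, true, [9,7,11,13,9,1,8,7,13,6,13,14,8,7], [14,8], 5, [([], 115, [])], []⟩
def c117 : Clm := ⟨6, 6, false, [14,8], [5,11,9,3,7,8,14], 3, [([], 116, []), ([43,36,34,42,44,34,36], 103, [5,11,9,3,7])], []⟩
def c118 : Clm := ⟨6, 5, true, [7,10,8], [3,9,10,11,9,7,2,8,7], 9, [([], 103, [7,10]), ([37,45,36,45,37], 51, [9,3,10,11,9])], []⟩
def c119 : Clm := ⟨5, 6, true, [3,9,10,11,9,7,2,8,7], [7,10,8], 5, [([], 118, [])], []⟩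
def c120 : Clm := ⟨6, 5, true, [13,14,8], [13,3,9,14,12,2,8,7], 9, [([], 103, [13,14]), ([37,40,37], 51, [7,13,9,14])], []⟩
def c121 : Clm := ⟨5, 6, true, [13,3,9,14,12,2,8,7], [13,14,8], 5, [([], 120, [])], []⟩
def c122 : Clm := ⟨6, 3, true, [3,13,14,8], [3,5,14,12,2,8,7], 9, [([], 103, [3,13,14]), ([43,34,42,44], 26, [5,7,14,12])], []⟩
def c123 : Clm := ⟨3, 6, true, [3,5,14,12,2,8,7], [3,13,14,8], 5, [([], 122, [])], []⟩
def c124 : Clm := ⟨6, 4, true, [5,13,14,8], [13,3,4,14,12,2,8,7], 9, [([], 103, [5,13,14]), ([43,34,42,40,44], 40, [4,7,13,14,12])], []⟩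
def c125 : Clm := ⟨4, 6, true, [13,3,4,14,12,2,8,7], [5,13,14,8], 5, [([], 124, [])], []⟩
def c126 : Clm := ⟨6, 5, true, [10,13,14,8], [4,5,11,13,14,13,14,13,10,2,8,7], 9, [([], 103, [10,13,14]), ([34,42,37,44,42], 51, [5,11,13,4,14,13,14,13,10])], []⟩
def c127 : Clm := ⟨5, 6, true, [4,5,11,13,14,13,14,13,10,2,8,7], [10,13,14,8], 5, [([], 126, [])], []⟩
def c128 : Clm := ⟨6, 6, true, [13,3,14,8], [4,9,11,14,13,14,2,8,7], 9, [([], 103, [13,3,14]), ([45,43,38], 104, [9,14,13,4,14])], []⟩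
def c129 : Clm := ⟨6, 6, true, [13,10,14,8], [9,7,14,13,10,14,5,2,8,7], 9, [([], 103, [13,10,14]), ([42,45,42,45,43,36], 104, [9,3,11,14,13,10,14,5])], []⟩
def c130 : Clm := ⟨6, 6, true, [9,7,14,13,10,14,5,2,8,7], [13,10,14,8], 5, [([], 129, [])], []⟩
def c131 : Clm := ⟨6, 6, true, [13,14,13,14,8], [3,9,13,14,12,13,10,14,13,14,2,8,7], 9, [([], 103, [13,14,13,14]), ([42,39,45,42,44,34], 104, [3,9,14,11,13,10,14,13,14,5])], []⟩
def c132 : Clm := ⟨6, 6, true, [3,9,13,14,12,13,10,14,13,14,2,8,7], [13,14,13,14,8], 5, [([], 131, [])], []⟩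
def c133 : Clm := ⟨6, 6, true, [3,13,14,13,14,8], [13,4,14,13,14,5,2,8,7], 9, [([], 103, [3,13,14,13,14]), ([42,44,43,44,42,38], 104, [4,13,14,13,14,5,12])], []⟩
def c134 : Clm := ⟨6, 4, true, [13,14,13,10,14,8], [10,9,11,13,14,13,14,2,8,7], 9, [([], 103, [13,14,13,10,14]), ([42,45,36], 40, [10,9,13,14,12,13,14])], []⟩
def c135 : Clm := ⟨4, 6, true, [10,9,11,13,14,13,14,2,8,7], [13,14,13,10,14,8], 5, [([], 134, [])], []⟩
def c136 : Clm := ⟨6, 6, true, [3,13,14,13,10,14,8], [13,4,14,13,10,9,14,2,8,7], 9, [([], 103, [3,13,14,13,10,14]), ([34,37,42,44,37,43,34], 104, [4,13,10,9,14,13,14])], []⟩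
def c137 : Clm := ⟨6, 6, true, [3,10,9,12,14,13,3,8,10,14,8,12], [10,11,9,14,13,10,2,8,6,10,8,6], 9, [([234], 114, [9,3,10,9,13,14]), ([234,234,212], 114, [4,11,9,14,12,10])], []⟩
def c138 : Clm := ⟨6, 5, true, [4,14,12,10,13,2,8,10,14,8], [3,5,9,7,10,8,6,10,8,11,9,7], 9, [([234], 114, [3,10,9,13,10,14,11]), ([210,224], 119, [3,10,9,14,5,11,14])], []⟩
def c139 : Clm := ⟨5, 6, true, [3,5,9,7,10,8,6,10,8,11,9,7], [4,14,12,10,13,2,8,10,14,8], 5, [([], 138, [])], []⟩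
def c140 : Clm := ⟨5, 6, true, [7,9,3,7,13,2,8,14,13,14,13,8,6,8], [3,10,9,7,12,8,6,10,8], 11, [([], 72, [9,3,14,13,14]), ([117,106], 118, [10,11,14])], []⟩
def c141 : Clm := ⟨6, 5, true, [3,10,9,7,12,8,6,10,8], [7,9,3,7,13,2,8,14,13,14,13,8,6,8], 5, [([], 140, [])], []⟩
def c142 : Clm := ⟨5, 6, true, [10,13,14,13,7,14,5,13,14,8,6,13,6,8,13,6,5,12], [7,10,13,3,8,6,7,10,8,9], 11, [([], 96, [7,9,7,13,14,13,14]), ([117,106], 118, [3,13,4,10,9,14])], []⟩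
def c143 : Clm := ⟨6, 5, true, [7,10,13,3,8,6,7,10,8,9], [10,13,14,13,7,14,5,13,14,8,6,13,6,8,13,6,5,12], 5, [([], 142, [])], []⟩
def c144 : Clm := ⟨6, 6, true, [3,5,12,14,5,8,6,10,13,6,8,6,13,1,2], [4,5,10,9,7,1,8,13,6,10,8,13,1], 11, [([], 140, [10,13,14,11,13,9,14,13]), ([104,106], 118, [14,13,9,14,13,14])], []⟩
def c145 : Clm := ⟨6, 6, true, [4,5,10,9,7,1,8,13,6,10,8,13,1], [3,5,12,14,5,8,6,10,13,6,8,6,13,1,2], 5, [([], 144, [])], []⟩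
def c146 : Clm := ⟨6, 6, true, [3,7,13,9,7,1,8,10,8,13,6,8,13,1,7], [3,10,13,4,9,7,8,14,13,14,5,13,14,8], 11, [([], 119, [14,12,13,14,5,13,14]), ([117,109], 118, [4,5,9,14,13,10,12,14,13,14])], []⟩
def c147 : Clm := ⟨6, 6, true, [3,10,13,4,9,7,8,14,13,14,5,13,14,8], [3,7,13,9,7,1,8,10,8,13,6,8,13,1,7], 5, [([], 146, [])], []⟩
def c148 : Clm := ⟨6, 6, true, [3,4,13,7,9,7,8,6,5], [3,7,9,7,13,3,2,8,6,5], 11, [([], 121, [4,5,7,14,12]), ([116,106,104], 120, [5,7,14])], []⟩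
def c149 : Clm := ⟨5, 6, true, [5,9,3,8,6,13,6,8,10,8,13,7], [13,4,14,11,2,8,6,7,10,8], 11, [([], 72, [12,14,12,13,10]), ([117,104,108], 120, [4,5,7,14,12,10])], []⟩
def c150 : Clm := ⟨6, 5, true, [13,4,14,11,2,8,6,7,10,8], [5,9,3,8,6,13,6,8,10,8,13,7], 5, [([], 149, [])], []⟩
def c151 : Clm := ⟨5, 6, true, [7,13,9,7,14,5,8,14,11,13,14,8], [5,11,12,13,1,8,10,13,6,13,6,8,14,5], 9, [([], 120, [5,14,13,14]), ([234,212], 147, [9,13,10,4,14,13,14,5,13])], []⟩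
def c152 : Clm := ⟨6, 5, true, [5,11,12,13,1,8,10,13,6,13,6,8,14,5], [7,13,9,7,14,5,8,14,11,13,14,8], 5, [([], 151, [])], []⟩
def c153 : Clm := ⟨6, 6, true, [3,4,13,9,8,6,13,6,10,8,14,11], [7,11,13,14,8,6,5,13,6,8], 11, [([], 149, [10,9,13,4,10,14,5]), ([117,104,108], 120, [5,9,14,13,14])], []⟩
def c154 : Clm := ⟨6, 6, true, [7,11,13,14,8,6,5,13,6,8], [3,4,13,9,8,6,13,6,10,8,14,11], 5, [([], 153, [])], []⟩
def c155 : Clm := ⟨6, 6, true, [11,13,4,14,5,12,8,6,13,6,5,8,3,7], [4,7,13,3,14,12,8,6,5,13,6,8], 11, [([], 123, [4,5,12,14,5,13,14,5]), ([54,77,61,76,58,54], 122, [5,14,13,4,14])], []⟩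
def c156 : Clm := ⟨3, 6, true, [5,12,14,5,8,14,11,13,14,8], [3,7,9,7,8,14,13,14,5,13,8,14,5], 9, [([], 122, [5,9,14,13,14]), ([235,225,210], 145, [4,13,14,13,9,14,13,10,9])], []⟩
def c157 : Clm := ⟨6, 3, true, [3,7,9,7,8,14,13,14,5,13,8,14,5], [5,12,14,5,8,14,11,13,14,8], 5, [([], 156, [])], []⟩
def c158 : Clm := ⟨6, 6, true, [4,13,7,9,14,8,6,13,6,5,8,13,1,7], [11,13,4,14,13,9,8,6,7,10,13,6,8], 11, [([], 123, [3,13,14,13,10,14,13,4,9]), ([77,54,71,54], 122, [5,13,9,14,13,10,14])], []⟩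
def c159 : Clm := ⟨6, 6, true, [11,13,4,14,13,9,8,6,7,10,13,6,8], [4,13,7,9,14,8,6,13,6,5,8,13,1,7], 5, [([], 158, [])], []⟩
def c160 : Clm := ⟨4, 6, true, [13,3,4,14,5,12,2,8,14,13,14,8], [4,5,9,11,2,8,6,13,6,13,8,14,5], 9, [([], 124, [5,14,13,3,14]), ([213,235], 158, [14,13,10,14,13,3,9,10])], []⟩
def c161 : Clm := ⟨6, 4, true, [4,5,9,11,2,8,6,13,6,13,8,14,5], [13,3,4,14,5,12,2,8,14,13,14,8], 5, [([], 160, [])], []⟩
def c162 : Clm := ⟨6, 6, true, [4,7,5,13,14,12,8,14,13,6,13,1,8,9,7], [4,5,13,3,14,13,9,8,6,10,13,3,6,8], 11, [([], 125, [10,13,3,14,13,9,10,14,5]), ([98,98,84,98,98,84], 124, [3,13,14,13,10,14,12])], []⟩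
def c163 : Clm := ⟨5, 6, true, [7,5,10,4,8,6], [4,10,9,13,7,5,2,8,6,7], 11, [([108,106,104], 65, [3,14]), ([117,109,106,104,117], 126, [3,14])], []⟩
def c164 : Clm := ⟨6, 5, true, [4,10,9,13,7,5,2,8,6,7], [7,5,10,4,8,6], 5, [([], 163, [])], []⟩
def c165 : Clm := ⟨6, 6, true, [4,9,14,13,10,14,13,9,14,13,1,8,10,13,6,5,8,13,1], [3,9,13,14,13,10,14,13,14,1,8,13,6,10,8,13,1,7], 9, [([235,214,224], 132, [9,14,13,9,14,13,7,14]), ([224,212,210], 132, [5,14,5,13,3,14,13,4,14])], []⟩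
def c166 : Clm := ⟨6, 6, true, [3,9,13,14,13,10,14,13,14,1,8,13,6,10,8,13,1,7], [4,9,14,13,10,14,13,9,14,13,1,8,10,13,6,5,8,13,1], 5, [([], 165, [])], []⟩
def c167 : Clm := ⟨4, 6, true, [13,10,9,14,13,4,14,5,8,6,13,6,10,8,3], [8,14,13,14,8,13,6,13], 9, [([], 134, [4,9,10,14,13,14]), ([224], 158, [3,10,9,14,13,7,10,14,5])], []⟩
def c168 : Clm := ⟨6, 4, true, [8,14,13,14,8,13,6,13], [13,10,9,14,13,4,14,5,8,6,13,6,10,8,3], 5, [([], 167, [])], []⟩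
def c169 : Clm := ⟨4, 6, true, [3,10,9,13,14,13,3,14,5,8,6,13,6,10,8,3], [3,7,9,7,12,8,14,13,2,6,8,13,6,13], 9, [([], 134, [4,5,9,10,14,13,14]), ([234], 145, [9,10,11,14,13,14])], []⟩
def c170 : Clm := ⟨6, 4, true, [3,7,9,7,12,8,14,13,2,6,8,13,6,13], [3,10,9,13,14,13,3,14,5,8,6,13,6,10,8,3], 5, [([], 169, [])], []⟩
def c171 : Clm := ⟨6, 3, true, [5,13,3,8,6,5,10,8,13,14,8,13,1], [5,14,13,9,10,14,12,8,6,10,13,6,8,9,7,13], 9, [([], 142, [9,13,14,13,10,14]), ([104,109,106], 60, [4,13,3,14,13,10,14,13,9])], []⟩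
def c172 : Clm := ⟨3, 6, true, [5,14,13,9,10,14,12,8,6,10,13,6,8,9,7,13], [5,13,3,8,6,5,10,8,13,14,8,13,1], 5, [([], 171, [])], []⟩
def c173 : Clm := ⟨3, 7, true, [1], [], 1, [], []⟩
def c174 : Clm := ⟨7, 3, true, [], [1], 5, [([], 173, [])], []⟩
def c175 : Clm := ⟨7, 7, false, [], [3,9,13,14,13,9,3], 3, [([], 173, []), ([58,71,76], 173, [3,9,13,14,13,9,3])], []⟩
def c176 : Clm := ⟨7, 7, false, [], [3,9,13,10,14,13,9,3], 3, [([], 173, []), ([55,61], 173, [3,9,13,10,14,13,9,3])], []⟩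
def c177 : Clm := ⟨7, 7, false, [], [7,9,7,13,14,13], 3, [([], 173, []), ([57,71,57,76], 173, [7,9,7,13,14,13])], []⟩
def c178 : Clm := ⟨7, 7, false, [], [3,7,13,14,13,9], 3, [([], 173, []), ([57,77,70], 173, [3,7,13,14,13,9])], []⟩
def c179 : Clm := ⟨7, 7, true, [8], [3,9,13,14,13,9,2,8,7], 9, [([], 173, []), ([70], 174, [7,5,13,14,5,13])], []⟩
def c180 : Clm := ⟨7, 7, true, [3,9,13,14,13,9,2,8,7], [8], 5, [([], 179, [])], []⟩
def c181 : Clm := ⟨7, 3, true, [7,8], [3,9,13,3,10,14,13,9,14,13,14,1,2,8], 9, [([], 173, [7]), ([60,56,55], 67, [9,11,14,5])], []⟩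
def c182 : Clm := ⟨3, 7, true, [3,9,13,3,10,14,13,9,14,13,14,1,2,8], [7,8], 5, [([], 181, [])], []⟩
def c183 : Clm := ⟨7, 7, false, [7,8], [3,5,7,8,7], 3, [([], 182, []), ([71,59], 173, [3,5,7])], []⟩
def c184 : Clm := ⟨7, 5, true, [14,8], [3,4,7,2,8,6,5,11], 9, [([], 173, [14]), ([76,59], 59, [4,14,5,11])], []⟩
def c185 : Clm := ⟨5, 7, true, [3,4,7,2,8,6,5,11], [14,8], 5, [([], 184, [])], []⟩
def c186 : Clm := ⟨7, 7, false, [14,8], [11,14,13,9,7,8,6,13,6,8,3,13,14], 3, [([], 185, []), ([117,108], 185, [13,14,5,13,14,13])], []⟩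
def c187 : Clm := ⟨7, 6, true, [3,14,8], [13,3,4,14,5,2], 9, [([], 173, [3,14]), ([77,58,70], 122, [3,4,5,7])], []⟩
def c188 : Clm := ⟨6, 7, true, [13,3,4,14,5,2], [3,14,8], 5, [([], 187, [])], []⟩
def c189 : Clm := ⟨7, 7, true, [9,11,13,14,5,8,10,14,8,12], [4,5,13,14,12,10,8,10,8,14,8,12,14], 9, [([350], 180, [3,7,10,13,14]), ([352,355,366,352], 180, [10,11,13,9,14,11])], []⟩
def c190 : Clm := ⟨4, 7, true, [11,13,14,12,2], [9,3,7,9,2,8,6,7], 11, [([], 61, [3,4,5]), ([116,109], 184, [9,3,12,14])], []⟩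
def c191 : Clm := ⟨7, 4, true, [9,3,7,9,2,8,6,7], [11,13,14,12,2], 5, [([], 190, [])], []⟩
def c192 : Clm := ⟨3, 8, true, [14,13,8,6,13,6,8], [], 1, [], []⟩
def c193 : Clm := ⟨8, 3, true, [], [14,13,8,6,13,6,8], 5, [([], 192, [])], []⟩
def c194 : Clm := ⟨8, 8, false, [], [10,14,13,4,9,14,13,10,14,13], 3, [([], 192, []), ([77,57,71], 192, [10,14,13,4,9,14,13,10,14,13])], []⟩
def c195 : Clm := ⟨8, 8, false, [], [13,9,3,10,14,13,14,13,9], 3, [([], 192, []), ([57,77,58,55], 192, [13,9,3,10,14,13,14,13,9])], []⟩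
def c196 : Clm := ⟨8, 5, true, [7,8], [9,14,13,9,3,8,6,7,13,6,8,7], 9, [([], 192, [7]), ([60,56,55], 59, [3,5,13,14,5,13,14,11])], []⟩
def c197 : Clm := ⟨5, 8, true, [9,14,13,9,3,8,6,7,13,6,8,7], [7,8], 5, [([], 196, [])], []⟩
def c198 : Clm := ⟨8, 8, false, [7,8], [5,12,10,4,1,8,10,13,6,8,6,13,1], 3, [([], 197, []), ([107,105,117,108], 197, [9,13,7,14,13,10,14,13,9,14])], []⟩
def c199 : Clm := ⟨8, 8, true, [10,8], [4,10,12,14,5,11,12,2,8,7], 9, [([], 192, [10]), ([76,58,54], 193, [4,12,14,5,12,10])], []⟩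
def c200 : Clm := ⟨8, 8, true, [4,10,12,14,5,11,12,2,8,7], [10,8], 5, [([], 199, [])], []⟩
def c201 : Clm := ⟨8, 5, true, [14,8], [4,14,5,11,12,8,6,7,13,14,13,14,8,7], 9, [([], 192, [14]), ([56,60,76,59], 59, [10,12,13,14,13,9,14,5])], []⟩
def c202 : Clm := ⟨5, 8, true, [4,14,5,11,12,8,6,7,13,14,13,14,8,7], [14,8], 5, [([], 201, [])], []⟩
def c203 : Clm := ⟨8, 6, true, [7,10,8], [5,10,14,13,9,14,12,8,6,10,13,6,8,6,13,8,6], 9, [([], 192, [7,10]), ([60,70,55], 157, [3,14,13,10,14,12])], []⟩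
def c204 : Clm := ⟨6, 8, true, [5,10,14,13,9,14,12,8,6,10,13,6,8,6,13,8,6], [7,10,8], 5, [([], 203, [])], []⟩
def c205 : Clm := ⟨8, 6, true, [3,7,10,8], [4,13,14,13,14,12,13,10,8,6,10,8,10,13,14,8,13,6,10], 9, [([], 192, [3,7,10]), ([54,56,60], 171, [4,9,7,10,9,13])], []⟩
def c206 : Clm := ⟨6, 8, true, [4,13,14,13,14,12,13,10,8,6,10,8,10,13,14,8,13,6,10], [3,7,10,8], 5, [([], 205, [])], []⟩
def c207 : Clm := ⟨8, 8, true, [3,11,9,14,13,7,8,14,5,13,14,13,14,8,7], [3,7,12,1,8,10,13,6,5,8,13,1], 11, [([], 202, [4,14,5,13,14,13,14,5]), ([109,109,106], 196, [4,9,14,13,10,14,13,3,9,14])], []⟩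
def c208 : Clm := ⟨8, 8, true, [3,7,12,1,8,10,13,6,5,8,13,1], [3,11,9,14,13,7,8,14,5,13,14,13,14,8,7], 5, [([], 207, [])], []⟩
def c209 : Clm := ⟨3, 8, true, [5,14,13,9,14,13,10,4,1,8,13,6,13,6,8,13,7], [7,12,2], 11, [([], 59, [13,9,7,10,14,13,14,5]), ([116,106], 196, [7])], []⟩
def c210 : Clm := ⟨8, 3, true, [7,12,2], [5,14,13,9,14,13,10,4,1,8,13,6,13,6,8,13,7], 5, [([], 209, [])], []⟩
def c211 : Clm := ⟨5, 8, true, [10,9,7,13,14,13,10,14,13,1,8,13,6,13,6,8,6], [14,11,12,14,13,8,6,10,13,6,8,9,13], 11, [([108,106,104], 65, [13,3,14,5,13,4,14,13,10]), ([116,104,109], 196, [3,9,13,14,12,13,10,14,13,9])], []⟩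
def c212 : Clm := ⟨8, 5, true, [14,11,12,14,13,8,6,10,13,6,8,9,13], [10,9,7,13,14,13,10,14,13,1,8,13,6,13,6,8,6], 5, [([], 211, [])], []⟩
def c213 : Clm := ⟨8, 8, true, [3,13,7,9,8,6,10,13,3,6,8,13], [4,9,13,7,1,8,13,6,13,10,14,8], 11, [([], 211, [3,5,9]), ([116,104,109], 196, [7,9,13,14,13,10,14,13,9])], []⟩
def c214 : Clm := ⟨8, 8, true, [4,9,13,7,1,8,13,6,13,10,14,8], [3,13,7,9,8,6,10,13,3,6,8,13], 5, [([], 213, [])], []⟩
def c215 : Clm := ⟨6, 8, true, [12,13,14,13,9,3,2,8,14,13,14,13,8,14,13], [3,7,5,12,8,6,10,13,3,6,8], 11, [([], 151, [4,7,10,14,13,9,10,14]), ([104,108,108], 196, [3,5,14,13,10,14])], []⟩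
def c216 : Clm := ⟨8, 6, true, [3,7,5,12,8,6,10,13,3,6,8], [12,13,14,13,9,3,2,8,14,13,14,13,8,14,13], 5, [([], 215, [])], []⟩
def c217 : Clm := ⟨8, 8, true, [3,5,9,7,9,12,8,14,13,2,6,13,6,8,7], [7,5,10,9,1,8,10,13,8,6,8,13,1], 11, [([], 197, [13,14,13,10,14,13,4,14,13]), ([116,108,108], 196, [14,13,10,14,13,14])], []⟩
def c218 : Clm := ⟨8, 8, true, [7,5,10,9,1,8,10,13,8,6,8,13,1], [3,5,9,7,9,12,8,14,13,2,6,13,6,8,7], 5, [([], 217, [])], []⟩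
def c219 : Clm := ⟨8, 8, true, [3,14,13,10,4,1,8,7,13,6,13,1,10,8], [13,4,14,13,10,14,13,9,14,1,8,7,13,6,13,1,10,8], 9, [([390,388,391], 200, [3,14,5,13,14,12,13,14]), ([388,390,388,390], 218, [14,5,13,14,13,3,14])], []⟩
def c220 : Clm := ⟨5, 8, true, [7,9,10,14,13,14,5,2,8,6,10,9,13,6,8,6,13,6], [13,9,14,12,13,14,5,13,2,8,6,13,6,8,6,13,6,13], 9, [([], 201, [14,13,14]), ([388,390,397], 208, [5,9,3,7,14,13,14,5])], []⟩
def c221 : Clm := ⟨8, 5, true, [13,9,14,12,13,14,5,13,2,8,6,13,6,8,6,13,6,13], [7,9,10,14,13,14,5,2,8,6,10,9,13,6,8,6,13,6], 5, [([], 220, [])], []⟩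
def c222 : Clm := ⟨5, 8, true, [3,5,12,14,13,10,9,14,5,8,6,10,8,13,6,13,6,8,10,4], [11,9,7,14,8,6,5,13,6,8], 11, [([], 72, [9,7,10,13,14,13,9,14,13]), ([109,106], 201, [5,14,13,14])], []⟩
def c223 : Clm := ⟨8, 5, true, [11,9,7,14,8,6,5,13,6,8], [3,5,12,14,13,10,9,14,5,8,6,10,8,13,6,13,6,8,10,4], 5, [([], 222, [])], []⟩
def c224 : Clm := ⟨8, 8, true, [12,14,13,7,10,14,2,8,14,13,10,8,6,13,14], [9,3,14,11,8,6,13,3,6,5,10,8], 11, [([], 211, [3,12,13,10,14,13,14]), ([108,108,108], 201, [5,9,3,12,10,14,13,14,5])], []⟩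
def c225 : Clm := ⟨8, 8, true, [9,3,14,11,8,6,13,3,6,5,10,8], [12,14,13,7,10,14,2,8,14,13,10,8,6,13,14], 5, [([], 224, [])], []⟩
def c226 : Clm := ⟨5, 8, true, [5,13,4,14,13,14,11,8,6,10,8,13,6,8,13,6,10], [7,10,9,14,5,12,14,2,8,6,5], 11, [([], 138, [13,7,14,13,14,5,13,14]), ([210], 203, [7,14])], []⟩
def c227 : Clm := ⟨8, 5, true, [7,10,9,14,5,12,14,2,8,6,5], [5,13,4,14,13,14,11,8,6,10,8,13,6,8,13,6,10], 5, [([], 226, [])], []⟩
def c228 : Clm := ⟨5, 8, true, [5,7,14,5,13,14,11,13,9,2,8,10,14,13,8,6,8], [4,14,5,13,14,13,9,14,13,1,8,10,13,6,13,8,14,8,13], 11, [([], 223, [3,14,13,9,14,11,13]), ([391,388,391,388], 208, [4,7,9,14,13,14])], []⟩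
def c229 : Clm := ⟨8, 5, true, [4,14,5,13,14,13,9,14,13,1,8,10,13,6,13,8,14,8,13], [5,7,14,5,13,14,11,13,9,2,8,10,14,13,8,6,8], 5, [([], 228, [])], []⟩
def c230 : Clm := ⟨8, 8, true, [4,10,12,14,8,6,13,3,6,8,10,13,14,13], [10,14,5,11,8,14,13,2,6,8,13,10,14,13], 9, [([], 220, [3,5,13,14,13,14]), ([116,116], 221, [4,5,13,14,13,9,14])], []⟩
def c231 : Clm := ⟨3, 9, true, [8,6,13,10,8,1], [], 1, [], []⟩
def c232 : Clm := ⟨9, 3, true, [], [8,6,13,1,10,8], 5, [([], 231, [])], []⟩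
def c233 : Clm := ⟨9, 9, false, [], [12], 3, [([], 231, []), ([71,59,76,56], 231, [12])], []⟩
def c234 : Clm := ⟨9, 9, false, [], [7,13,10,9,14,5,13,14,13,14], 3, [([], 231, []), ([70,55,61], 231, [7,13,10,9,14,5,13,14,13,14])], []⟩
def c235 : Clm := ⟨9, 9, false, [], [4,14,13,9,14,13,10,14,13], 3, [([], 231, []), ([59,76,61,77], 231, [4,14,13,9,14,13,10,14,13])], []⟩
def c236 : Clm := ⟨9, 9, false, [], [4,10,14,13,14,5,13,4,14,13], 3, [([], 231, []), ([54,57,59,56], 231, [4,10,14,13,14,5,13,4,14,13])], []⟩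
def c237 : Clm := ⟨9, 9, true, [8], [14,5,11,13,14,13,14,13,10,2,8,7], 9, [([], 231, []), ([54,54], 232, [5,9,14,13,9,14,13,10,12,14])], []⟩
def c238 : Clm := ⟨9, 9, true, [14,5,11,13,14,13,14,13,10,2,8,7], [8], 5, [([], 237, [])], []⟩
def c239 : Clm := ⟨9, 3, true, [7,8], [13,14,13,9,10,9,14,13,14,8,6,13,1,10,8,7], 9, [([], 231, [7]), ([70], 67, [5,10,14,13,4,14,13,9,14])], []⟩
def c240 : Clm := ⟨3, 9, true, [13,14,13,9,10,9,14,13,14,8,6,13,1,10,8,7], [7,8], 5, [([], 239, [])], []⟩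
def c241 : Clm := ⟨9, 9, false, [7,8], [4,7,12,8,7], 3, [([], 240, []), ([71,56], 231, [4,7,12])], []⟩
def c242 : Clm := ⟨9, 5, true, [10,8], [9,10,13,14,12,13,14,13,8,6,10,8,13,1,10], 9, [([], 231, [10]), ([70,58,54], 98, [7,14,13,14,12,13,14,5])], []⟩
def c243 : Clm := ⟨5, 9, true, [9,10,13,14,12,13,14,13,8,6,10,8,13,1,10], [10,8], 5, [([], 242, [])], []⟩
def c244 : Clm := ⟨9, 6, true, [14,8], [7,12,14,13,8,6,10,8,13,14,8], 9, [([], 231, [14]), ([54,77,61], 171, [3,9,10,14,13,7])], []⟩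
def c245 : Clm := ⟨6, 9, true, [7,12,14,13,8,6,10,8,13,14,8], [14,8], 5, [([], 244, [])], []⟩
def c246 : Clm := ⟨9, 9, true, [3,14,8], [3,4,11,14,12,2,8,7], 9, [([], 231, [3,14]), ([54,76,55,70], 232, [3,4,14,11,12])], []⟩
def c247 : Clm := ⟨9, 9, true, [3,4,11,14,12,2,8,7], [3,14,8], 5, [([], 246, [])], []⟩
def c248 : Clm := ⟨9, 9, true, [5,14,8], [3,5,14,2,8,7], 9, [([], 231, [5,14]), ([76,70,56], 232, [5,7,14])], []⟩
def c249 : Clm := ⟨9, 6, true, [13,14,8], [4,5,13,14,5,8,6,13,3,6,8,6], 9, [([], 231, [13,14]), ([77,71], 122, [5,7,9,14,13,3,14])], []⟩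
def c250 : Clm := ⟨6, 9, true, [4,5,13,14,5,8,6,13,3,6,8,6], [13,14,8], 5, [([], 249, [])], []⟩
def c251 : Clm := ⟨9, 5, true, [5,13,14,8], [11,14,13,9,7,14,13,10,14,8,6,8,13,6,8,14], 9, [([], 231, [5,13,14]), ([60,70,54,70], 98, [13,10,14,13,3,9,7,14,5])], []⟩
def c252 : Clm := ⟨5, 9, true, [11,14,13,9,7,14,13,10,14,8,6,8,13,6,8,14], [5,13,14,8], 5, [([], 251, [])], []⟩
def c253 : Clm := ⟨9, 9, false, [5,13,14,8], [4,9,13,2,8,10,14,8,13], 3, [([], 252, []), ([117,104,108], 243, [9,13,3,10,9,14,5])], []⟩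
def c254 : Clm := ⟨9, 9, true, [10,14,13,9,14,13,9,14,13,8,10,14,13,6,8,7,13,1], [7,10,4,14,13,9,14,13,14,5,2,8,6,10,9,13,6,8], 11, [([469], 238, [9,13,10,14,13,9,7,14,5]), ([506,470], 238, [5,10,9,13,14,12,13,10,14])], []⟩
def c255 : Clm := ⟨5, 9, true, [5,10,9,13,14,13,10,14,13,14,2,8,6,10,8,13,7,14,8], [5,12,10,14,12,14,2,8,6,10,8,9], 11, [([], 101, [3,7,10,14,13]), ([108,104,109], 242, [7,9,3,10,9,14])], []⟩
def c256 : Clm := ⟨9, 5, true, [5,12,10,14,12,14,2,8,6,10,8,9], [5,10,9,13,14,13,10,14,13,14,2,8,6,10,8,13,7,14,8], 5, [([], 255, [])], []⟩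
def c257 : Clm := ⟨5, 9, true, [10,14,13,14,5,13,4,14,13,8,6,13,10,14,8,13,6,11], [9,7,9,10,11,2,8,6,10,8,9], 11, [([109,106], 86, [4,5,9,14,13,14,13,4,10]), ([116,108,104], 242, [3,5,7,9,10,9,14])], []⟩
def c258 : Clm := ⟨9, 5, true, [9,7,9,10,11,2,8,6,10,8,9], [10,14,13,14,5,13,4,14,13,8,6,13,10,14,8,13,6,11], 5, [([], 257, [])], []⟩
def c259 : Clm := ⟨9, 9, true, [10,9,2,8,6,10,8,9], [3,5,10,9,12,8,6,10,8,9], 11, [([], 255, [3,9,14,12,14]), ([108,106,104], 242, [9,7,5,10,9,14])], []⟩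
def c260 : Clm := ⟨4, 9, true, [3,13,9,11,14,5,12,2,8,6,13,6,5,8,3,7], [9,7,9,10,13,2,8,6,10,8,9], 11, [([], 61, [3,4,5,14,5,13,14,5,12]), ([117,104,106], 242, [3,7,9,13,10,9,14])], []⟩
def c261 : Clm := ⟨9, 4, true, [9,7,9,10,13,2,8,6,10,8,9], [3,13,9,11,14,5,12,2,8,6,13,6,5,8,3,7], 5, [([], 260, [])], []⟩
def c262 : Clm := ⟨6, 9, true, [5,10,4,9,7,2,8,6,10,8,13,1,7], [5,9,1,8,10,13,8,6,8,13,1], 11, [([], 163, [3,10,13,9,14,13,4,10,14,5]), ([106,104], 242, [14,13,10,14,13,14])], []⟩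
def c263 : Clm := ⟨9, 6, true, [5,9,1,8,10,13,8,6,8,13,1], [5,10,4,9,7,2,8,6,10,8,13,1,7], 5, [([], 262, [])], []⟩
def c264 : Clm := ⟨9, 9, true, [4,5,9,12,8,14,13,10,8,6,13,6,8,7], [5,10,9,8,10,14,8], 7, [([], 257, [4,9,13,14,13,14,13,9]), ([109,106], 242, [5,9,10,14])], []⟩
def c265 : Clm := ⟨9, 9, true, [5,10,9,8,10,14,8], [4,5,9,12,8,14,13,10,8,6,13,6,8,7], 5, [([], 264, [])], []⟩
def c266 : Clm := ⟨9, 9, true, [7,9,3,7,11,8,6,5,11], [4,7,9,7,5,2,8,6,5], 11, [([], 245, [4,5,7,14,5,12]), ([213,210], 244, [5,7,14])], []⟩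
def c267 : Clm := ⟨9, 9, true, [4,14,13,7,8,6,10,13,6,8,3], [3,14,12,14,8,10,14,8,13,14,8,7,13,1], 9, [([471,469], 247, [4,13,14,13,14,12,10]), ([468,507,466], 265, [4,10,13,14,13,9,10,14,5])], []⟩
def c268 : Clm := ⟨9, 9, true, [4,13,3,14,5,12,8,6,13,6,10,8,3,9,7], [13,3,9,14,11,8,6,7,13,6,10,8], 11, [([], 250, [4,5,12,14,13,9,10,9,14]), ([234,213], 249, [4,5,12,14,13,9,10,14])], []⟩
def c269 : Clm := ⟨3, 10, true, [14,13,8,14,13,14,8], [], 1, [], []⟩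
def c270 : Clm := ⟨10, 3, true, [], [14,13,8,14,13,14,8], 5, [([], 269, [])], []⟩
def c271 : Clm := ⟨10, 10, false, [], [13,3,9,14,13,10,14,13], 3, [([], 269, []), ([60,77,57,71], 269, [13,3,9,14,13,10,14,13])], []⟩
def c272 : Clm := ⟨10, 10, false, [], [3,9,7,12,14], 3, [([], 269, []), ([60,55,55,55], 269, [3,9,7,12,14])], []⟩
def c273 : Clm := ⟨10, 10, false, [], [9,14,13,9,14], 3, [([], 269, []), ([55,58,77,61], 269, [9,14,13,9,14])], []⟩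
def c274 : Clm := ⟨10, 10, true, [8], [13,10,14,12,13,14,5,13,2,8,7], 9, [([], 269, []), ([77,54], 270, [3,7,13,10,14,13,14,5,13])], []⟩
def c275 : Clm := ⟨10, 10, true, [13,10,14,12,13,14,5,13,2,8,7], [8], 5, [([], 274, [])], []⟩
def c276 : Clm := ⟨10, 6, true, [7,8], [7,13,14,5,8,6,7,13,14,13,14,8,7], 9, [([], 269, [7]), ([61,56,55,71], 122, [4,13,14,13,9,10,9,14,5])], []⟩
def c277 : Clm := ⟨6, 10, true, [7,13,14,5,8,6,7,13,14,13,14,8,7], [7,8], 5, [([], 276, [])], []⟩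
def c278 : Clm := ⟨10, 10, false, [7,8], [9,7,13,1,8,13,6,10,8,13,1,7], 3, [([], 277, []), ([225,211,212], 277, [9,3,14,13,10,14,13,3,9,14])], []⟩
def c279 : Clm := ⟨10, 6, true, [14,8], [3,13,10,14,13,4,10,8,6,7,13,6,8,7], 9, [([], 269, [14]), ([56,60,56], 122, [9,13,3,14,13,9,14])], []⟩
def c280 : Clm := ⟨6, 10, true, [3,13,10,14,13,4,10,8,6,7,13,6,8,7], [14,8], 5, [([], 279, [])], []⟩
def c281 : Clm := ⟨10, 5, true, [5,7,14,8], [12,14,5,13,3,1,2,8,13,6,13,14,5,8,7], 9, [([], 269, [5,7,14]), ([77,56,70,55], 59, [10,13,9,14,13,3,14,13,10])], []⟩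
def c282 : Clm := ⟨5, 10, true, [12,14,5,13,3,1,2,8,13,6,13,14,5,8,7], [5,7,14,8], 5, [([], 281, [])], []⟩
def c283 : Clm := ⟨10, 6, true, [5,11,14,8], [7,13,3,14,5,13,8,6,5,13,6,8,7], 9, [([], 269, [5,11,14]), ([59,56,60], 122, [4,13,3,9,14,13,14])], []⟩
def c284 : Clm := ⟨6, 10, true, [7,13,3,14,5,13,8,6,5,13,6,8,7], [5,11,14,8], 5, [([], 283, [])], []⟩
def c285 : Clm := ⟨10, 10, true, [5,14,13,14,8], [3,9,13,10,14,13,3,14,5,2,8,7], 9, [([], 269, [5,14,13,14]), ([76,70,55], 270, [3,9,13,3,10,14,13,14,5])], []⟩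
def c286 : Clm := ⟨10, 10, true, [3,9,13,10,14,13,3,14,5,2,8,7], [5,14,13,14,8], 5, [([], 285, [])], []⟩
def c287 : Clm := ⟨10, 10, true, [3,13,10,14,13,14,12,1,8,10,13,6,5,8,13,1], [10,9,13,10,14,13,14,5,13,1,8,10,13,6,8,6,13,1], 9, [([542], 275, [11,14,13,9,14,13,4,14]), ([544,556,543,543], 275, [9,14,5,13,14,13,3,14])], []⟩
def c288 : Clm := ⟨10, 10, true, [12,14,11,13,7,8], [3,9,7,13,3,1,8,7,13,6,13,1,10,8], 11, [([], 280, [13,3,7,9,7]), ([235,224,214], 276, [4,10,14,13,9,14,13,10,14,13,7])], []⟩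
def c289 : Clm := ⟨10, 10, true, [3,9,7,13,3,1,8,7,13,6,13,1,10,8], [12,14,11,13,7,8], 5, [([], 288, [])], []⟩
def c290 : Clm := ⟨3, 10, true, [5,12,14,13,7,5,14,2,8,14,13,6,8,14], [7,12,2], 11, [([], 122, [9,13,14,13,3,14]), ([235,214], 276, [7])], []⟩
def c291 : Clm := ⟨10, 3, true, [7,12,2], [5,12,14,13,7,5,14,2,8,14,13,6,8,14], 5, [([], 290, [])], []⟩
def c292 : Clm := ⟨5, 10, true, [7,10,13,14,13,9,14,5,2,8,14,13,6,8,14], [3,9,12,14,2,8,6,7], 11, [([], 126, [7,13,14,12,13,14]), ([210,235,224], 276, [3,14])], []⟩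
def c293 : Clm := ⟨10, 5, true, [3,9,12,14,2,8,6,7], [7,10,13,14,13,9,14,5,2,8,14,13,6,8,14], 5, [([], 292, [])], []⟩
def c294 : Clm := ⟨5, 10, true, [12,10,13,14,13,9,14,5,2,8,6,13,6,8,3,6], [4,9,7,5,9,8,6,13,6,8,3,13,1], 11, [([], 126, [4,13,14,13,7,5,14]), ([235,224,213], 276, [3,9,13,7,14,13,10,14,13,9])], []⟩
def c295 : Clm := ⟨10, 5, true, [4,9,7,5,9,8,6,13,6,8,3,13,1], [12,10,13,14,13,9,14,5,2,8,6,13,6,8,3,6], 5, [([], 294, [])], []⟩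
def c296 : Clm := ⟨6, 10, true, [7,13,9,10,14,13,9,8,10,8,14,13,8,14,11], [13,9,7,2,8,14,13,14,5,8,13,14,5], 9, [([], 276, [5,11,14]), ([], 289, [13,9,7,14])], []⟩
def c297 : Clm := ⟨10, 6, true, [13,9,7,2,8,14,13,14,5,8,13,14,5], [7,13,9,10,14,13,9,8,10,8,14,13,8,14,11], 5, [([], 296, [])], []⟩
def c298 : Clm := ⟨10, 10, true, [9,3,7,8,6,10,13,6,8,3,7], [3,7,12,8,6,10,13,3,6,8], 11, [([], 277, [3,14,13,10,4,14,12]), ([225,235,210], 276, [3,14,13,10,14])], []⟩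
def c299 : Clm := ⟨9, 10, true, [3,12,14,12,8,6,13,6,8,13,3,7], [5,7,13,2,8,6,10,13,6,8], 11, [([], 245, [14,11,13,14,13,9]), ([213], 276, [13,7,14,13,10,14])], []⟩
def c300 : Clm := ⟨10, 9, true, [5,7,13,2,8,6,10,13,6,8], [3,12,14,12,8,6,13,6,8,13,3,7], 5, [([], 299, [])], []⟩
def c301 : Clm := ⟨8, 10, true, [10,12,14,5,11,12,8,6,7,13], [7,11,12,2,8,6,10,13,6,8], 11, [([], 204, [3,14,13,7,9,7]), ([213,235], 276, [5,7,14,13,10,14])], []⟩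
def c302 : Clm := ⟨10, 8, true, [7,11,12,2,8,6,10,13,6,8], [10,12,14,5,11,12,8,6,7,13], 5, [([], 301, [])], []⟩
def c303 : Clm := ⟨10, 10, true, [3,9,14,5,11,1,8,13,6,13,1,10,8,7], [7,5,10,9,1,8,10,13,8,6,8,13,1], 11, [([], 280, [9,13,3,14,13,9,14,13,14]), ([213,225,234], 276, [14,13,10,14,13,14])], []⟩
def c304 : Clm := ⟨10, 10, true, [7,5,10,9,1,8,10,13,8,6,8,13,1], [3,9,14,5,11,1,8,13,6,13,1,10,8,7], 5, [([], 303, [])], []⟩
def c305 : Clm := ⟨6, 10, true, [9,14,13,10,9,14,5,8,6,13,10,8,14,13,1,8], [3,9,13,7,9,8,14,13,14,8,13,6,13,2], 11, [([], 276, [5,12,14,13,10,14]), ([546,544,556], 304, [3,5,14,13,9,7])], []⟩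
def c306 : Clm := ⟨10, 6, true, [3,9,13,7,9,8,14,13,14,8,13,6,13,2], [9,14,13,10,9,14,5,8,6,13,10,8,14,13,1,8], 5, [([], 305, [])], []⟩
def c307 : Clm := ⟨10, 10, true, [3,7,13,9,8,14,13,2,6,8,11], [4,12,14,11,8,14,13,2,6,8], 11, [([], 305, [4,5,13,3,14,13,9]), ([235,224,212], 279, [3,5,9,14,13,14])], []⟩
def c308 : Clm := ⟨4, 10, true, [4,9,11,14,13,10,14,5,1,8,13,6,10,13,1,8,10], [5,7,14,12,2], 11, [([], 61, [3,14,13,9,7,14,13,14,5]), ([117,109,117,106], 281, [7])], []⟩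
def c309 : Clm := ⟨10, 4, true, [5,7,14,12,2], [4,9,11,14,13,10,14,5,1,8,13,6,10,13,1,8,10], 5, [([], 308, [])], []⟩
def c310 : Clm := ⟨10, 10, true, [9,7,10,9,13,14,13,14,8,6,13,6,10,8,13,14], [5,11,12,14,12,2,8,14,13,14,8,3], 11, [([], 282, [5,10,14,11,13,9,14,13]), ([116], 281, [5,9,3,14,13,14,12])], []⟩
def c311 : Clm := ⟨10, 10, true, [5,11,12,14,12,2,8,14,13,14,8,3], [9,7,10,9,13,14,13,14,8,6,13,6,10,8,13,14], 5, [([], 310, [])], []⟩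
def c312 : Clm := ⟨8, 10, true, [13,14,13,14,5,12,14,8,6,5,13,6,8,13,10], [3,5,9,7,14,8,6,13,3,6,10,8], 11, [([], 220, [5,14,13,14,12,13]), ([108,116,104,109], 281, [3,10,14,13,14])], []⟩
def c313 : Clm := ⟨10, 8, true, [3,5,9,7,14,8,6,13,3,6,10,8], [13,14,13,14,5,12,14,8,6,5,13,6,8,13,10], 5, [([], 312, [])], []⟩
def c314 : Clm := ⟨8, 10, true, [4,14,5,7,13,14,13,10,14,8,6,13,6,8,10,13,8,6,5,12], [5,11,9,14,5,1,8,13,6,10,8,13,1], 11, [([], 222, [10,14,13,3,9,10,14,5]), ([108], 281, [14,5,13,14,13,14])], []⟩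
def c315 : Clm := ⟨10, 8, true, [5,11,9,14,5,1,8,13,6,10,8,13,1], [4,14,5,7,13,14,13,10,14,8,6,13,6,8,10,13,8,6,5,12], 5, [([], 314, [])], []⟩
def c316 : Clm := ⟨10, 10, true, [4,14,11,13,9,14,13,14,1,8,10,13,6,13,1,8,9], [3,9,13,10,14,13,14,5,11,1,8,10,13,6,8,13,1], 11, [([544], 304, [5,12,14,13,10,14,13,14]), ([546], 286, [9,14,5,13,14,13,3,14])], []⟩
def c317 : Clm := ⟨10, 10, true, [3,5,9,7,9,11,2,8,6,13,14,13,8,6,10,8], [3,12,13,14,2,8,6,10,8,13,6,8,10,8,14], 9, [([], 294, [10,13,14]), ([117,109,117,108,108,104], 295, [5,10,9,13,7,14,5])], []⟩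
def c318 : Clm := ⟨3, 11, true, [8,14,13,8,10,6,8], [], 1, [], []⟩
def c319 : Clm := ⟨11, 3, true, [], [9,14,5,12,14,8,10,14,13,6,8], 5, [([], 318, [])], []⟩
def c320 : Clm := ⟨11, 11, false, [], [3,5,13,14,13,3,10], 3, [([], 318, []), ([77,55,77,77,61], 318, [3,5,13,14,13,3,10])], []⟩
def c321 : Clm := ⟨11, 11, false, [], [3,9,10,11,9,7,14], 3, [([], 318, []), ([55,55,55,77,56,71], 318, [3,9,10,11,9,7,14])], []⟩
def c322 : Clm := ⟨11, 11, false, [], [4,5,9,14,13,14,5,13], 3, [([], 318, []), ([71,55,77,70,54], 318, [4,5,9,14,13,14,5,13])], []⟩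
def c323 : Clm := ⟨11, 6, true, [7,8], [4,11,13,14,5,8,6,13,6,10,8,7], 9, [([], 318, [7]), ([70,60,55], 122, [5,7,14,13,9,10,14])], []⟩
def c324 : Clm := ⟨6, 11, true, [4,11,13,14,5,8,6,13,6,10,8,7], [7,8], 5, [([], 323, [])], []⟩
def c325 : Clm := ⟨11, 5, true, [10,8], [4,14,13,9,10,14,13,4,8,6,13,6,10,8,3,7], 9, [([], 318, [10]), ([55,77,54,71,55], 98, [13,14,5,13,7,14,5])], []⟩
def c326 : Clm := ⟨5, 11, true, [4,14,13,9,10,14,13,4,8,6,13,6,10,8,3,7], [10,8], 5, [([], 325, [])], []⟩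
def c327 : Clm := ⟨11, 11, false, [10,8], [4,10,14,5,8,6,10,8,9], 3, [([], 326, []), ([105,116,105,117,108,116,106], 326, [5,9,3,10,9,14,5])], []⟩
def c328 : Clm := ⟨11, 9, true, [14,8], [11,14,5,13,14,13,2,8,7], 9, [([], 318, [14]), ([54,54], 232, [9,11,14,13,9,14,13])], []⟩
def c329 : Clm := ⟨9, 11, true, [11,14,5,13,14,13,2,8,7], [14,8], 5, [([], 328, [])], []⟩
def c330 : Clm := ⟨11, 6, true, [3,14,8], [4,9,10,9,13,14,13,14,2,8,14,13,14,13,8,6,5,10], 9, [([], 318, [3,14]), ([60,76], 157, [5,13,9,10,14,13,14,13,3])], []⟩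
def c331 : Clm := ⟨6, 11, true, [4,9,10,9,13,14,13,14,2,8,14,13,14,13,8,6,5,10], [3,14,8], 5, [([], 330, [])], []⟩
def c332 : Clm := ⟨11, 11, true, [7,14,8], [3,5,7,10,14,13,14,13,2,8,7], 9, [([], 318, [7,14]), ([76,60,59], 319, [5,9,14,13,14,13,9,10])], []⟩
def c333 : Clm := ⟨11, 11, true, [3,5,7,10,14,13,14,13,2,8,7], [7,14,8], 5, [([], 332, [])], []⟩
def c334 : Clm := ⟨11, 11, true, [11,14,8], [9,3,11,14,2,8,7], 9, [([], 318, [11,14]), ([76,58,71], 319, [9,3,14,11])], []⟩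
def c335 : Clm := ⟨11, 11, true, [9,3,11,14,2,8,7], [11,14,8], 5, [([], 334, [])], []⟩
def c336 : Clm := ⟨11, 5, true, [13,14,8], [11,14,13,14,12,2,8,6,13,6,8,6], 9, [([], 318, [13,14]), ([76,60,56], 59, [12,13,14,13,14,11,9])], []⟩
def c337 : Clm := ⟨5, 11, true, [11,14,13,14,12,2,8,6,13,6,8,6], [13,14,8], 5, [([], 336, [])], []⟩
def c338 : Clm := ⟨11, 8, true, [11,13,14,8], [12,14,13,9,7,14,13,14,8,7], 9, [([], 318, [11,13,14]), ([77,54,76], 210, [9,14,13,10,14,13,9,3,14,13])], []⟩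
def c339 : Clm := ⟨8, 11, true, [12,14,13,9,7,14,13,14,8,7], [11,13,14,8], 5, [([], 338, [])], []⟩
def c340 : Clm := ⟨11, 5, true, [13,3,14,8], [3,7,9,7,14,13,8,6,13,6,10,8,7,13], 9, [([], 318, [13,3,14]), ([70,58,54,54], 59, [10,13,3,14,13,14,5,13])], []⟩
def c341 : Clm := ⟨5, 11, true, [3,7,9,7,14,13,8,6,13,6,10,8,7,13], [13,3,14,8], 5, [([], 340, [])], []⟩
def c342 : Clm := ⟨11, 8, true, [9,10,13,14,8], [14,12,13,14,13,10,9,2,8,7], 9, [([], 318, [9,10,13,14]), ([71,56,54], 193, [14,13,10,9,14,13])], []⟩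
def c343 : Clm := ⟨8, 11, true, [14,12,13,14,13,10,9,2,8,7], [9,10,13,14,8], 5, [([], 342, [])], []⟩
def c344 : Clm := ⟨11, 6, true, [9,14,13,14,8], [4,9,13,14,13,10,14,12,13,8,14,13,14,13,8,10,14,13,1], 9, [([], 318, [9,14,13,14]), ([71,55], 171, [9,13,3,14,13,10,4,14,13])], []⟩
def c345 : Clm := ⟨6, 11, true, [4,9,13,14,13,10,14,12,13,8,14,13,14,13,8,10,14,13,1], [9,14,13,14,8], 5, [([], 344, [])], []⟩
def c346 : Clm := ⟨11, 6, true, [13,9,10,14,8], [3,9,13,7,10,2,8,6,13,10,8,14,13,10,8,14], 9, [([], 318, [13,9,10,14]), ([77,55,71,54], 157, [9,13,4,14,13,10])], []⟩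
def c347 : Clm := ⟨6, 11, true, [3,9,13,7,10,2,8,6,13,10,8,14,13,10,8,14], [13,9,10,14,8], 5, [([], 346, [])], []⟩
def c348 : Clm := ⟨11, 11, true, [4,13,9,10,14,8], [3,13,9,11,14,5,12,10,2,8,7], 9, [([], 318, [4,13,9,10,14]), ([60,58,58], 319, [3,13,9,14,5,12,10])], []⟩
def c349 : Clm := ⟨4, 11, true, [4,13,14,13,10,4,14,13,8,6,13,6,5,8,13,1,7], [7,12,2], 11, [([], 134, [4,5,14,13,10,14,13,9]), ([235,224], 323, [7])], []⟩
def c350 : Clm := ⟨11, 4, true, [7,12,2], [4,13,14,13,10,4,14,13,8,6,13,6,5,8,13,1,7], 5, [([], 349, [])], []⟩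
def c351 : Clm := ⟨11, 11, true, [5,9,12,14,12,8,6,5,11], [7,9,14,5,12,14,2,8,6,5], 11, [([], 324, [7,9,14,5,12]), ([235,210,225], 323, [7,14])], []⟩
def c352 : Clm := ⟨11, 11, true, [7,9,11,14,13,8,10,14,13,14,8,13,9,7], [3,5,9,13,7,8,6,10,8], 11, [([], 331, [10,13,14,12,13,14,13,9]), ([214,210], 323, [10,13,14])], []⟩
def c353 : Clm := ⟨11, 11, true, [3,5,9,13,7,8,6,10,8], [7,9,11,14,13,8,10,14,13,14,8,13,9,7], 5, [([], 352, [])], []⟩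
def c354 : Clm := ⟨6, 11, true, [9,7,13,14,13,10,14,13,9,8,6,7,13,6,8,14], [3,13,9,11,14,2,8,6,7], 11, [([212,210], 130, [4,13,14,13,9,14,12]), ([234,224,210], 323, [13,3,14])], []⟩
def c355 : Clm := ⟨11, 6, true, [3,13,9,11,14,2,8,6,7], [9,7,13,14,13,10,14,13,9,8,6,7,13,6,8,14], 5, [([], 354, [])], []⟩
def c356 : Clm := ⟨10, 11, true, [12,13,14,8,6,10,8,13,10], [4,13,9,7,2,8,6,10,8], 11, [([], 277, [3,13,10,12,14,13,7]), ([234,224,210], 323, [3,13,10,14])], []⟩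
def c357 : Clm := ⟨11, 10, true, [4,13,9,7,2,8,6,10,8], [12,13,14,8,6,10,8,13,10], 5, [([], 356, [])], []⟩
def c358 : Clm := ⟨11, 11, true, [5,10,11,2,8,6,10,8,14], [4,9,7,11,2,8,6,7,10,8], 11, [([], 324, [5,7,10,14]), ([235,214,210], 323, [5,7,10,14])], []⟩
def c359 : Clm := ⟨6, 11, true, [3,5,9,11,14,13,14,13,10,8,6,8,13,14,8,7], [3,9,13,14,2,8,6,7], 11, [([235,214,224], 132, [3,9,13,14,13,7,5,14]), ([235,214,225,234], 323, [5,13,3,14])], []⟩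
def c360 : Clm := ⟨11, 6, true, [3,9,13,14,2,8,6,7], [3,5,9,11,14,13,14,13,10,8,6,8,13,14,8,7], 5, [([], 359, [])], []⟩
def c361 : Clm := ⟨8, 11, true, [5,11,14,12,10,14,8,6,13,6,5,8,3,7], [3,11,9,7,8,6,5,13,6,8], 11, [([], 204, [11,14,13,9,14,5]), ([212,212], 323, [5,14,13,14])], []⟩
def c362 : Clm := ⟨11, 8, true, [3,11,9,7,8,6,5,13,6,8], [5,11,14,12,10,14,8,6,13,6,5,8,3,7], 5, [([], 361, [])], []⟩
def c363 : Clm := ⟨6, 11, true, [3,5,14,13,4,10,14,12,8,10,14,13,14,8,10,13,8], [4,14,11,9,13,8,6,5,13,6,8,10,13,7,9], 9, [([], 323, [9,13,10,14]), ([645,640,642,640], 352, [5,9,3,10,9])], []⟩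
def c364 : Clm := ⟨11, 6, true, [4,14,11,9,13,8,6,5,13,6,8,10,13,7,9], [3,5,14,13,4,10,14,12,8,10,14,13,14,8,10,13,8], 5, [([], 363, [])], []⟩
def c365 : Clm := ⟨6, 11, true, [3,9,11,14,13,10,14,13,9,2,8,10,14,8,13,6,7], [3,9,14,13,14,5,13,14,8,6,10,13,8,6,13,8,6,5,10], 9, [([], 323, [3,13,14,13,14]), ([642,654,642,640], 353, [3,5,13,4,14,13,10,14,13])], []⟩
def c366 : Clm := ⟨11, 6, true, [3,9,14,13,14,5,13,14,8,6,10,13,8,6,13,8,6,5,10], [3,9,11,14,13,10,14,13,9,2,8,10,14,8,13,6,7], 5, [([], 365, [])], []⟩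
def c367 : Clm := ⟨10, 11, true, [5,7,13,14,13,3,14,5,8,6,10,8,13,9,14,8,10], [3,11,9,7,2,8,14,13,14,8,3], 11, [([], 305, [3,11,9,13,14,13,10,14,13,14]), ([234,210,224,210], 323, [5,14,13,3,14])], []⟩
def c368 : Clm := ⟨11, 10, true, [3,11,9,7,2,8,14,13,14,8,3], [5,7,13,14,13,3,14,5,8,6,10,8,13,9,14,8,10], 5, [([], 367, [])], []⟩
def c369 : Clm := ⟨5, 11, true, [10,11,13,9,14,13,14,8,14,13,14,5,8,7], [3,7,11,12,8,6,7,10,13,6,8], 11, [([], 126, [7,9,13,7,14,13,14,5]), ([224,212], 323, [5,14,13,10,14])], []⟩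
def c370 : Clm := ⟨11, 5, true, [3,7,11,12,8,6,7,10,13,6,8], [10,11,13,9,14,13,14,8,14,13,14,5,8,7], 5, [([], 369, [])], []⟩
def c371 : Clm := ⟨11, 11, true, [13,14,13,9,11,2,8,10,14,8,13,1,9,7], [5,7,12,2,8,6,10,13,6,8], 11, [([], 354, [7,13,14,12,10,13,14,13]), ([234,234,212], 323, [7,14,13,10,14])], []⟩
def c372 : Clm := ⟨11, 11, true, [5,7,12,2,8,6,10,13,6,8], [13,14,13,9,11,2,8,10,14,8,13,1,9,7], 5, [([], 371, [])], []⟩
def c373 : Clm := ⟨6, 11, true, [10,14,13,9,7,14,13,10,8,14,13,6,8,13,1,7], [14,11,12,14,13,8,6,5,13,6,8], 11, [([212,210], 130, [5,7,9,7,14,13,10,14,5]), ([214,224], 323, [9,13,14,13,14])], []⟩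
def c374 : Clm := ⟨11, 6, true, [14,11,12,14,13,8,6,5,13,6,8], [10,14,13,9,7,14,13,10,8,14,13,6,8,13,1,7], 5, [([], 373, [])], []⟩
def c375 : Clm := ⟨8, 11, true, [5,10,14,13,3,14,5,13,14,8,14,13,14,8,13,6,7,13,10], [4,9,7,2,8,6,13,6,10,8], 11, [([], 215, [10,11,13,14,13,4,9]), ([214,224], 323, [10,14,13,3,14])], []⟩
def c376 : Clm := ⟨11, 8, true, [4,9,7,2,8,6,13,6,10,8], [5,10,14,13,3,14,5,13,14,8,14,13,14,8,13,6,7,13,10], 5, [([], 375, [])], []⟩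
def c377 : Clm := ⟨11, 11, true, [11,13,14,5,11,9,8,6,7,13,6,8,14], [3,4,13,9,7,8,6,5,13,6,8], 11, [([], 324, [3,9,13,7,14,5,13,14]), ([214,225,213,210], 323, [4,5,13,14,13,14])], []⟩
def c378 : Clm := ⟨11, 11, true, [5,7,13,14,13,3,9,8,6,7,13,6,5,10,8,7], [4,5,11,9,7,2,8,6,13,6,10,8], 11, [([], 359, [5,7,9,7,14,13,14,5,13,14]), ([214,213,213], 323, [5,10,14,13,3,14])], []⟩
def c379 : Clm := ⟨11, 11, true, [3,7,9,13,3,8,6,13,14,8,7,13,1,3], [5,9,7,9,2,8,6,10,13,6,8], 11, [([], 324, [7,9,14,13,10,9,14,5]), ([212,224,214,210], 323, [7,9,14,13,10,14])], []⟩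
def c380 : Clm := ⟨10, 11, true, [14,13,9,14,13,10,4,14,1,8,13,6,10,13,8,10,14], [3,11,9,14,13,14,2,8,6,7], 11, [([], 305, [13,3,7,9]), ([234,225,212,212], 330, [3,13,14])], []⟩
def c381 : Clm := ⟨11, 10, true, [3,11,9,14,13,14,2,8,6,7], [14,13,9,14,13,10,4,14,1,8,13,6,10,13,8,10,14], 5, [([], 380, [])], []⟩
def c382 : Clm := ⟨5, 11, true, [7,5,9,10,14,2,8,10,14,13,6,8,14,13,1], [7,14,13,9,11,14,2,8,6,7], 11, [([], 138, [4,9,11,14,13,14,5,13,14]), ([224,212], 330, [13,3,14])], []⟩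
def c383 : Clm := ⟨11, 5, true, [7,14,13,9,11,14,2,8,6,7], [7,5,9,10,14,2,8,10,14,13,6,8,14,13,1], 5, [([], 382, [])], []⟩
def c384 : Clm := ⟨10, 11, true, [9,3,13,7,9,8,14,13,14,13,8], [14,13,7,9,14,2,8,6,7], 11, [([], 305, [9,13,14,5,11]), ([225,234], 330, [3,5,13,14])], []⟩
def c385 : Clm := ⟨11, 10, true, [14,13,7,9,14,2,8,6,7], [9,3,13,7,9,8,14,13,14,13,8], 5, [([], 384, [])], []⟩
def c386 : Clm := ⟨11, 11, true, [5,10,14,12,13,14,5,12,8,14,13,6,8,13,1,7], [5,10,14,13,4,14,5,13,8,6,7,10,13,6,8], 11, [([645,642], 333, [4,5,9,14,13,10,14,5,12]), ([654,642,654,645,642], 333, [3,5,7,9,14,13,4,10,14])], []⟩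
def c387 : Clm := ⟨11, 8, true, [9,11,14,5,8,14,11,13,14,8], [9,13,14,13,10,4,14,8,7,14,13,14,8,10,13,14,13,6], 9, [([], 335, [5,14,12,13,14,12]), ([645,642,654,645], 375, [5,7,9,10,14,5,11])], []⟩
def c388 : Clm := ⟨8, 11, true, [9,13,14,13,10,4,14,8,7,14,13,14,8,10,13,14,13,6], [9,11,14,5,8,14,11,13,14,8], 5, [([], 387, [])], []⟩
def c389 : Clm := ⟨11, 11, true, [4,13,10,14,13,9,14,5,11,2,8,6,10,13,6,8,6,5], [9,3,7,14,8,14,13,2,6,8], 11, [([], 372, [7,10,14,13,9,14,13,10]), ([645,642,654,644], 335, [3,5,14,12,13,14,12])], []⟩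
def c390 : Clm := ⟨11, 11, true, [9,3,7,14,8,14,13,2,6,8], [4,13,10,14,13,9,14,5,11,2,8,6,10,13,6,8,6,5], 5, [([], 389, [])], []⟩
def c391 : Clm := ⟨3, 11, true, [5,14,13,14,13,3,9,10,9,1,8,13,6,13,6,8,13,7], [13,14,12,2], 11, [([], 59, [10,4,13,14,12,13,14,5]), ([116,106], 336, [7])], []⟩
def c392 : Clm := ⟨11, 3, true, [13,14,12,2], [5,14,13,14,13,3,9,10,9,1,8,13,6,13,6,8,13,7], 5, [([], 391, [])], []⟩
def c393 : Clm := ⟨8, 11, true, [14,12,10,4,14,13,1,8,10,13,6,8,6,13,1], [4,13,14,11,9,1,8,10,13,6,8,13,1], 11, [([], 197, [14,13,10,14,13,3,9,14]), ([116,109], 336, [3,14,13,9,14,13,14])], []⟩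
def c394 : Clm := ⟨11, 8, true, [4,13,14,11,9,1,8,10,13,6,8,13,1], [14,12,10,4,14,13,1,8,10,13,6,8,6,13,1], 5, [([], 393, [])], []⟩
def c395 : Clm := ⟨8, 11, true, [9,13,14,13,4,10,14,13,9,14,1,8,13,6,10,8,13,1], [11,13,9,14,5,13,1,8,10,13,6,8,13,1], 11, [([390,388,390,390], 208, [11,14,13,10,14,12,13,14]), ([390,390,388], 338, [3,14,5,13,14,13,14,5])], []⟩
def c396 : Clm := ⟨11, 8, true, [11,13,9,14,5,13,1,8,10,13,6,8,13,1], [9,13,14,13,4,10,14,13,9,14,1,8,13,6,10,8,13,1], 5, [([], 395, [])], []⟩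
def c397 : Clm := ⟨3, 12, true, [6,8,10,13,6,8,2], [], 1, [], []⟩
def c398 : Clm := ⟨12, 3, true, [], [14,12,13,1,8,10,13,6,8], 5, [([], 397, [])], []⟩
def c399 : Clm := ⟨12, 12, false, [], [5,10,9,14], 3, [([], 397, []), ([71,60,55,71,59], 397, [5,10,9,14])], []⟩
def c400 : Clm := ⟨12, 12, false, [], [3,7,9,12,14], 3, [([], 397, []), ([57,55,57,58], 397, [3,7,9,12,14])], []⟩
def c401 : Clm := ⟨12, 12, false, [], [5,9,14,5], 3, [([], 397, []), ([70,54,76,71,54,77], 397, [5,9,14,5])], []⟩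
def c402 : Clm := ⟨12, 8, true, [8], [10,4,14,13,14,12,13,1,2,8,7,13], 9, [([], 397, []), ([77,54], 210, [3,9,13,10,14,13,14,11,9])], []⟩
def c403 : Clm := ⟨8, 12, true, [10,4,14,13,14,12,13,1,2,8,7,13], [8], 5, [([], 402, [])], []⟩
def c404 : Clm := ⟨12, 12, false, [8], [7,5,9,3,7,2], 3, [([], 403, []), ([391,391,391], 403, [3,7,9,7,9,11])], []⟩
def c405 : Clm := ⟨12, 12, false, [8], [9,10,9,12,14,5,11,8,6,8,10,8,6], 3, [([], 403, []), ([397,390,397,390,390,388], 403, [5,9,10,9,12,14,5,11])], []⟩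
def c406 : Clm := ⟨12, 5, true, [7,8], [10,9,14,13,4,14,13,10,8,7,14,13,10,14,8,7], 9, [([], 397, [7]), ([76,60,56], 98, [4,10,13,14,13,9,3,14,13,14])], []⟩
def c407 : Clm := ⟨5, 12, true, [10,9,14,13,4,14,13,10,8,7,14,13,10,14,8,7], [7,8], 5, [([], 406, [])], []⟩
def c408 : Clm := ⟨12, 11, true, [13,14,8], [3,10,13,9,3,14,13,14,5,13,1,2,8,7], 9, [([], 397, [13,14]), ([58,71,58,55], 392, [9,10,13,14,13,14,13,3])], []⟩
def c409 : Clm := ⟨11, 12, true, [3,10,13,9,3,14,13,14,5,13,1,2,8,7], [13,14,8], 5, [([], 408, [])], []⟩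
def c410 : Clm := ⟨12, 12, false, [13,14,8], [13,14,13,9,11,1,8,13,6,10,8,13,6,13,4], 3, [([], 409, []), ([655,643,641,654,644,644], 409, [7,14,13,10,14,12,13,14])], []⟩
def c411 : Clm := ⟨12, 6, true, [3,13,14,8], [13,9,14,11,13,7,2,8,6,13,6,8,13,7], 9, [([], 397, [3,13,14]), ([54,77,61,76,55], 122, [13,4,9,14,13,14,13,9])], []⟩
def c412 : Clm := ⟨6, 12, true, [13,9,14,11,13,7,2,8,6,13,6,8,13,7], [3,13,14,8], 5, [([], 411, [])], []⟩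
def c413 : Clm := ⟨12, 6, true, [5,13,14,8], [7,13,10,14,5,8,10,14,13,6,8,6,7,13,6], 9, [([], 397, [5,13,14]), ([54,56,60], 171, [9,12,14,12])], []⟩
def c414 : Clm := ⟨6, 12, true, [7,13,10,14,5,8,10,14,13,6,8,6,7,13,6], [5,13,14,8], 5, [([], 413, [])], []⟩
def c415 : Clm := ⟨12, 12, true, [10,13,14,8], [4,5,7,9,14,13,10,14,2,8,7], 9, [([], 397, [10,13,14]), ([71,54,71,58], 398, [5,9,3,14,13,14,12,10])], []⟩
def c416 : Clm := ⟨12, 12, true, [4,5,7,9,14,13,10,14,2,8,7], [10,13,14,8], 5, [([], 415, [])], []⟩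
def c417 : Clm := ⟨12, 5, true, [11,13,14,8], [3,4,14,5,13,8,6,7,13,6,5,10,8,7], 9, [([], 397, [11,13,14]), ([60,76,55,70,61], 59, [13,10,4,14,13,14,5])], []⟩
def c418 : Clm := ⟨5, 12, true, [3,4,14,5,13,8,6,7,13,6,5,10,8,7], [11,13,14,8], 5, [([], 417, [])], []⟩
def c419 : Clm := ⟨12, 12, true, [3,5,13,14,8], [7,10,9,14,13,10,14,2,8,7], 9, [([], 397, [3,5,13,14]), ([76,59], 398, [3,10,9,14,13,14,12,10])], []⟩
def c420 : Clm := ⟨12, 9, true, [3,10,13,14,8], [3,9,13,7,14,5,13,14,5,2,8,7], 9, [([], 397, [3,10,13,14]), ([61,70], 232, [4,9,13,14,5,13,14,5])], []⟩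
def c421 : Clm := ⟨9, 12, true, [3,9,13,7,14,5,13,14,5,2,8,7], [3,10,13,14,8], 5, [([], 420, [])], []⟩
def c422 : Clm := ⟨12, 10, true, [3,13,14,13,14,8], [7,5,9,14,13,14,13,7,1,2,8,7], 9, [([], 397, [3,13,14,13,14]), ([54,54,54], 291, [3,13,14,13,4,14,13,10])], []⟩
def c423 : Clm := ⟨10, 12, true, [7,5,9,14,13,14,13,7,1,2,8,7], [3,13,14,13,14,8], 5, [([], 422, [])], []⟩
def c424 : Clm := ⟨12, 5, true, [4,13,14,13,14,8], [12,14,5,2,8,6,10,13,6,8,7,13], 9, [([], 397, [4,13,14,13,14]), ([61,76,60], 59, [5,9,14,12,13,14,13,10])], []⟩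
def c425 : Clm := ⟨5, 12, true, [12,14,5,2,8,6,10,13,6,8,7,13], [4,13,14,13,14,8], 5, [([], 424, [])], []⟩
def c426 : Clm := ⟨10, 12, true, [4,9,13,14,13,10,14,11,2,8,6,13,10,8,14,5,11], [7,11,9,7,8,14,13,2,6,8], 11, [([], 312, [3,13,14,13,14,5,11,14]), ([396,390], 402, [3,4,5,14,13,14])], []⟩
def c427 : Clm := ⟨12, 10, true, [7,11,9,7,8,14,13,2,6,8], [4,9,13,14,13,10,14,11,2,8,6,13,10,8,14,5,11], 5, [([], 426, [])], []⟩
def c428 : Clm := ⟨11, 12, true, [11,14,13,14,13,7,8,10,14,13,6,8,14,13,6,8], [9,3,12,8,6,10,13,3,6,8], 11, [([], 375, [5,10,9,14,5,13,14]), ([397,390,397], 402, [9,3,14,13,10,14])], []⟩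
def c429 : Clm := ⟨12, 11, true, [9,3,12,8,6,10,13,3,6,8], [11,14,13,14,13,7,8,10,14,13,6,8,14,13,6,8], 5, [([], 428, [])], []⟩
def c430 : Clm := ⟨12, 12, true, [3,13,9,11,8,10,14,13,6,8,7,13,1], [3,7,5,9,7,8,6,7,13,6,10,8], 11, [([], 403, [10,14,13,9,14,5,12]), ([396,390,397,388], 402, [10,14,13,14])], []⟩
def c431 : Clm := ⟨12, 12, true, [3,7,5,9,7,8,6,7,13,6,10,8], [3,13,9,11,8,10,14,13,6,8,7,13,1], 5, [([], 430, [])], []⟩
def c432 : Clm := ⟨11, 12, true, [7,13,9,14,12,13,10,8,14,13,14,13,10,8,7], [3,5,11,12,8,6,7,10,13,6,8], 11, [([], 343, [3,9,13,14,13,14,13,3,10]), ([391,396], 402, [14,13,10,14])], []⟩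
def c433 : Clm := ⟨12, 11, true, [3,5,11,12,8,6,7,10,13,6,8], [7,13,9,14,12,13,10,8,14,13,14,13,10,8,7], 5, [([], 432, [])], []⟩
def c434 : Clm := ⟨12, 12, true, [12,8,7,14,13,10,14,8,7], [5,11,12,2,8,6,10,13,6,8], 11, [([], 403, [7,14,13,10,14,12]), ([396,388], 402, [7,14,13,10,14])], []⟩
def c435 : Clm := ⟨12, 12, true, [5,11,12,2,8,6,10,13,6,8], [12,8,7,14,13,10,14,8,7], 5, [([], 434, [])], []⟩
def c436 : Clm := ⟨8, 12, true, [9,12,14,5,13,14,5,8,6,8,10,8,13,14,13,1,7], [4,13,3,8,14,5,13,14,13,14,8], 11, [([], 224, [9,13,10,14,13,9,3,14,13,14]), ([396,388], 402, [5,14,13,10,14,13,9,3,14])], []⟩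
def c437 : Clm := ⟨12, 8, true, [4,13,3,8,14,5,13,14,13,14,8], [9,12,14,5,13,14,5,8,6,8,10,8,13,14,13,1,7], 5, [([], 436, [])], []⟩
def c438 : Clm := ⟨12, 12, true, [7,11,13,14,13,14,5,2,8,14,13,10,14,8,7], [5,9,13,7,9,2,8,6,10,8], 11, [([], 425, [3,5,11,9,14,13,10,14]), ([116,109], 406, [3,9,10,13,14])], []⟩
def c439 : Clm := ⟨12, 12, true, [5,9,13,7,9,2,8,6,10,8], [7,11,13,14,13,14,5,2,8,14,13,10,14,8,7], 5, [([], 438, [])], []⟩
def c440 : Clm := ⟨4, 12, true, [5,7,9,10,9,14,13,14,5,8,6,5,13,6,8,10,13,6,8], [13,14,12,2], 11, [([], 350, [4,14,5,13,14,13,4]), ([], 408, [7])], []⟩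
def c441 : Clm := ⟨12, 4, true, [13,14,12,2], [5,7,9,10,9,14,13,14,5,8,6,5,13,6,8,10,13,6,8], 5, [([], 440, [])], []⟩
def c442 : Clm := ⟨9, 12, true, [3,7,14,13,14,5,8,6], [4,13,3,9,7,2,8,6,7], 11, [([], 328, [13,7,14]), ([640,642], 408, [3,14])], []⟩
def c443 : Clm := ⟨12, 9, true, [4,13,3,9,7,2,8,6,7], [3,7,14,13,14,5,8,6], 5, [([], 442, [])], []⟩
def c444 : Clm := ⟨8, 12, true, [3,7,9,7,10,13,2,8,14,13,14,13,8,14,13,6], [4,13,14,13,3,9,8,6,10,8], 11, [([], 376, [5,12,10,14,11,9]), ([654,642,654], 408, [10,13,14])], []⟩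
def c445 : Clm := ⟨12, 8, true, [4,13,14,13,3,9,8,6,10,8], [3,7,9,7,10,13,2,8,14,13,14,13,8,14,13,6], 5, [([], 444, [])], []⟩
def c446 : Clm := ⟨11, 12, true, [13,3,14,5,12,10,8,6,13,10,14,8,13,6,5,11], [5,9,13,14,11,13,2,8,6,10,8], 11, [([], 372, [10,12,14,13,7,14,13,9]), ([640,654,645], 408, [3,10,13,14])], []⟩
def c447 : Clm := ⟨12, 11, true, [5,9,13,14,11,13,2,8,6,10,8], [13,3,14,5,12,10,8,6,13,10,14,8,13,6,5,11], 5, [([], 446, [])], []⟩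
def c448 : Clm := ⟨8, 12, true, [3,10,13,9,14,13,4,10,8,6,13,6,8,13,6,10,13,9], [3,7,13,14,12,13,1,8,13,6,11,13,14,8], 11, [([], 376, [3,5,7,9,10,14]), ([644,654,644], 408, [3,10,13,9,14,13,10,14,13])], []⟩
def c449 : Clm := ⟨12, 8, true, [3,7,13,14,12,13,1,8,13,6,11,13,14,8], [3,10,13,9,14,13,4,10,8,6,13,6,8,13,6,10,13,9], 5, [([], 448, [])], []⟩
def c450 : Clm := ⟨11, 12, true, [13,14,13,9,3,14,5,8,14,13,6,10,8,6,11], [12,13,14,13,2,8,6,7,10,8], 11, [([], 372, [9,3,14,5,12,10]), ([654,642,654], 408, [9,7,13,10,14])], []⟩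
def c451 : Clm := ⟨12, 11, true, [12,13,14,13,2,8,6,7,10,8], [13,14,13,9,3,14,5,8,14,13,6,10,8,6,11], 5, [([], 450, [])], []⟩
def c452 : Clm := ⟨11, 12, true, [3,5,9,14,13,10,14,13,4,8,6,8,13,6,8,13,14,13], [7,11,13,14,13,8,6,5,13,6,8], 11, [([], 372, [14,13,14,5,11,12]), ([654,645,640], 408, [9,13,14,13,14])], []⟩
def c453 : Clm := ⟨12, 11, true, [7,11,13,14,13,8,6,5,13,6,8], [3,5,9,14,13,10,14,13,4,8,6,8,13,6,8,13,14,13], 5, [([], 452, [])], []⟩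
def c454 : Clm := ⟨12, 12, true, [3,5,9,10,9,7,12,2,8,10,8,14,8,13,6,8,11], [12,13,14,13,9,3,8,6,7,13,6,10,8], 11, [([], 428, [7,9,14,5,12,14]), ([654,642,654], 408, [10,13,14,13,14])], []⟩
def c455 : Clm := ⟨12, 12, true, [12,13,14,13,9,3,8,6,7,13,6,10,8], [3,5,9,10,9,7,12,2,8,10,8,14,8,13,6,8,11], 5, [([], 454, [])], []⟩
def c456 : Clm := ⟨8, 12, true, [12,14,13,10,12,14,2,8,14,13,10,14,8,7], [5,7,9,13,14,5,8,6,7,10,13,6,8], 11, [([], 342, [3,13,9,14,11,13,10,14]), ([654,644,640], 408, [4,9,14,13,10,14])], []⟩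
def c457 : Clm := ⟨12, 8, true, [5,7,9,13,14,5,8,6,7,10,13,6,8], [12,14,13,10,12,14,2,8,14,13,10,14,8,7], 5, [([], 456, [])], []⟩
def c458 : Clm := ⟨10, 12, true, [13,14,13,9,11,14,13,14,2,8,6,13,6,8,13,7,14,13], [4,13,14,5,11,2,8,6,10,13,6,8], 11, [([], 381, [4,5,10,14,13,3,14,5,13,14]), ([654,642,654], 408, [7,9,14,13,10,14])], []⟩
def c459 : Clm := ⟨12, 10, true, [4,13,14,5,11,2,8,6,10,13,6,8], [13,14,13,9,11,14,13,14,2,8,6,13,6,8,13,7,14,13], 5, [([], 458, [])], []⟩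
def c460 : Clm := ⟨12, 12, true, [13,14,5,11,9,8,7,14,13,10,14,8,7], [3,7,13,14,12,13,8,6,13,14,13,1,8], 11, [([], 409, [4,7,9,14,13,10,14]), ([645,654,642], 408, [3,10,14,13,9,7,10,14,5])], []⟩
def c461 : Clm := ⟨10, 12, true, [9,3,13,14,13,10,9,1,8,10,13,8,6,8,13,14,13], [4,13,10,9,14,12,1,8,10,8,13,6,8,13,1], 11, [([], 385, [7,11,13,14,5,13,14,13]), ([654,640,654,644], 408, [9,14,13,10,14,11,13,4,14])], []⟩
def c462 : Clm := ⟨12, 10, true, [4,13,10,9,14,12,1,8,10,8,13,6,8,13,1], [9,3,13,14,13,10,9,1,8,10,13,8,6,8,13,14,13], 5, [([], 461, [])], []⟩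
def c463 : Clm := ⟨12, 12, true, [11,13,7,14,5,12,1,8,10,13,6,8,7,13,1], [4,9,10,13,9,14,5,1,8,10,13,8,6,8,13,1], 11, [([], 409, [4,9,13,14,13,10,14,13,9,14]), ([644,654,645], 408, [4,9,14,13,10,14,13,14])], []⟩
def c464 : Clm := ⟨10, 12, true, [3,13,7,9,3,8,10,14,13,14,8,13,7], [4,11,13,14,8,6,7,13,6,10,8], 11, [([], 277, [4,9,13,10,14,13,14,12,13]), ([212,224,234], 411, [4,9,10,12,14,13,14])], []⟩
def c465 : Clm := ⟨12, 10, true, [4,11,13,14,8,6,7,13,6,10,8], [3,13,7,9,3,8,10,14,13,14,8,13,7], 5, [([], 464, [])], []⟩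
def c466 : Clm := ⟨12, 12, true, [7,13,9,14,11,13,8,14,13,10,14,8,7], [11,13,14,5,13,8,6,7,10,13,6,8], 11, [([], 412, [13,14,13,10,14]), ([212,210], 411, [13,14,13,10,14])], []⟩
def c467 : Clm := ⟨8, 12, true, [5,13,14,13,9,14,11,8,6,10,8,13,14,13,8,10,9], [4,11,13,9,14,5,8,6,7,13,6,10,8], 11, [([], 215, [5,7,14,5,13,7,14]), ([224,235], 411, [5,10,11,14,13,14])], []⟩
def c468 : Clm := ⟨12, 8, true, [4,11,13,9,14,5,8,6,7,13,6,10,8], [5,13,14,13,9,14,11,8,6,10,8,13,14,13,8,10,9], 5, [([], 467, [])], []⟩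
def c469 : Clm := ⟨12, 9, true, [3,5,7,9,14,13,3,10,8,6,7], [3,5,13,9,14,13,14,5,2,8,6], 9, [([799], 416, [7,5,14,12]), ([800,802,808], 421, [3,5,7,12,14])], []⟩
def c470 : Clm := ⟨9, 12, true, [3,5,13,9,14,13,14,5,2,8,6], [3,5,7,9,14,13,3,10,8,6,7], 5, [([], 469, [])], []⟩
def c471 : Clm := ⟨12, 12, true, [4,11,13,9,14,5,12,2,8,6,13,6,5,8,3,7], [7,13,14,12,2,8,14,13,14,8,3], 11, [([], 418, [3,5,14,5,13,4,14,5]), ([116,116], 417, [5,9,3,14,13,14,12])], []⟩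
def c472 : Clm := ⟨12, 12, true, [13,3,4,14,5,13,14,2,8,14,13,6,8,14,11], [7,13,9,3,14,13,8,14,13,2,6,8], 11, [([], 418, [3,4,5,13,14,13,14,5]), ([116,108,116,116], 417, [3,4,5,13,14,13,14])], []⟩
def c473 : Clm := ⟨12, 12, true, [7,10,13,9,14,13,8,10,14,8,11,9,7], [4,10,13,14,13,3,9,8,6,10,8], 11, [([], 421, [10,13,9,14,5,12]), ([471,482,469], 420, [10,13,14])], []⟩
def c474 : Clm := ⟨12, 12, true, [10,11,13,14,12,13,14,5,8,6,7,10,8,10], [4,10,13,3,14,13,9,8,6,10,8], 11, [([], 421, [11,13,10,14,5]), ([482,472,482], 420, [11,13,10,14])], []⟩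
def c475 : Clm := ⟨12, 12, true, [5,9,13,14,5,12,2,8,14,13,14,13,8,14,5], [3,13,14,13,9,14,13,4,2,8,6,10,9,13,6,8], 11, [([], 458, [13,4,14,11,9]), ([556,544,556,546], 422, [9,13,10,14,13,9,14,12])], []⟩
def c476 : Clm := ⟨12, 12, true, [3,13,14,13,9,14,13,4,2,8,6,10,9,13,6,8], [5,9,13,14,5,12,2,8,14,13,14,13,8,14,5], 5, [([], 475, [])], []⟩
def c477 : Clm := ⟨8, 12, true, [3,13,10,14,13,9,14,5,12,8,6,13,6,8,13,14,8,11], [13,14,13,14,13,8,6,13,3,6,10,8], 11, [([], 315, [3,9,13,3,10,14,13,9,14,13]), ([542,556], 422, [9,3,13,10,14,13,14])], []⟩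
def c478 : Clm := ⟨12, 8, true, [13,14,13,14,13,8,6,13,3,6,10,8], [3,13,10,14,13,9,14,5,12,8,6,13,6,8,13,14,8,11], 5, [([], 477, [])], []⟩
def c479 : Clm := ⟨12, 12, true, [3,5,11,12,2,8,10,14,8,13,6,5,11], [3,4,5,11,12,8,6,10,8,13,6,5,9], 11, [([], 431, [7,9,7,14,5]), ([798,808,798], 431, [12,14,11,9])], []⟩
def c480 : Clm := ⟨12, 12, true, [3,7,5,9,7,2,8,10,14,8,13,14,5], [5,7,9,10,14,5,7,9,8,6,10,8,9,13,6,13,2], 9, [([], 435, [7,5,14]), ([798,808,798], 476, [5,9,14,12,13,14,13,14,5])], []⟩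
def c481 : Clm := ⟨3, 13, true, [6,13,8,10,6,8], [], 1, [], []⟩
def c482 : Clm := ⟨13, 3, true, [], [4,14,12,1,8,13,6,10,8], 5, [([], 481, [])], []⟩
def c483 : Clm := ⟨13, 13, false, [], [9,11,14,13,10,9,14,5,13,14], 3, [([], 481, []), ([76,58,77,59,61,70], 481, [9,11,14,13,10,9,14,5,13,14])], []⟩
def c484 : Clm := ⟨13, 13, false, [], [5,7,10,12], 3, [([], 481, []), ([76,70,76,59,70,60,59], 481, [5,7,10,12])], []⟩
def c485 : Clm := ⟨13, 8, true, [8], [9,13,14,11,1,8,7,13], 9, [([], 481, []), ([56,76,55], 210, [4,7,13,14,13,9])], []⟩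
def c486 : Clm := ⟨8, 13, true, [9,13,14,11,1,8,7,13], [8], 5, [([], 485, [])], []⟩
def c487 : Clm := ⟨13, 13, false, [8], [3,4,2], 3, [([], 486, []), ([391,397,391,389,391,396,390,397,388], 486, [3,4])], []⟩
def c488 : Clm := ⟨13, 13, true, [3,8], [5,7,10,12,2,8,7], 9, [([], 481, [3]), ([58,60,54], 482, [3,5,10,12])], []⟩
def c489 : Clm := ⟨13, 13, true, [5,7,10,12,2,8,7], [3,8], 5, [([], 488, [])], []⟩
def c490 : Clm := ⟨13, 5, true, [7,8], [4,14,2,8,6,13,6,10,8,7], 9, [([], 481, [7]), ([76,60,59,56,54], 59, [3,10,11,14,13,4,14])], []⟩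
def c491 : Clm := ⟨5, 13, true, [4,14,2,8,6,13,6,10,8,7], [7,8], 5, [([], 490, [])], []⟩
def c492 : Clm := ⟨13, 5, true, [14,8], [10,9,14,13,10,14,12,13,8,6,13,10,14,8,7], 9, [([], 481, [14]), ([55,76,54], 98, [4,10,14,13,14,13,9])], []⟩
def c493 : Clm := ⟨5, 13, true, [10,9,14,13,10,14,12,13,8,6,13,10,14,8,7], [14,8], 5, [([], 492, [])], []⟩
def c494 : Clm := ⟨13, 13, false, [14,8], [9,10,9,7,14,8,6,7,10,8,7], 3, [([], 493, []), ([105,116,105,116,106], 493, [9,10,9,14])], []⟩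
def c495 : Clm := ⟨13, 6, true, [3,14,8], [3,13,9,14,12,2,8,6,10,13,6,8,7], 9, [([], 481, [3,14]), ([60,71], 122, [9,14,13,10,14,12])], []⟩
def c496 : Clm := ⟨6, 13, true, [3,13,9,14,12,2,8,6,10,13,6,8,7], [3,14,8], 5, [([], 495, [])], []⟩
def c497 : Clm := ⟨13, 10, true, [5,14,8], [13,9,14,13,4,10,14,13,1,8,7,13], 9, [([], 481, [5,14]), ([76,54,54], 291, [4,11,14,13,14,12])], []⟩
def c498 : Clm := ⟨10, 13, true, [13,9,14,13,4,10,14,13,1,8,7,13], [5,14,8], 5, [([], 497, [])], []⟩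
def c499 : Clm := ⟨13, 13, true, [7,14,8], [3,7,9,10,9,14,5,2,8,7], 9, [([], 481, [7,14]), ([56,61,59,55], 482, [9,10,11,9,14,5,12])], []⟩
def c500 : Clm := ⟨13, 13, true, [3,7,9,10,9,14,5,2,8,7], [7,14,8], 5, [([], 499, [])], []⟩
def c501 : Clm := ⟨13, 12, true, [9,10,8], [10,9,14,5,12,14,2,8,7], 9, [([], 481, [9,10]), ([60,56], 398, [5,10,11,9,14,5,12])], []⟩
def c502 : Clm := ⟨12, 13, true, [10,9,14,5,12,14,2,8,7], [9,10,8], 5, [([], 501, [])], []⟩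
def c503 : Clm := ⟨13, 13, true, [11,14,8], [4,7,14,5,2,8,7], 9, [([], 481, [11,14]), ([59,56,55,56], 482, [3,4,14,5,11])], []⟩
def c504 : Clm := ⟨13, 5, true, [13,14,8], [5,9,3,14,13,14,5,1,8,13,6,13,6,8,6], 9, [([], 481, [13,14]), ([59,76,59,55], 98, [13,9,14,13,14,13,3,9])], []⟩
def c505 : Clm := ⟨5, 13, true, [5,9,3,14,13,14,5,1,8,13,6,13,6,8,6], [13,14,8], 5, [([], 504, [])], []⟩
def c506 : Clm := ⟨13, 11, true, [3,13,14,8], [11,13,9,14,12,13,14,2,8,7], 9, [([], 481, [3,13,14]), ([54,77,56], 319, [5,9,13,14,13,14])], []⟩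
def c507 : Clm := ⟨11, 13, true, [11,13,9,14,12,13,14,2,8,7], [3,13,14,8], 5, [([], 506, [])], []⟩
def c508 : Clm := ⟨13, 10, true, [4,9,10,8], [5,13,14,13,3,9,14,13,1,8,7,13], 9, [([], 481, [4,9,10]), ([58,76,70,55], 291, [9,7,10,9,14,13,14])], []⟩
def c509 : Clm := ⟨10, 13, true, [5,13,14,13,3,9,14,13,1,8,7,13], [4,9,10,8], 5, [([], 508, [])], []⟩
def c510 : Clm := ⟨13, 6, true, [5,7,14,8], [3,13,10,14,13,4,9,8,6,5,10,8,6,7], 9, [([], 481, [5,7,14]), ([71,76,60], 122, [10,4,9,13,10,14,5])], []⟩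
def c511 : Clm := ⟨6, 13, true, [3,13,10,14,13,4,9,8,6,5,10,8,6,7], [5,7,14,8], 5, [([], 510, [])], []⟩
def c512 : Clm := ⟨13, 5, true, [5,11,14,8], [9,10,14,13,9,14,5,13,8,6,10,13,9,14,8,7], 9, [([], 481, [5,11,14]), ([54,76,54], 98, [14,5,13,14,13,7,5])], []⟩
def c513 : Clm := ⟨5, 13, true, [9,10,14,13,9,14,5,13,8,6,10,13,9,14,8,7], [5,11,14,8], 5, [([], 512, [])], []⟩
def c514 : Clm := ⟨13, 13, true, [5,13,14,8], [4,5,9,14,13,14,13,10,4,2,8,7], 9, [([], 481, [5,13,14]), ([61,70,61], 482, [5,9,7,14,13,14,13,10])], []⟩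
def c515 : Clm := ⟨13, 5, true, [9,7,10,8], [4,9,14,13,10,9,8,6,5,10,8,7,14], 9, [([], 481, [9,7,10]), ([56,77,70,54], 59, [13,4,10,9,14,5])], []⟩
def c516 : Clm := ⟨5, 13, true, [4,9,14,13,10,9,8,6,5,10,8,7,14], [9,7,10,8], 5, [([], 515, [])], []⟩
def c517 : Clm := ⟨13, 13, true, [9,10,14,8], [5,9,10,9,7,14,5,12,2,8,7], 9, [([], 481, [9,10,14]), ([55,55], 482, [3,9,7,5,10,9,14,5])], []⟩
def c518 : Clm := ⟨13, 11, true, [10,13,14,8], [5,13,14,13,9,10,9,14,13,14,1,2,8,7], 9, [([], 481, [10,13,14]), ([70,54,77,55], 392, [4,12,14,13,14,13,9])], []⟩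
def c519 : Clm := ⟨11, 13, true, [5,13,14,13,9,10,9,14,13,14,1,2,8,7], [10,13,14,8], 5, [([], 518, [])], []⟩
def c520 : Clm := ⟨13, 6, true, [13,3,14,8], [5,14,13,4,10,14,11,13,9,1,8,7,13,6,13,6,8,14], 9, [([], 481, [13,3,14]), ([71,77,71,54], 122, [5,9,14,13,9,14,13,10])], []⟩
def c521 : Clm := ⟨6, 13, true, [5,14,13,4,10,14,11,13,9,1,8,7,13,6,13,6,8,14], [13,3,14,8], 5, [([], 520, [])], []⟩
def c522 : Clm := ⟨13, 5, true, [14,13,14,8], [14,5,11,13,1,8,10,13,6,13,14,8,7], 9, [([], 481, [14,13,14]), ([54,76,54,76], 59, [5,11,13,4,14,13,9,14,13])], []⟩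
def c523 : Clm := ⟨5, 13, true, [14,5,11,13,1,8,10,13,6,13,14,8,7], [14,13,14,8], 5, [([], 522, [])], []⟩
def c524 : Clm := ⟨13, 6, true, [3,5,13,14,8], [5,7,10,9,14,13,4,14,1,8,7,13,6,13,6,8,14], 9, [([], 481, [3,5,13,14]), ([56,76,60], 122, [13,10,14,13,14,5,11,13])], []⟩
def c525 : Clm := ⟨6, 13, true, [5,7,10,9,14,13,4,14,1,8,7,13,6,13,6,8,14], [3,5,13,14,8], 5, [([], 524, [])], []⟩
def c526 : Clm := ⟨13, 6, true, [9,7,10,14,8], [11,13,9,14,13,9,8,6,5,10,8,7], 9, [([], 481, [9,7,10,14]), ([70,77,71,55], 122, [13,3,10,14,5])], []⟩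
def c527 : Clm := ⟨6, 13, true, [11,13,9,14,13,9,8,6,5,10,8,7], [9,7,10,14,8], 5, [([], 526, [])], []⟩
def c528 : Clm := ⟨13, 9, true, [9,10,13,14,8], [3,13,14,13,9,10,9,2,8,7], 9, [([], 481, [9,10,13,14]), ([55,70,54], 232, [7,13,9,10,14,13,9])], []⟩
def c529 : Clm := ⟨9, 13, true, [3,13,14,13,9,10,9,2,8,7], [9,10,13,14,8], 5, [([], 528, [])], []⟩
def c530 : Clm := ⟨13, 12, true, [9,13,10,14,8], [13,4,14,12,2,8,7], 9, [([], 481, [9,13,10,14]), ([55,77,58], 398, [4,7,13,3,14,12])], []⟩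
def c531 : Clm := ⟨12, 13, true, [13,4,14,12,2,8,7], [9,13,10,14,8], 5, [([], 530, [])], []⟩
def c532 : Clm := ⟨13, 13, true, [13,9,10,14,8], [7,13,14,13,10,14,13,3,2,8,7], 9, [([], 481, [13,9,10,14]), ([70,76,59,54], 482, [11,13,14,13,10,14,13])], []⟩
def c533 : Clm := ⟨13, 5, true, [14,13,10,14,8], [3,10,13,9,14,11,13,14,1,8,7,13,6,13,6,8,14], 9, [([], 481, [14,13,10,14]), ([56,71,56,54], 59, [4,9,13,10,14,13,14,5,13])], []⟩
def c534 : Clm := ⟨5, 13, true, [3,10,13,9,14,11,13,14,1,8,7,13,6,13,6,8,14], [14,13,10,14,8], 5, [([], 533, [])], []⟩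
def c535 : Clm := ⟨13, 13, true, [4,9,10,13,14,8], [3,13,14,13,14,13,10,2,8,7], 9, [([], 481, [4,9,10,13,14]), ([56,54,76,59], 482, [3,12,13,14,13,14,13,10])], []⟩
def c536 : Clm := ⟨13, 13, true, [3,13,14,13,14,13,10,2,8,7], [4,9,10,13,14,8], 5, [([], 535, [])], []⟩
def c537 : Clm := ⟨13, 6, true, [4,13,9,10,14,8], [7,9,14,13,10,14,8,6,13,10,8,6,8,13,6], 9, [([], 481, [4,13,9,10,14]), ([71,55,77], 157, [3,10,13,9,14,13,7,14])], []⟩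
def c538 : Clm := ⟨6, 13, true, [7,9,14,13,10,14,8,6,13,10,8,6,8,13,6], [4,13,9,10,14,8], 5, [([], 537, [])], []⟩
def c539 : Clm := ⟨13, 6, true, [5,13,9,10,14,8], [3,13,14,1,8,10,13,6,8,13,1,7], 9, [([], 481, [5,13,9,10,14]), ([76,60,76,60,56], 122, [4,14,13,9,14,13,4,14,13])], []⟩
def c540 : Clm := ⟨6, 13, true, [3,13,14,1,8,10,13,6,8,13,1,7], [5,13,9,10,14,8], 5, [([], 539, [])], []⟩
def c541 : Clm := ⟨13, 10, true, [9,7,13,10,14,8], [4,5,14,11,9,13,14,5,2,8,7], 9, [([], 481, [9,7,13,10,14]), ([54], 270, [5,9,14,13,4,14,5])], []⟩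
def c542 : Clm := ⟨10, 13, true, [4,5,14,11,9,13,14,5,2,8,7], [9,7,13,10,14,8], 5, [([], 541, [])], []⟩
def c543 : Clm := ⟨13, 13, true, [4,5,7,9,10,11,2,8,6,10,8,14], [4,5,7,9,7,11,2,8,6,10,8], 11, [([], 486, [3,10,14,12]), ([388,391,396,388,390,388], 485, [3,10,14])], []⟩
def c544 : Clm := ⟨13, 13, true, [4,9,10,11,9,8,6,7,10,8,9,14], [3,7,9,7,11,8,6,10,8], 11, [([], 486, [5,10,4,9,14,12]), ([397,391,388,391,396,388], 485, [5,10,14])], []⟩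
def c545 : Clm := ⟨12, 13, true, [7,10,13,3,14,13,2,8,14,13,6,8,10,8,14,13,1], [4,5,7,9,7,11,2,8,6,7,10,8], 11, [([], 477, [5,11,14,13,9,14,5]), ([391,391], 485, [7,10,14])], []⟩
def c546 : Clm := ⟨13, 12, true, [4,5,7,9,7,11,2,8,6,7,10,8], [7,10,13,3,14,13,2,8,14,13,6,8,10,8,14,13,1], 5, [([], 545, [])], []⟩
def c547 : Clm := ⟨13, 13, true, [4,7,5,12,14,12,8,6,10,8,10,11], [3,11,14,12,14,5,8,6,10,8], 11, [([], 486, [4,9,10,14,5,12]), ([388,391,397,391,388], 485, [9,10,14])], []⟩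
def c548 : Clm := ⟨12, 13, true, [7,14,2,8,6,10,8,13,14,11,13,8,6], [3,7,9,7,12,8,6,10,8], 11, [([], 477, [5,14,13,3,9,10,14,5]), ([390], 485, [10,11,14])], []⟩
def c549 : Clm := ⟨13, 12, true, [3,7,9,7,12,8,6,10,8], [7,14,2,8,6,10,8,13,14,11,13,8,6], 5, [([], 548, [])], []⟩
def c550 : Clm := ⟨8, 13, true, [4,5,7,14,13,9,8,6,13,6,8,13,6,13,8], [7,9,3,7,11,8,6,10,8], 11, [([], 214, [3,5,10,14,13,9,14,11]), ([397,390,396,388,390,388], 485, [4,5,10,14])], []⟩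
def c551 : Clm := ⟨13, 8, true, [7,9,3,7,11,8,6,10,8], [4,5,7,14,13,9,8,6,13,6,8,13,6,13,8], 5, [([], 550, [])], []⟩
def c552 : Clm := ⟨10, 13, true, [11,14,13,10,14,13,8,7,10,14,13,6,8,6,10], [5,13,14,12,14,2,8,6,10,8], 11, [([], 312, [4,10,13,14,13,9,3,14,5]), ([391,396,390,388], 485, [9,3,13,10,14])], []⟩
def c553 : Clm := ⟨13, 10, true, [5,13,14,12,14,2,8,6,10,8], [11,14,13,10,14,13,8,7,10,14,13,6,8,6,10], 5, [([], 552, [])], []⟩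
def c554 : Clm := ⟨10, 13, true, [3,5,7,12,14,8,6,5,13,6,5,8,7,10], [3,7,9,7,8,6,13,3,6,10,8], 11, [([], 312, [10,9,12]), ([391,391], 485, [3,10,14,13,14])], []⟩
def c555 : Clm := ⟨13, 10, true, [3,7,9,7,8,6,13,3,6,10,8], [3,5,7,12,14,8,6,5,13,6,5,8,7,10], 5, [([], 554, [])], []⟩
def c556 : Clm := ⟨12, 13, true, [12,13,10,14,13,9,14,5,8,6,10,13,6,8,6,9,13,1], [4,13,7,9,7,8,14,13,2,6,8], 11, [([], 444, [5,10,9,13,14,5,13,14,5]), ([390,390,396,396,388], 485, [3,13,14,13,14])], []⟩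
def c557 : Clm := ⟨13, 12, true, [4,13,7,9,7,8,14,13,2,6,8], [12,13,10,14,13,9,14,5,8,6,10,13,6,8,6,9,13,1], 5, [([], 556, [])], []⟩
def c558 : Clm := ⟨5, 13, true, [4,13,10,14,13,9,14,13,9,8,6,10,13,6,8,7,10,9,12], [3,11,12,14,12,14,8,6,7,10,8], 11, [([], 227, [5,7,14,13,10,12,14]), ([390,397,391,388], 485, [5,9,3,7,10,14])], []⟩
def c559 : Clm := ⟨13, 5, true, [3,11,12,14,12,14,8,6,7,10,8], [4,13,10,14,13,9,14,13,9,8,6,10,13,6,8,7,10,9,12], 5, [([], 558, [])], []⟩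
def c560 : Clm := ⟨5, 13, true, [10,4,13,14,5,13,14,13,8,6,13,10,8,14,13,8,11], [3,7,11,9,7,8,6,7,13,6,10,8], 11, [([], 201, [3,5,13,14,13,14,5,11,13]), ([397,391,397,388], 485, [5,10,14,13,14])], []⟩
def c561 : Clm := ⟨13, 5, true, [3,7,11,9,7,8,6,7,13,6,10,8], [10,4,13,14,5,13,14,13,8,6,13,10,8,14,13,8,11], 5, [([], 560, [])], []⟩
def c562 : Clm := ⟨12, 13, true, [9,14,13,10,14,13,4,14,13,8,6,5,13,6,13,6,8], [3,13,14,12,14,8,6,10,8], 11, [([], 436, [9,13,14,13,10,14,13,4,9,14]), ([388,391], 485, [5,13,9,10,14])], []⟩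
def c563 : Clm := ⟨13, 12, true, [3,13,14,12,14,8,6,10,8], [9,14,13,10,14,13,4,14,13,8,6,5,13,6,13,6,8], 5, [([], 562, [])], []⟩
def c564 : Clm := ⟨8, 13, true, [10,14,13,14,5,11,2,8,14,13,10,8,6,8,7], [5,11,12,2,8,6,10,13,6,8], 11, [([], 225, [4,14,13,9,14,13,3,10,14]), ([396,391,396,388], 485, [7,14,13,10,14])], []⟩
def c565 : Clm := ⟨13, 8, true, [5,11,12,2,8,6,10,13,6,8], [10,14,13,14,5,11,2,8,14,13,10,8,6,8,7], 5, [([], 564, [])], []⟩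
def c566 : Clm := ⟨6, 13, true, [5,13,14,13,14,13,3,8,6,13,6,13,8,14,13,6,7], [5,11,9,3,8,6,7,10,13,6,8], 11, [([], 216, [3,10,9,14,13,14,5,11]), ([396,391,396,390], 485, [9,14,13,10,14])], []⟩
def c567 : Clm := ⟨13, 6, true, [5,11,9,3,8,6,7,10,13,6,8], [5,13,14,13,14,13,3,8,6,13,6,13,8,14,13,6,7], 5, [([], 566, [])], []⟩
def c568 : Clm := ⟨8, 13, true, [3,5,14,13,4,10,14,13,14,8,6,8,13,14,5,8,10,9], [3,7,9,7,8,6,7,13,6,10,8], 11, [([], 224, [3,5,9,13,14,13,10]), ([388,390,396,388,390], 485, [10,11,14,13,14])], []⟩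
def c569 : Clm := ⟨13, 8, true, [3,7,9,7,8,6,7,13,6,10,8], [3,5,14,13,4,10,14,13,14,8,6,8,13,14,5,8,10,9], 5, [([], 568, [])], []⟩
def c570 : Clm := ⟨12, 13, true, [11,13,14,5,8,6,13,6,8,10,9], [4,7,9,7,2,8,6,13,6,10,8], 11, [([], 467, [5,9,3,7,10,12]), ([396,390,396,390], 485, [10,14,13,3,14])], []⟩
def c571 : Clm := ⟨13, 12, true, [4,7,9,7,2,8,6,13,6,10,8], [11,13,14,5,8,6,13,6,8,10,9], 5, [([], 570, [])], []⟩
def c572 : Clm := ⟨13, 13, true, [12,10,13,14,13,9,14,13,2,8,6,13,14,8,10,11,8,6], [4,7,9,13,7,8,14,13,2,6,8], 11, [([], 568, [13,9,10,14,13,4,14]), ([396,391,397,388,391], 485, [13,3,14,13,14])], []⟩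
def c573 : Clm := ⟨13, 13, true, [4,7,9,13,7,8,14,13,2,6,8], [12,10,13,14,13,9,14,13,2,8,6,13,14,8,10,11,8,6], 5, [([], 572, [])], []⟩
def c574 : Clm := ⟨11, 13, true, [3,9,14,13,14,13,9,3,8,6,10,13,8,14,13,10,8,10,14], [3,13,14,12,14,5,8,6,5,13,6,8], 11, [([], 388, [3,9,11,13,14,13,14,5]), ([396,391], 485, [13,9,14,13,14])], []⟩
def c575 : Clm := ⟨13, 11, true, [3,13,14,12,14,5,8,6,5,13,6,8], [3,9,14,13,14,13,9,3,8,6,10,13,8,14,13,10,8,10,14], 5, [([], 574, [])], []⟩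
def c576 : Clm := ⟨5, 13, true, [3,5,13,14,5,13,14,13,2,8,6,13,10,8,14,8,11], [9,13,7,9,7,8,14,13,2,6,8], 11, [([], 212, [5,14,13,4,9,14,5,11]), ([390,396,391,397], 485, [3,9,13,14,13,14])], []⟩
def c577 : Clm := ⟨13, 5, true, [9,13,7,9,7,8,14,13,2,6,8], [3,5,13,14,5,13,14,13,2,8,6,13,10,8,14,8,11], 5, [([], 576, [])], []⟩
def c578 : Clm := ⟨13, 13, true, [4,5,11,13,14,13,9,14,13,10,8,6,10,13,8,6,8,10,12], [3,9,13,7,9,7,8,6,5,13,6,8], 11, [([], 568, [4,5,13,14,13,7,10,14,5]), ([390,396,391,396], 485, [4,13,9,14,13,14])], []⟩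
def c579 : Clm := ⟨13, 13, true, [3,9,13,7,9,7,8,6,5,13,6,8], [4,5,11,13,14,13,9,14,13,10,8,6,10,13,8,6,8,10,12], 5, [([], 578, [])], []⟩
def c580 : Clm := ⟨11, 13, true, [12,14,5,11,9,8,6,7,10,13,6,8,14,13,10], [3,11,14,12,14,8,6,7,13,6,10,8], 11, [([], 375, [4,7,10,9,14,13,10]), ([396,390,396,391], 485, [5,9,10,14,13,14])], []⟩
def c581 : Clm := ⟨13, 11, true, [3,11,14,12,14,8,6,7,13,6,10,8], [12,14,5,11,9,8,6,7,10,13,6,8,14,13,10], 5, [([], 580, [])], []⟩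
def c582 : Clm := ⟨13, 13, true, [3,10,9,7,11,13,14,8,6,10,13,8,6,13,8,14,8], [3,13,8,6,7,10,13,6,8], 11, [([], 568, [4,9,13,10,14,13,3,9,14,13]), ([397,390,396,391,396], 485, [5,13,14,13,10,14])], []⟩
def c583 : Clm := ⟨13, 13, true, [3,13,8,6,7,10,13,6,8], [3,10,9,7,11,13,14,8,6,10,13,8,6,13,8,14,8], 5, [([], 582, [])], []⟩
def c584 : Clm := ⟨13, 13, true, [5,13,14,13,9,14,13,3,10,8,6,13,6,8,10,14,11,13], [5,9,3,12,8,6,13,3,6,10,8], 11, [([], 568, [10,13,3,9,14,12]), ([397,391,397,388], 485, [3,4,5,14,13,9,10,14])], []⟩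
def c585 : Clm := ⟨13, 13, true, [5,9,3,12,8,6,13,3,6,10,8], [5,13,14,13,9,14,13,3,10,8,6,13,6,8,10,14,11,13], 5, [([], 584, [])], []⟩
def c586 : Clm := ⟨13, 13, true, [10,14,13,3,14,13,4,8,6,7,10,13,6,8,6,13,10], [3,13,14,12,14,8,6,7,13,6,10,8], 11, [([], 568, [4,13,9,14,13,10,14,11,13,9]), ([391,397,391,396,390], 485, [9,13,10,14,13,14])], []⟩
def c587 : Clm := ⟨13, 13, true, [3,13,14,12,14,8,6,7,13,6,10,8], [10,14,13,3,14,13,4,8,6,7,10,13,6,8,6,13,10], 5, [([], 586, [])], []⟩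
def c588 : Clm := ⟨8, 13, true, [5,13,9,3,14,8,6,7,13,10,14,8], [12,13,14,13,9,11,14,13,8,6,10,8,13,14,5,13,8,14], 9, [([], 485, [9,13,14,13,10,14]), ([968,966,988,974,966], 585, [9,10,9,14,13,3,14,13,14])], []⟩
def c589 : Clm := ⟨13, 8, true, [12,13,14,13,9,11,14,13,8,6,10,8,13,14,5,13,8,14], [5,13,9,3,14,8,6,7,13,10,14,8], 5, [([], 588, [])], []⟩
def c590 : Clm := ⟨13, 13, true, [3,14,5,13,14,13,4,10,14,8,10,14,13,8,6,8], [3,9,13,4,8,6,7,10,13,6,8], 11, [([], 568, [13,3,14,5,13,4,14]), ([388,391,396,390,390,388], 485, [13,9,14,13,10,14])], []⟩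
def c591 : Clm := ⟨13, 13, true, [3,9,13,4,8,6,7,10,13,6,8], [3,14,5,13,14,13,4,10,14,8,10,14,13,8,6,8], 5, [([], 590, [])], []⟩
def c592 : Clm := ⟨8, 13, true, [3,14,11,12,8,6,10,13,6,8,7,10,9,13], [3,5,11,9,1,8,13,6,10,8,13,1], 11, [([], 224, [10,13,7,9]), ([397,388,391,391,388], 485, [14,5,13,14,13,14])], []⟩
def c593 : Clm := ⟨13, 8, true, [3,5,11,9,1,8,13,6,10,8,13,1], [3,14,11,12,8,6,10,13,6,8,7,10,9,13], 5, [([], 592, [])], []⟩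
def c594 : Clm := ⟨13, 13, true, [10,9,13,14,13,3,10,14,13,14,8,14,13,6,8,13,9,14,13], [3,4,13,8,6,7,10,13,6,8], 11, [([], 568, [3,5,13,14,13,9,3,14,13]), ([397,390,390,390,388], 485, [4,5,13,14,13,10,14])], []⟩
def c595 : Clm := ⟨13, 13, true, [3,4,13,8,6,7,10,13,6,8], [10,9,13,14,13,3,10,14,13,14,8,14,13,6,8,13,9,14,13], 5, [([], 594, [])], []⟩
def c596 : Clm := ⟨12, 13, true, [9,13,3,10,9,14,13,8,6,13,6,13,8,10,14,13,14], [3,5,9,13,8,6,10,13,3,6,8], 11, [([], 467, [12,14,13,7,14,13]), ([391,388,391], 485, [3,9,13,14,13,10,14])], []⟩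
def c597 : Clm := ⟨13, 12, true, [3,5,9,13,8,6,10,13,3,6,8], [9,13,3,10,9,14,13,8,6,13,6,13,8,10,14,13,14], 5, [([], 596, [])], []⟩
def c598 : Clm := ⟨13, 13, true, [9,13,7,10,14,13,14,5,13,8,6,13,6,8,10,8,6], [3,5,13,9,8,6,10,13,3,6,8], 11, [([], 568, [4,7,10,13,9,14,13,10,14]), ([396,391,397,390,397], 485, [3,13,9,14,13,10,14])], []⟩
def c599 : Clm := ⟨13, 13, true, [3,5,13,9,8,6,10,13,3,6,8], [9,13,7,10,14,13,14,5,13,8,6,13,6,8,10,8,6], 5, [([], 598, [])], []⟩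
def c600 : Clm := ⟨13, 6, true, [3,7,10,9,11,8,10,14,8,12], [3,4,13,10,14,13,14,5,11,8,6,10,8,11,9], 9, [([968], 489, [5,9,10,14,12]), ([988,968], 511, [7,12,10,14])], []⟩
def c601 : Clm := ⟨6, 13, true, [3,4,13,10,14,13,14,5,11,8,6,10,8,11,9], [3,7,10,9,11,8,10,14,8,12], 5, [([], 600, [])], []⟩
def c602 : Clm := ⟨4, 13, true, [13,14,13,4,9,8,14,13,6,13,1,8,9,7], [4,5,9,7,12,2,8,6,10,8], 11, [([], 61, [4,14,13,7,10,9,14,5]), ([117,109,106], 490, [3,10,14])], []⟩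
def c603 : Clm := ⟨13, 4, true, [4,5,9,7,12,2,8,6,10,8], [13,14,13,4,9,8,14,13,6,13,1,8,9,7], 5, [([], 602, [])], []⟩
def c604 : Clm := ⟨11, 13, true, [12,13,14,13,9,11,8,6,13,6,5,8,3,7], [3,5,9,7,8,6,5,13,6,8], 11, [([], 341, [4,11,9,13,14,13,9,14,5]), ([116,108,116,106], 490, [14,13,14])], []⟩
def c605 : Clm := ⟨13, 11, true, [3,5,9,7,8,6,5,13,6,8], [12,13,14,13,9,11,8,6,13,6,5,8,3,7], 5, [([], 604, [])], []⟩
def c606 : Clm := ⟨5, 13, true, [13,4,9,14,13,10,14,5,8,6,13,6,8,3,10,13,7], [10,9,7,13,14,13,14,5,8,10,14,13,8,14,13,8,14,5], 9, [([], 490, [3,10,13,14]), ([988,966,988,966,988], 579, [10,4,14,13,9,10,14,13])], []⟩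
def c607 : Clm := ⟨13, 5, true, [10,9,7,13,14,13,14,5,8,10,14,13,8,14,13,8,14,5], [13,4,9,14,13,10,14,5,8,6,13,6,8,3,10,13,7], 5, [([], 606, [])], []⟩
def c608 : Clm := ⟨6, 13, true, [7,10,13,9,14,13,10,2,8,6,10,8,14], [4,9,7,11,2,8,6,7,10,8], 11, [([], 127, [4,9,7,13,10,14]), ([116,104,109,106], 490, [5,7,10,14])], []⟩
def c609 : Clm := ⟨13, 6, true, [4,9,7,11,2,8,6,7,10,8], [7,10,13,9,14,13,10,2,8,6,10,8,14], 5, [([], 608, [])], []⟩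
def c610 : Clm := ⟨10, 13, true, [4,14,13,9,14,12,8,6,13,6,10,8,6,10,11], [4,11,9,7,8,14,13,2,6,8], 11, [([], 294, [4,5,14,13,10,14,13,7]), ([106,104,117,109,106], 490, [3,5,14,13,14])], []⟩
def c611 : Clm := ⟨13, 10, true, [4,11,9,7,8,14,13,2,6,8], [4,14,13,9,14,12,8,6,13,6,10,8,6,10,11], 5, [([], 610, [])], []⟩
def c612 : Clm := ⟨12, 13, true, [4,13,3,14,13,9,8,6,13,6,8,14,11], [9,13,7,9,3,8,6,10,8], 11, [([], 425, [5,12,14,13,4,14,5]), ([106,104,117,109], 490, [4,13,9,10,14])], []⟩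
def c613 : Clm := ⟨13, 12, true, [9,13,7,9,3,8,6,10,8], [4,13,3,14,13,9,8,6,13,6,8,14,11], 5, [([], 612, [])], []⟩
def c614 : Clm := ⟨10, 13, true, [5,7,10,13,9,8,10,8,14,8,13,6], [3,5,11,9,7,8,6,5,13,6,8], 11, [([], 294, [12,13,14]), ([104,117,104], 490, [5,11,14,13,14])], []⟩
def c615 : Clm := ⟨13, 10, true, [3,5,11,9,7,8,6,5,13,6,8], [5,7,10,13,9,8,10,8,14,8,13,6], 5, [([], 614, [])], []⟩
def c616 : Clm := ⟨10, 13, true, [14,13,3,8,6,10,13,3,6,8,7,13], [3,13,9,7,8,6,5,13,6,8], 11, [([], 292, [5,13,9,3,14,13,10,14,13,9]), ([117,108,106], 490, [5,13,14,13,14])], []⟩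
def c617 : Clm := ⟨13, 10, true, [3,13,9,7,8,6,5,13,6,8], [14,13,3,8,6,10,13,3,6,8,7,13], 5, [([], 616, [])], []⟩
def c618 : Clm := ⟨13, 13, true, [4,14,13,7,8,6,5,11], [4,9,7,2,8,6,13,6,10,8], 11, [([], 523, [3,14,5,11,9]), ([117], 490, [10,14,13,3,14])], []⟩
def c619 : Clm := ⟨13, 13, true, [14,13,9,3,10,14,5,8,6,7,10,8,9,14], [3,9,7,13,3,8,14,13,2,6,8], 11, [([], 534, [5,7,10,9,7,14]), ([116,109,109,106], 490, [3,5,13,14,13,14])], []⟩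
def c620 : Clm := ⟨13, 13, true, [3,9,7,13,3,8,14,13,2,6,8], [14,13,9,3,10,14,5,8,6,7,10,8,9,14], 5, [([], 619, [])], []⟩
def c621 : Clm := ⟨5, 13, true, [4,5,13,14,13,10,14,13,14,8,6,10,8,13,6,8,10,8,10], [3,10,14,13,7,8,6,13,10,9,14,5], 9, [([], 490, [3,13,10,14,13,14]), ([966,988,974], 578, [3,13,10,9,14,13,10,14,5])], []⟩
def c622 : Clm := ⟨13, 5, true, [3,10,14,13,7,8,6,13,10,9,14,5], [4,5,13,14,13,10,14,13,14,8,6,10,8,13,6,8,10,8,10], 5, [([], 621, [])], []⟩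
def c623 : Clm := ⟨5, 13, true, [9,11,13,14,5,13,8,14,13,10,8,14,13,8,14], [4,12,10,14,12,2,8,14,13,10,8,6,13,7], 9, [([], 490, [4,14,13,9,10,14]), ([974,966,988], 578, [9,10,14,13,9,14,5,12])], []⟩
def c624 : Clm := ⟨13, 5, true, [4,12,10,14,12,2,8,14,13,10,8,6,13,7], [9,11,13,14,5,13,8,14,13,10,8,14,13,8,14], 5, [([], 623, [])], []⟩
def c625 : Clm := ⟨13, 13, true, [3,9,7,9,13,8,6,13,14,8,7,13,6,5], [3,7,11,9,8,6,7,10,13,6,8], 11, [([], 623, [11,14,13,9,14]), ([104,116,108,116], 490, [4,5,9,14,13,10,14])], []⟩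
def c626 : Clm := ⟨13, 13, true, [3,7,11,9,8,6,7,10,13,6,8], [3,9,7,9,13,8,6,13,14,8,7,13,6,5], 5, [([], 625, [])], []⟩
def c627 : Clm := ⟨10, 13, true, [12,14,5,13,4,14,13,10,8,6,13,6,8,10,14,13,14,5], [4,13,7,5,2,8,6,10,13,6,8,9], 11, [([], 294, [3,5,9,10,14,5,11,9]), ([117,108,104,106], 490, [5,10,9,13,14,13,14])], []⟩
def c628 : Clm := ⟨13, 10, true, [4,13,7,5,2,8,6,10,13,6,8,9], [12,14,5,13,4,14,13,10,8,6,13,6,8,10,14,13,14,5], 5, [([], 627, [])], []⟩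
def c629 : Clm := ⟨13, 13, true, [7,9,11,14,13,14,5,8,6], [3,7,9,14,13,14,2,8,6,7], 11, [([], 523, [3,5,9,12,14]), ([116,108], 492, [5,13,3,14])], []⟩
def c630 : Clm := ⟨5, 13, true, [3,9,14,13,3,10,2,8,10,14,13,6,8,6,10,12], [10,4,9,7,11,8,6,8,13,6,8,10,8,6,13,4], 9, [([], 492, [11,13,10,14]), ([966,988,966,988], 578, [4,14,13,10,14,11])], []⟩
def c631 : Clm := ⟨13, 5, true, [10,4,9,7,11,8,6,8,13,6,8,10,8,6,13,4], [3,9,14,13,3,10,2,8,10,14,13,6,8,6,10,12], 5, [([], 630, [])], []⟩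
def c632 : Clm := ⟨13, 13, true, [14,13,14,13,7,5,14,2,8,14,13,6,8,14,13], [9,3,12,14,5,8,6,7,13,6,10,8], 11, [([], 523, [13,14,13,14,13,3]), ([109,109,106,104], 492, [5,10,11,14,13,14])], []⟩
def c633 : Clm := ⟨13, 13, true, [9,3,12,14,5,8,6,7,13,6,10,8], [14,13,14,13,7,5,14,2,8,14,13,6,8,14,13], 5, [([], 632, [])], []⟩
def c634 : Clm := ⟨13, 13, true, [3,7,9,14,13,14,8,6], [3,11,9,14,13,14,2,8,6,7], 11, [([], 496, [3,13,4,14,12]), ([235,212,210], 495, [3,13,14])], []⟩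
def c635 : Clm := ⟨11, 13, true, [4,5,11,14,13,9,10,14,2,8,6,13,6,8,13,6,13,7,10], [7,9,3,7,5,2,8,6,5], 11, [([], 363, [3,9,7,13,14,13,14,13,9]), ([225,235,210], 495, [5,7,14])], []⟩
def c636 : Clm := ⟨13, 11, true, [7,9,3,7,5,2,8,6,5], [4,5,11,14,13,9,10,14,2,8,6,13,6,8,13,6,13,7,10], 5, [([], 635, [])], []⟩
def c637 : Clm := ⟨11, 13, true, [3,5,9,11,14,8,6,10,8,13,10,14,13,1], [7,9,11,14,2,8,6,10,8], 11, [([], 373, [13,14,13,9,10,9,14,13,14]), ([224,214], 495, [3,5,10,14])], []⟩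
def c638 : Clm := ⟨13, 11, true, [7,9,11,14,2,8,6,10,8], [3,5,9,11,14,8,6,10,8,13,10,14,13,1], 5, [([], 637, [])], []⟩
def c639 : Clm := ⟨13, 13, true, [4,12,14,13,14,11,8,6], [14,13,7,9,14,2,8,6,7], 11, [([], 496, [3,5,13,9,14,12]), ([235,213,213], 495, [3,5,13,14])], []⟩
def c640 : Clm := ⟨6, 13, true, [9,13,3,14,13,9,14,13,14,8,6,5,13,6,13,8,14,13], [7,9,14,13,14,2,8,6,7], 11, [([], 166, [12,13,10,14,13,14,5,11]), ([234,214], 495, [5,13,3,14])], []⟩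
def c641 : Clm := ⟨13, 6, true, [7,9,14,13,14,2,8,6,7], [9,13,3,14,13,9,14,13,14,8,6,5,13,6,13,8,14,13], 5, [([], 640, [])], []⟩
def c642 : Clm := ⟨11, 13, true, [13,7,9,3,8,6,10,13,6,8,3,7], [3,9,12,14,5,11,2,8,6,10,13,6,8,9], 11, [([], 324, [13,9,14,13,10,14,11]), ([224,224], 495, [10,9,14,13,3,14])], []⟩
def c643 : Clm := ⟨13, 11, true, [3,9,12,14,5,11,2,8,6,10,13,6,8,9], [13,7,9,3,8,6,10,13,6,8,3,7], 5, [([], 642, [])], []⟩
def c644 : Clm := ⟨13, 13, true, [10,14,13,3,14,13,9,10,8,6,13,6,10,8,13,14,11], [3,9,14,12,13,2,8,6,7,10,8,9], 11, [([], 521, [4,10,9,14,13,14,13,10]), ([212,224,214], 495, [9,10,9,13,3,14])], []⟩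
def c645 : Clm := ⟨13, 13, true, [3,9,14,12,13,2,8,6,7,10,8,9], [10,14,13,3,14,13,9,10,8,6,13,6,10,8,13,14,11], 5, [([], 644, [])], []⟩
def c646 : Clm := ⟨10, 13, true, [3,10,12,14,5,12,2,8,6,10,8,14], [12,14,13,3,9,8,14,13,2,6,8], 11, [([], 280, [4,7,9,10,11,14]), ([234,234], 495, [3,13,14,13,14])], []⟩
def c647 : Clm := ⟨13, 10, true, [12,14,13,3,9,8,14,13,2,6,8], [3,10,12,14,5,12,2,8,6,10,8,14], 5, [([], 646, [])], []⟩
def c648 : Clm := ⟨6, 13, true, [4,13,9,14,13,9,14,13,8,14,13,14,8,13,7,14,5,13], [4,5,9,12,10,14,5,8,14,13,10,8,6,8,13,14,5], 9, [([], 495, [5,10,11,14,13,14]), ([966,968,988], 633, [14,5,13,3,14,12])], []⟩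
def c649 : Clm := ⟨13, 6, true, [4,5,9,12,10,14,5,8,14,13,10,8,6,8,13,14,5], [4,13,9,14,13,9,14,13,8,14,13,14,8,13,7,14,5,13], 5, [([], 648, [])], []⟩
def c650 : Clm := ⟨11, 13, true, [3,5,10,9,12,14,5,13,14,5,1,2,8,13,6], [5,11,9,14,13,14,2,8,6,7], 11, [([], 384, [4,14,13,7,14,12]), ([542,542,556,546], 497, [3,13,14])], []⟩
def c651 : Clm := ⟨13, 11, true, [5,11,9,14,13,14,2,8,6,7], [3,5,10,9,12,14,5,13,14,5,1,2,8,13,6], 5, [([], 650, [])], []⟩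
def c652 : Clm := ⟨13, 13, true, [5,14,13,7,9,14,8,6], [5,11,9,14,5,13,14,2,8,6,7], 11, [([], 498, [13,3,4,14,12]), ([544,542,542], 497, [13,3,14])], []⟩
def c653 : Clm := ⟨13, 13, true, [3,9,13,4,10,14,8,6,5,13,6,8,13,1,7], [3,5,14,12,8,6,10,13,3,6,8], 11, [([], 542, [5,13,9,3,14,13,10,14,13]), ([543,546,556], 497, [3,14,13,10,14])], []⟩
def c654 : Clm := ⟨10, 13, true, [4,13,3,9,14,13,10,14,2,8,6,13,6,5,8,13], [9,13,14,12,13,10,14,13,9,14,2,8,6,10,13,8,6,8,10,12,13], 9, [([], 497, [4,14,13,9,10,14]), ([968,966,988,966,968], 582, [3,10,9,13,14,12,13,14])], []⟩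
def c655 : Clm := ⟨13, 10, true, [9,13,14,12,13,10,14,13,9,14,2,8,6,10,13,8,6,8,10,12,13], [4,13,3,9,14,13,10,14,2,8,6,13,6,5,8,13], 5, [([], 654, [])], []⟩
def c656 : Clm := ⟨11, 13, true, [5,9,14,13,3,10,9,14,13,2,8,6,13,6,13,8,10,14,13,14], [5,12,14,13,9,8,14,13,2,6,8], 11, [([], 367, [5,12,13,14,13,14,11]), ([543,556,543,543], 497, [5,13,3,14,13,14])], []⟩
def c657 : Clm := ⟨13, 11, true, [5,12,14,13,9,8,14,13,2,6,8], [5,9,14,13,3,10,9,14,13,2,8,6,13,6,13,8,10,14,13,14], 5, [([], 656, [])], []⟩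
def c658 : Clm := ⟨9, 13, true, [10,13,4,9,14,13,8,6,10,13,8,6,5,13,8,6,10], [7,5,9,14,8,6,7,13,6,10,8], 11, [([], 300, [3,14,13,14,13,9,10]), ([542,556,543], 497, [4,5,14,13,9,10,14])], []⟩
def c659 : Clm := ⟨13, 9, true, [7,5,9,14,8,6,7,13,6,10,8], [10,13,4,9,14,13,8,6,10,13,8,6,5,13,8,6,10], 5, [([], 658, [])], []⟩
def c660 : Clm := ⟨9, 13, true, [12,14,13,8,6,10,13,8,6,5,13,1], [4,5,12,14,11,12,2,8,6,10,13,6,8], 11, [([], 300, [13,14,13,9,11,14,13,10,14]), ([544,542], 497, [5,7,9,14,13,10,14])], []⟩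
def c661 : Clm := ⟨13, 9, true, [4,5,12,14,11,12,2,8,6,10,13,6,8], [12,14,13,8,6,10,13,8,6,5,13,1], 5, [([], 660, [])], []⟩
def c662 : Clm := ⟨13, 13, true, [3,5,10,14,13,9,11,8,6,5,13,14,8,13,6,13,14], [11,14,12,8,6,7,10,13,6,8], 11, [([974], 626, [9,7,14,13,14,5,12]), ([968,966,988,966,968], 499, [5,14,13,10,14])], []⟩
def c663 : Clm := ⟨8, 13, true, [5,10,9,13,14,5,2,8,10,14,8,13,14,8,13,6,10], [9,13,10,4,2,8,6,13,6,13,10,8], 11, [([], 478, [4,5,13,14,5]), ([800,810], 501, [10,13,14,13,14,13,4])], []⟩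
def c664 : Clm := ⟨13, 8, true, [9,13,10,4,2,8,6,13,6,13,10,8], [5,10,9,13,14,5,2,8,10,14,8,13,14,8,13,6,10], 5, [([], 663, [])], []⟩
def c665 : Clm := ⟨13, 13, true, [4,5,7,9,10,8,6,13,6,10,8,9,14], [4,9,10,11,9,8,6,7,13,6,10,8], 11, [([], 548, [9,14,13,7,9,14]), ([800,808,820,800], 501, [5,14,13,9,10,14])], []⟩
def c666 : Clm := ⟨13, 13, true, [7,13,9,10,14,5,8,6,8,13,6,13,8,6], [4,5,9,10,9,12,8,6,10,13,6,8,9], 11, [([], 548, [14,13,14,11,9,3]), ([820,802,810], 501, [5,7,9,14,13,10,9,14])], []⟩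
def c667 : Clm := ⟨13, 13, true, [3,9,13,3,10,14,5,8,6,13,6,5,8,13,1,7], [9,10,11,9,8,6,7,10,13,6,8], 11, [([], 542, [10,13,9,7,14,13,14,5,13]), ([546,556], 508, [5,9,14,13,10,14])], []⟩
def c668 : Clm := ⟨10, 13, true, [3,5,14,13,14,5,13,4,14,8,6,8,13,14,8,13,1], [11,13,4,14,13,10,14,5,8,6,10,13,6,8,7,11], 9, [([], 508, [4,5,9,14,13,10,14]), ([988,966,988], 536, [5,13,7,9,14,13,10,14,5])], []⟩
def c669 : Clm := ⟨13, 10, true, [11,13,4,14,13,10,14,5,8,6,10,13,6,8,7,11], [3,5,14,13,14,5,13,4,14,8,6,8,13,14,8,13,1], 5, [([], 668, [])], []⟩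
def c670 : Clm := ⟨12, 13, true, [5,9,13,14,5,12,2,8,14,13,14,13,8,14,8,11], [3,9,10,11,9,8,6,7,13,6,10,8], 11, [([], 458, [7,13,9,14,5]), ([544], 508, [4,5,14,13,9,10,14])], []⟩
def c671 : Clm := ⟨13, 12, true, [3,9,10,11,9,8,6,7,13,6,10,8], [5,9,13,14,5,12,2,8,14,13,14,13,8,14,8,11], 5, [([], 670, [])], []⟩
def c672 : Clm := ⟨13, 13, true, [5,7,14,5,12,8,7,14,13,10,14,8,7], [3,5,11,14,12,2,8,6,10,13,6,8], 11, [([], 511, [5,7,14,13,10,14,12]), ([214,224,212], 510, [5,7,14,13,10,14])], []⟩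
def c673 : Clm := ⟨4, 13, true, [13,9,14,13,10,14,13,8,6,8,13,14,8,10,13,7,14], [10,13,14,12,2], 11, [([], 350, [4,9,14,13,10,14,12,13]), ([642], 518, [7])], []⟩
def c674 : Clm := ⟨13, 4, true, [10,13,14,12,2], [13,9,14,13,10,14,13,8,6,8,13,14,8,10,13,7,14], 5, [([], 673, [])], []⟩
def c675 : Clm := ⟨13, 13, true, [3,5,10,11,9,14,2,8,10,14,8,13,6,7], [4,14,13,14,11,9,1,8,10,13,6,8,13,1], 11, [([], 630, [9,11,13,14,12,10]), ([109], 522, [3,14,13,9,14,13,14])], []⟩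
def c676 : Clm := ⟨13, 13, true, [7,9,10,9,13,3,8,6,5,11], [3,7,13,9,10,9,2,8,6,5], 11, [([], 531, [4,5,7,14,5,12]), ([808], 530, [5,7,14])], []⟩
def c677 : Clm := ⟨13, 13, true, [3,10,9,14,5,13,14,13,8,6,10,8,13,6,10,12], [9,3,10,11,9,14,2,8,10,14,13,1,8], 9, [([], 560, [4,13,14,13,14]), ([109,104], 624, [5,14,13,10,12,14])], []⟩
def c678 : Clm := ⟨4, 14, true, [8,10,6,8], [], 1, [], []⟩
def c679 : Clm := ⟨14, 4, true, [], [8,6,10,8], 5, [([], 678, [])], []⟩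
def c680 : Clm := ⟨14, 14, false, [], [4,9,14,12,10], 3, [([], 678, []), ([87], 678, [4,9,14,12,10])], []⟩
def c681 : Clm := ⟨14, 14, false, [], [5,9,3,10,9], 3, [([], 678, []), ([89,82], 678, [5,9,3,10,9])], []⟩
def c682 : Clm := ⟨14, 14, false, [], [5,12,10,14], 3, [([], 678, []), ([99,82], 678, [5,12,10,14])], []⟩
def c683 : Clm := ⟨14, 14, false, [], [3,5,10,9,7,9,11], 3, [([], 678, []), ([83,99,89,99], 678, [3,5,10,9,7,9,11])], []⟩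
def c684 : Clm := ⟨14, 4, true, [8], [7,5,9,3,10,2,8,6,10,8,6], 9, [([], 678, []), ([99,99,82], 46, [4,10,12,14,11,12])], []⟩
def c685 : Clm := ⟨4, 14, true, [7,5,9,3,10,2,8,6,10,8,6], [8], 5, [([], 684, [])], []⟩
def c686 : Clm := ⟨14, 14, false, [8], [5,12,14,5,7,8], 3, [([], 685, []), ([98,82], 678, [5,12,14,5,7])], []⟩
def c687 : Clm := ⟨14, 9, true, [13,14,8], [13,14,12,14,5,2,8,6,10,13,6,8,6,5], 9, [([], 678, [13,14]), ([98,88,86], 261, [14,13,3,14])], []⟩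
def c688 : Clm := ⟨9, 14, true, [13,14,12,14,5,2,8,6,10,13,6,8,6,5], [13,14,8], 5, [([], 687, [])], []⟩
def c689 : Clm := ⟨14, 6, true, [13,14,13,14,8], [5,11,12,14,13,7,8,6,10,13,6,8], 9, [([], 678, [13,14,13,14]), ([88,87,82,86], 170, [3,9,14,11,13,10,14])], []⟩
def c690 : Clm := ⟨6, 14, true, [5,11,12,14,13,7,8,6,10,13,6,8], [13,14,13,14,8], 5, [([], 689, [])], []⟩
def c691 : Clm := ⟨14, 14, true, [3,13,14,12,2], [13,14,12,2], 11, [([], 688, [7,5,12]), ([471,482,469], 687, [7])], []⟩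
def c692 : Clm := ⟨12, 14, true, [5,13,14,13,10,2], [13,9,3,14,5,12,8,6,13,6,10,8], 11, [([], 421, [5,13,7]), ([482,468,506], 687, [5,9,10,14,12,13,14])], []⟩
def c693 : Clm := ⟨14, 12, true, [13,9,3,14,5,12,8,6,13,6,10,8], [5,13,14,13,10,2], 5, [([], 692, [])], []⟩
def c694 : Clm := ⟨4, 15, true, [13,6,13,8,14,10,8,2], [], 1, [], []⟩
def c695 : Clm := ⟨15, 4, true, [], [13,4,14,5,12,1,8,13,6,10,8], 5, [([], 694, [])], []⟩
def c696 : Clm := ⟨15, 15, false, [], [5,9,10,9], 3, [([], 694, []), ([87,83,89,86], 694, [5,9,10,9])], []⟩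
def c697 : Clm := ⟨15, 15, false, [], [3,9,10,14,5], 3, [([], 694, []), ([87,87], 694, [3,9,10,14,5])], []⟩
def c698 : Clm := ⟨15, 15, false, [], [4,5,14,5,13,14,13,9], 3, [([], 694, []), ([87,83,87,89,98,98], 694, [4,5,14,5,13,14,13,9])], []⟩
def c699 : Clm := ⟨15, 15, false, [], [13,14,12,13,14,5,13,14], 3, [([], 694, []), ([99,99,85,86,82,86], 694, [13,14,12,13,14,5,13,14])], []⟩
def c700 : Clm := ⟨15, 13, true, [8], [3,7,9,10,9,8,6,5,10,9,12], 9, [([], 694, []), ([98,88,99,82,99], 603, [3,12,14,11,12])], []⟩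
def c701 : Clm := ⟨13, 15, true, [3,7,9,10,9,8,6,5,10,9,12], [8], 5, [([], 700, [])], []⟩
def c702 : Clm := ⟨15, 15, false, [8], [3,4,2], 3, [([], 701, []), ([975], 701, [3,4])], []⟩
def c703 : Clm := ⟨15, 15, false, [8], [9,10,9,12,14,5,11,8,6,8,10,8,6], 3, [([], 701, []), ([989], 701, [5,9,10,9,12,14,5,11])], []⟩
def c704 : Clm := ⟨15, 11, true, [3,8], [3,4,14,5,13,14,12,13,1,8,7,13], 9, [([], 694, [3]), ([98,88,82,99,87], 350, [4,7,10,13,9,14,13,14])], []⟩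
def c705 : Clm := ⟨11, 15, true, [3,4,14,5,13,14,12,13,1,8,7,13], [3,8], 5, [([], 704, [])], []⟩
def c706 : Clm := ⟨15, 6, true, [7,8], [5,13,3,4,14,12,8,6,10,13,6,8,7], 9, [([], 694, [7]), ([98,86], 124, [3,4,14,13,10,14,12])], []⟩
def c707 : Clm := ⟨6, 15, true, [5,13,3,4,14,12,8,6,10,13,6,8,7], [7,8], 5, [([], 706, [])], []⟩
def c708 : Clm := ⟨15, 9, true, [13,14,8], [3,9,7,9,13,10,8,6,10,9,13,6,8,6], 9, [([], 694, [13,14]), ([88], 261, [9,3,13,14,12])], []⟩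
def c709 : Clm := ⟨9, 15, true, [3,9,7,9,13,10,8,6,10,9,13,6,8,6], [13,14,8], 5, [([], 708, [])], []⟩
def c710 : Clm := ⟨15, 12, true, [3,13,14,8], [10,4,14,13,1,8,7], 9, [([], 694, [3,13,14]), ([99,84], 441, [3,13,14,5,13,14,13,9,7])], []⟩
def c711 : Clm := ⟨12, 15, true, [10,4,14,13,1,8,7], [3,13,14,8], 5, [([], 710, [])], []⟩
def c712 : Clm := ⟨15, 15, true, [11,13,14,8], [7,13,9,14,11,2,8,7], 9, [([], 694, [11,13,14]), ([88,98,86], 695, [5,7,9,13,14])], []⟩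
def c713 : Clm := ⟨15, 9, true, [13,3,14,8], [5,13,9,14,13,10,12,8,6,13,14,13,8,14,13,7], 9, [([], 694, [13,3,14]), ([86,99,82], 261, [5,9,14,12,13,14,13,10,9])], []⟩
def c714 : Clm := ⟨9, 15, true, [5,13,9,14,13,10,12,8,6,13,14,13,8,14,13,7], [13,3,14,8], 5, [([], 713, [])], []⟩
def c715 : Clm := ⟨12, 15, true, [5,10,9,7,8,10,14,8,13,14,13,2,6], [4,5,7,9,7,11,2,8,6,7,10,8], 11, [([], 549, [11,9,14]), ([], 700, [7,10,14])], []⟩
def c716 : Clm := ⟨15, 12, true, [4,5,7,9,7,11,2,8,6,7,10,8], [5,10,9,7,8,10,14,8,13,14,13,2,6], 5, [([], 715, [])], []⟩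
def c717 : Clm := ⟨13, 15, true, [4,10,14,13,9,14,13,4,10,14,8,6,10,13,8,14,8,13,10], [3,12,13,14,12,14,8,6,10,8], 11, [([], 645, [9,14,13,14,13,4,10]), ([974,966,988,966], 700, [9,13,10,14])], []⟩
def c718 : Clm := ⟨15, 13, true, [3,12,13,14,12,14,8,6,10,8], [4,10,14,13,9,14,13,4,10,14,8,6,10,13,8,14,8,13,10], 5, [([], 717, [])], []⟩
def c719 : Clm := ⟨12, 15, true, [3,13,14,5,13,14,13,4,8,14,13,2,6,13,8,6,5,10], [3,5,14,12,14,2,8,14,13,14,8,3], 11, [([], 597, [13,9,11,14,12,13,14,5]), ([988,968,966,988,966], 700, [5,7,9,14,13,4,14])], []⟩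
def c720 : Clm := ⟨15, 12, true, [3,5,14,12,14,2,8,14,13,14,8,3], [3,13,14,5,13,14,13,4,8,14,13,2,6,13,8,6,5,10], 5, [([], 719, [])], []⟩
def c721 : Clm := ⟨8, 15, true, [4,13,3,10,14,13,9,14,5,8,14,13,14,13,8,14,13,8,6], [3,4,13,9,8,6,7,13,6,13,10,8], 11, [([], 664, [9,11]), ([], 700, [3,7,9,13,10,14,13,14,13])], []⟩
def c722 : Clm := ⟨15, 8, true, [3,4,13,9,8,6,7,13,6,13,10,8], [4,13,3,10,14,13,9,14,5,8,14,13,14,13,8,14,13,8,6], 5, [([], 721, [])], []⟩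
def c723 : Clm := ⟨11, 15, true, [4,5,13,14,13,14,12,13,8,6,13,6,8,13,6,13,6,8], [3,4,13,14,12,14,8,6,7,10,13,6,8], 11, [([], 657, [5,9,10,14,11]), ([988,966,988,966], 700, [4,9,13,14,12,13,10,14])], []⟩
def c724 : Clm := ⟨15, 11, true, [3,4,13,14,12,14,8,6,7,10,13,6,8], [4,5,13,14,13,14,12,13,8,6,13,6,8,13,6,13,6,8], 5, [([], 723, [])], []⟩
def c725 : Clm := ⟨15, 15, true, [9,14,12,14,8,6,10,13,6,8,3,7], [9,14,12,14,8,6,10,13,6,8,9], 11, [([], 705, [14,13,4,10,14,11]), ([644,654,644], 704, [7,14,13,10,9,14])], []⟩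
def c726 : Clm := ⟨14, 15, true, [4,7,11,13,14,5,12,1,8,10,13,6,8,7,13,1], [9,10,13,14,13,9,7,1,8,10,13,8,6,8,13,1], 11, [([], 688, [9,13,14,13,10,14,13,9,14]), ([468,482,468], 708, [4,11,13,9,14,13,10,14,13,14])], []⟩
def c727 : Clm := ⟨15, 14, true, [9,10,13,14,13,9,7,1,8,10,13,8,6,8,13,1], [4,7,11,13,14,5,12,1,8,10,13,6,8,7,13,1], 5, [([], 726, [])], []⟩
def c728 : Clm := ⟨15, 15, true, [7,13,9,14,13,3,1,8,10,13,6,13,1,8,9,7], [9,3,10,13,9,14,5,1,8,10,13,8,6,8,13,1], 11, [([], 711, [4,9,14,13,10,14,13,14]), ([810], 710, [4,9,14,13,10,14,13,14])], []⟩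
def c729 : Clm := ⟨4, 16, true, [8,6,13,6,13,8,1], [], 1, [], []⟩
def c730 : Clm := ⟨16, 4, true, [], [8,6,13,6,13,1,8], 5, [([], 729, [])], []⟩
def c731 : Clm := ⟨16, 16, false, [], [5,13], 3, [([], 729, []), ([99,99,89,87,98], 729, [5,13])], []⟩
def c732 : Clm := ⟨16, 16, false, [], [10,9,14,13,14,12,10,13,14], 3, [([], 729, []), ([85,83,85,82,84], 729, [10,9,14,13,14,12,10,13,14])], []⟩
def c733 : Clm := ⟨16, 16, false, [], [12], 3, [([], 729, []), ([87,83,87,84,86], 729, [12])], []⟩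
def c734 : Clm := ⟨16, 16, false, [], [4,7,9,7], 3, [([], 729, []), ([86,99,85,98,87], 729, [4,7,9,7])], []⟩
def c735 : Clm := ⟨16, 16, true, [8], [3,4,5,11,12,2,8,7], 9, [([], 729, []), ([98,86], 730, [4,7,5,12])], []⟩
def c736 : Clm := ⟨16, 16, true, [3,8], [10,9,14,13,14,12,10,13,14,2,8,7], 9, [([], 729, [3]), ([82,84], 730, [12,14,13,9,10,9,14,13,14])], []⟩
def c737 : Clm := ⟨16, 4, true, [7,8], [3,4,2,8,6,13,6,8,13,1,7], 9, [([], 729, [7]), ([], 46, [3,10,13,9,7,14,13,14,13])], []⟩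
def c738 : Clm := ⟨4, 16, true, [3,4,2,8,6,13,6,8,13,1,7], [7,8], 5, [([], 737, [])], []⟩
def c739 : Clm := ⟨16, 16, false, [7,8], [13,4,14,13,9,14,13,10,14,8,7], 3, [([], 738, []), ([82,84], 729, [13,4,14,13,9,14,13,10,14])], []⟩
def c740 : Clm := ⟨16, 6, true, [10,8], [14,13,7,8,6,5,13,6,8,10,13,8], 9, [([], 729, [10]), ([99,86], 170, [4,5,14,13,7,14,5,13])], []⟩
def c741 : Clm := ⟨6, 16, true, [14,13,7,8,6,5,13,6,8,10,13,8], [10,8], 5, [([], 740, [])], []⟩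
def c742 : Clm := ⟨16, 6, true, [14,8], [4,5,12,14,5,13,3,2,8,6,10,8,13,6,8,9], 9, [([], 729, [14]), ([99,99,86,82], 168, [9,14,13,10,14,13,9,11,14])], []⟩
def c743 : Clm := ⟨6, 16, true, [4,5,12,14,5,13,3,2,8,6,10,8,13,6,8,9], [14,8], 5, [([], 742, [])], []⟩
def c744 : Clm := ⟨16, 6, true, [5,14,8], [5,13,3,14,5,12,8,6,13,6,8,7], 9, [([], 729, [5,14]), ([82,87,98,98,98,84], 124, [5,12,14,13,7,5,14])], []⟩
def c745 : Clm := ⟨6, 16, true, [5,13,3,14,5,12,8,6,13,6,8,7], [5,14,8], 5, [([], 744, [])], []⟩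
def c746 : Clm := ⟨16, 16, false, [5,14,8], [10,9,13,8,10,8,14,8,12], 3, [([], 745, []), ([225,210], 741, [3,7,10,9,13,10,14,5])], []⟩
def c747 : Clm := ⟨16, 16, true, [7,10,8], [5,9,10,11,9,2,8,7], 9, [([], 729, [7,10]), ([98,98,82,99,86], 730, [4,5,9,10,11,9,7])], []⟩
def c748 : Clm := ⟨16, 16, true, [5,9,10,11,9,2,8,7], [7,10,8], 5, [([], 747, [])], []⟩
def c749 : Clm := ⟨16, 6, true, [7,14,8], [3,4,5,14,5,13,1,8,13,6,13,6,8,14,11], 9, [([], 729, [7,14]), ([82,99,88,87,84], 134, [9,10,13,14,13,14,13,7,9])], []⟩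
def c750 : Clm := ⟨6, 16, true, [3,4,5,14,5,13,1,8,13,6,13,6,8,14,11], [7,14,8], 5, [([], 749, [])], []⟩
def c751 : Clm := ⟨16, 16, true, [9,10,8], [14,13,10,12,14,13,7,9,14,2,8,7], 9, [([], 729, [9,10]), ([84,98,88,98], 730, [12,14,13,7,10,14,13,9,14])], []⟩
def c752 : Clm := ⟨16, 16, true, [14,13,10,12,14,13,7,9,14,2,8,7], [9,10,8], 5, [([], 751, [])], []⟩
def c753 : Clm := ⟨16, 11, true, [10,14,8], [13,9,14,11,13,14,13,1,2,8,7], 9, [([], 729, [10,14]), ([99,84,99,87,88], 350, [14,13,14,13,3,10])], []⟩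
def c754 : Clm := ⟨11, 16, true, [13,9,14,11,13,14,13,1,2,8,7], [10,14,8], 5, [([], 753, [])], []⟩
def c755 : Clm := ⟨16, 13, true, [3,10,14,8], [9,12,10,14,11,9,8,14,13,10,8,6,8,7,13,1], 9, [([], 729, [3,10,14]), ([82,99,88,99,87,82], 603, [5,13,7,14,13,14,13])], []⟩
def c756 : Clm := ⟨13, 16, true, [9,12,10,14,11,9,8,14,13,10,8,6,8,7,13,1], [3,10,14,8], 5, [([], 755, [])], []⟩
def c757 : Clm := ⟨4, 16, true, [3,5,9,14,12,8,6,13,6,10,8,13,14,11], [3,5,9,7,9,10,11,8,6,10,8], 11, [([], 134, [10,9,14,13,14,11,13,10]), ([214,212], 740, [4,9,10,14])], []⟩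
def c758 : Clm := ⟨16, 4, true, [3,5,9,7,9,10,11,8,6,10,8], [3,5,9,14,12,8,6,13,6,10,8,13,14,11], 5, [([], 757, [])], []⟩
def c759 : Clm := ⟨16, 16, true, [4,9,12,14,2,8], [10,11,14,12,14,2,8,6,7,10,8], 11, [([], 750, [9,12]), ([214,210], 740, [5,9,7,12,10,14])], []⟩
def c760 : Clm := ⟨13, 16, true, [3,9,10,9,14,13,14,8,6,5,11], [13,3,10,9,8,6,5,10,9,13,6,8], 11, [([], 527, [7,13,14,5,12]), ([214,224], 740, [9,3,13,14,13,10,9,14])], []⟩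
def c761 : Clm := ⟨16, 13, true, [13,3,10,9,8,6,5,10,9,13,6,8], [3,9,10,9,14,13,14,8,6,5,11], 5, [([], 760, [])], []⟩
def c762 : Clm := ⟨6, 16, true, [3,5,9,10,9,14,8,6,10,13,8,3,6,13,6], [3,5,10,11,9,1,8,13,6,10,8,13,1], 11, [([225,213,210], 154, [5,13,14,13,10,12,14,13]), ([213], 740, [14,5,13,14,13,14])], []⟩
def c763 : Clm := ⟨16, 6, true, [3,5,10,11,9,1,8,13,6,10,8,13,1], [3,5,9,10,9,14,8,6,10,13,8,3,6,13,6], 5, [([], 762, [])], []⟩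
def c764 : Clm := ⟨13, 16, true, [7,9,13,4,14,13,8,6,7,10,13,6,8,13], [3,14,2,8,14,13,14,8,3], 11, [([], 566, [13,7,14,13,9,14,13,10,14]), ([225,235], 742, [12,14,13,7,14])], []⟩
def c765 : Clm := ⟨16, 13, true, [3,14,2,8,14,13,14,8,3], [7,9,13,4,14,13,8,6,7,10,13,6,8,13], 5, [([], 764, [])], []⟩
def c766 : Clm := ⟨16, 16, true, [3,4,11,12,8,6,5,11], [4,7,9,7,5,2,8,6,5], 11, [([], 743, [5,7,9,14,5]), ([214,212,210], 742, [5,7,14])], []⟩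
def c767 : Clm := ⟨5, 16, true, [10,14,13,4,14,5,13,14,5,1,8,13,6,13,6,8,13,7,10], [14,11,9,3,8,6,10,8], 11, [([], 143, [5,10,14,13,3,9,7]), ([212,234], 742, [5,9,12,14,12,10])], []⟩
def c768 : Clm := ⟨16, 5, true, [14,11,9,3,8,6,10,8], [10,14,13,4,14,5,13,14,5,1,8,13,6,13,6,8,13,7,10], 5, [([], 767, [])], []⟩
def c769 : Clm := ⟨5, 16, true, [5,10,14,13,9,14,13,4,14,8,6,13,6,5,8,7,10,8], [12,14,11,9,2,8,6,10,8], 11, [([], 143, [5,10,9,14,13,3,10]), ([234,213], 742, [3,5,10,14])], []⟩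
def c770 : Clm := ⟨16, 5, true, [12,14,11,9,2,8,6,10,8], [5,10,14,13,9,14,13,4,14,8,6,13,6,5,8,7,10,8], 5, [([], 769, [])], []⟩
def c771 : Clm := ⟨13, 16, true, [5,10,4,11,9,14,2,8,6,10,9,13,6,8,14,13], [9,14,5,11,2,8,6,10,13,6,8], 11, [([], 601, [3,13,10,14,13,3,9,10]), ([214,212,210], 742, [7,9,14,13,4,10,14])], []⟩
def c772 : Clm := ⟨16, 13, true, [9,14,5,11,2,8,6,10,13,6,8], [5,10,4,11,9,14,2,8,6,10,9,13,6,8,14,13], 5, [([], 771, [])], []⟩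
def c773 : Clm := ⟨8, 16, true, [3,5,7,14,12,14,8,14,13,14,8,13,6,13,8,3], [11,12,14,13,7,8,6,10,8], 11, [([], 215, [4,5,13,3,14,13,9]), ([225,235], 742, [9,13,10,14])], []⟩
def c774 : Clm := ⟨16, 8, true, [11,12,14,13,7,8,6,10,8], [3,5,7,14,12,14,8,14,13,14,8,13,6,13,8,3], 5, [([], 773, [])], []⟩
def c775 : Clm := ⟨8, 16, true, [14,12,10,4,14,1,8,13,6,10,13,1,8,9,7], [9,12,14,13,3,8,6,5,13,6,8], 11, [([], 206, [4,13,3,14,13,10,14,13,14]), ([212,234], 742, [13,14,13,14])], []⟩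
def c776 : Clm := ⟨16, 8, true, [9,12,14,13,3,8,6,5,13,6,8], [14,12,10,4,14,1,8,13,6,10,13,1,8,9,7], 5, [([], 775, [])], []⟩
def c777 : Clm := ⟨5, 16, true, [5,9,3,10,9,7,12,8,7,10,14,8], [14,11,12,2,8,6,13,6,8], 11, [([], 138, [5,7,9,11]), ([235,224], 742, [5,14,5,13,3,14])], []⟩
def c778 : Clm := ⟨16, 5, true, [14,11,12,2,8,6,13,6,8], [5,9,3,10,9,7,12,8,7,10,14,8], 5, [([], 777, [])], []⟩
def c779 : Clm := ⟨11, 16, true, [4,14,5,13,14,13,8,14,5,13,14,13,14,8,7], [12,14,11,13,9,8,14,13,2,6,8], 11, [([], 345, [4,13,14,13,9,14,13,14,13]), ([213,225], 742, [3,13,14,13,14])], []⟩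
def c780 : Clm := ⟨16, 11, true, [12,14,11,13,9,8,14,13,2,6,8], [4,14,5,13,14,13,8,14,5,13,14,13,14,8,7], 5, [([], 779, [])], []⟩
def c781 : Clm := ⟨11, 16, true, [5,9,13,7,14,13,10,1,8,10,13,6,13,1,8,9,7], [3,9,14,13,4,8,6,13,6,8,13,9], 11, [([], 347, [4,11,14,13,10,14,13,14]), ([235,224], 742, [4,13,14,13,14,12,13])], []⟩
def c782 : Clm := ⟨16, 11, true, [3,9,14,13,4,8,6,13,6,8,13,9], [5,9,13,7,14,13,10,1,8,10,13,6,13,1,8,9,7], 5, [([], 781, [])], []⟩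
def c783 : Clm := ⟨5, 16, true, [7,10,13,1,8,10,13,6,8,11,9,7], [11,9,7,14,2,8,14,13,14,8,3], 11, [([], 164, [10,14,13,14,5,11,9]), ([225], 742, [5,14,13,3,14])], []⟩
def c784 : Clm := ⟨16, 5, true, [11,9,7,14,2,8,14,13,14,8,3], [7,10,13,1,8,10,13,6,8,11,9,7], 5, [([], 783, [])], []⟩
def c785 : Clm := ⟨16, 16, true, [4,10,9,13,7,2,8,6,10,8,14], [3,5,9,10,11,9,8,6,10,8], 11, [([1468], 748, [10,13,4,14,12]), ([1493,1468], 748, [4,10,14,12])], []⟩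
def c786 : Clm := ⟨16, 5, true, [4,5,9,10,11,9,8,7,10,14,8], [10,13,14,13,9,14,13,4,14,13,8,6,10,8,13,7,14,12], 9, [([1468], 748, [10,4,14,12]), ([1466], 769, [3,7,10,9,14,5,7])], []⟩
def c787 : Clm := ⟨5, 16, true, [10,13,14,13,9,14,13,4,14,13,8,6,10,8,13,7,14,12], [4,5,9,10,11,9,8,7,10,14,8], 5, [([], 786, [])], []⟩
def c788 : Clm := ⟨9, 16, true, [4,5,11,14,5,12,2,8,6,13,6,8,3,6], [3,4,7,14,12,8,6,7,13,6,8], 11, [([], 245, [5,7,14,13,9,14,12]), ([235,225], 749, [4,14,5,13,14])], []⟩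
def c789 : Clm := ⟨16, 9, true, [3,4,7,14,12,8,6,7,13,6,8], [4,5,11,14,5,12,2,8,6,13,6,8,3,6], 5, [([], 788, [])], []⟩
def c790 : Clm := ⟨16, 8, true, [3,13,14,13,10,14,13,9,14,11,8,6,13,6,10,8,3], [5,14,13,4,14,5,13,14,13,8,14,13,2,6,8,13,6], 9, [([1464,1468], 752, [4,14,13,9,10,14,12]), ([1493,1479,1492], 775, [9,10,9,7,12,14])], []⟩
def c791 : Clm := ⟨8, 16, true, [5,14,13,4,14,5,13,14,13,8,14,13,2,6,8,13,6], [3,13,14,13,10,14,13,9,14,11,8,6,13,6,10,8,3], 5, [([], 790, [])], []⟩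
def c792 : Clm := ⟨5, 17, true, [10,8,14,13,7,6,8], [], 1, [], []⟩
def c793 : Clm := ⟨17, 5, true, [], [10,9,14,12,14,8,7,14,13,6,8], 5, [([], 792, [])], []⟩
def c794 : Clm := ⟨17, 17, false, [], [4,5,10,11,14,13,9,14,13,14], 3, [([], 792, []), ([105,116,105,117], 792, [4,5,10,11,14,13,9,14,13,14])], []⟩
def c795 : Clm := ⟨17, 17, false, [], [14,13,9,10,9,14,13,14], 3, [([], 792, []), ([108,105,108,117,104,109], 792, [14,13,9,10,9,14,13,14])], []⟩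
def c796 : Clm := ⟨17, 5, true, [7,8], [4,5,7,14,5,13,14,13,9,14,1,8,10,13,6,13,6,8,7], 9, [([], 792, [7]), ([116], 89, [4,14,13,14,5,12])], []⟩
def c797 : Clm := ⟨5, 17, true, [4,5,7,14,5,13,14,13,9,14,1,8,10,13,6,13,6,8,7], [7,8], 5, [([], 796, [])], []⟩
def c798 : Clm := ⟨17, 5, true, [14,8], [9,13,14,13,14,13,7,5,14,8,6,7,13,6,8,14], 9, [([], 792, [14]), ([108,108], 76, [9,10,13,14,13,3,14,5])], []⟩
def c799 : Clm := ⟨5, 17, true, [9,13,14,13,14,13,7,5,14,8,6,7,13,6,8,14], [14,8], 5, [([], 798, [])], []⟩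
def c800 : Clm := ⟨17, 17, false, [14,8], [3,9,10,9,14,13,7,1,8,10,8,13,6,13,8,6], 3, [([], 799, []), ([117,109,117,108,108,104], 799, [3,14,5,13,14,13,3,9,14])], []⟩
def c801 : Clm := ⟨17, 6, true, [3,7,8], [7,5,10,4,9,2,8,6,13,10,14,8,7], 9, [([], 792, [3,7]), ([116,104,108], 164, [12,13,10,14,13,4,9])], []⟩
def c802 : Clm := ⟨6, 17, true, [7,5,10,4,9,2,8,6,13,10,14,8,7], [3,7,8], 5, [([], 801, [])], []⟩
def c803 : Clm := ⟨17, 5, true, [3,14,8], [5,7,10,4,9,7,2,8,6,13,6,8,6], 9, [([], 792, [3,14]), ([109,109,106,104], 65, [3,5,14,13,9,7,14])], []⟩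
def c804 : Clm := ⟨5, 17, true, [5,7,10,4,9,7,2,8,6,13,6,8,6], [3,14,8], 5, [([], 803, [])], []⟩
def c805 : Clm := ⟨17, 17, true, [7,14,8], [14,5,7,12,8], 9, [([], 792, [7,14]), ([108,108,108], 803, [3,5,12])], []⟩
def c806 : Clm := ⟨17, 17, true, [14,5,7,12,8], [7,14,8], 5, [([], 805, [])], []⟩
def c807 : Clm := ⟨17, 8, true, [10,14,8], [4,13,14,12,13,14,5,8,6,10,8,13,6,8,10,13,3], 9, [([], 792, [10,14]), ([116,116,109,106,104], 221, [5,7,9,10,11,9,14])], []⟩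
def c808 : Clm := ⟨8, 17, true, [4,13,14,12,13,14,5,8,6,10,8,13,6,8,10,13,3], [10,14,8], 5, [([], 807, [])], []⟩
def c809 : Clm := ⟨17, 17, false, [10,14,8], [10,14,13,4,14,5,12,8,14,13,10,14], 3, [([], 808, []), ([389,397,390,397,388,391], 808, [4,9,13,14,5,13])], []⟩
def c810 : Clm := ⟨17, 17, true, [13,14,8], [4,5,14,13,9,14,13,10,9,2,8,7], 9, [([], 792, [13,14]), ([108,116,106], 793, [4,5,9,10,14,13,9,14,13])], []⟩
def c811 : Clm := ⟨17, 17, true, [4,5,14,13,9,14,13,10,9,2,8,7], [13,14,8], 5, [([], 810, [])], []⟩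
def c812 : Clm := ⟨17, 13, true, [3,10,14,8], [3,7,9,13,7,8,6,13,6,10,8,3,9,7,10], 9, [([], 792, [3,10,14]), ([116,108,106,104], 577, [9,10,9])], []⟩
def c813 : Clm := ⟨13, 17, true, [3,7,9,13,7,8,6,13,6,10,8,3,9,7,10], [3,10,14,8], 5, [([], 812, [])], []⟩
def c814 : Clm := ⟨17, 12, true, [5,10,14,8], [4,13,7,9,14,5,8,6,10,13,3,6,8,7], 9, [([], 792, [5,10,14]), ([116,116,109,104,106], 417, [14,13,14,12,10])], []⟩
def c815 : Clm := ⟨12, 17, true, [4,13,7,9,14,5,8,6,10,13,3,6,8,7], [5,10,14,8], 5, [([], 814, [])], []⟩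
def c816 : Clm := ⟨17, 5, true, [5,13,14,8], [7,13,10,4,14,13,9,14,2,8,6,10,8,13,6,13,10,8,10], 9, [([], 792, [5,13,14]), ([117,109], 95, [14,12,13,14,5,13,14,13,4])], []⟩
def c817 : Clm := ⟨5, 17, true, [7,13,10,4,14,13,9,14,2,8,6,10,8,13,6,13,10,8,10], [5,13,14,8], 5, [([], 816, [])], []⟩
def c818 : Clm := ⟨17, 13, true, [7,10,14,8], [14,13,7,10,9,8,6,10,13,14,8,3,7], 9, [([], 792, [7,10,14]), ([116,104,108,108], 622, [7,13,10,14,13,14,13,9])], []⟩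
def c819 : Clm := ⟨13, 17, true, [14,13,7,10,9,8,6,10,13,14,8,3,7], [7,10,14,8], 5, [([], 818, [])], []⟩
def c820 : Clm := ⟨17, 13, true, [9,10,14,8], [14,5,11,13,8,14,13,2,6,13,10,8,7], 9, [([], 792, [9,10,14]), ([116,104,108], 492, [13,14,13,10,12,14,13])], []⟩
def c821 : Clm := ⟨13, 17, true, [14,5,11,13,8,14,13,2,6,13,10,8,7], [9,10,14,8], 5, [([], 820, [])], []⟩
def c822 : Clm := ⟨17, 12, true, [10,11,14,8], [3,13,14,13,14,13,7,2,8,6,13,6,8,13,7], 9, [([], 792, [10,11,14]), ([109,106,104,117,106], 424, [3,13,10,14,13,4,14,13,10])], []⟩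
def c823 : Clm := ⟨12, 17, true, [3,13,14,13,14,13,7,2,8,6,13,6,8,13,7], [10,11,14,8], 5, [([], 822, [])], []⟩
def c824 : Clm := ⟨17, 16, true, [11,13,14,8], [4,12,10,14,5,11,8,14,13,6,10,8,6,13,1,8], 9, [([], 792, [11,13,14]), ([109,104], 786, [4,9,13,14,13,14,13])], []⟩
def c825 : Clm := ⟨16, 17, true, [4,12,10,14,5,11,8,14,13,6,10,8,6,13,1,8], [11,13,14,8], 5, [([], 824, [])], []⟩
def c826 : Clm := ⟨17, 11, true, [13,10,14,8], [14,12,10,14,13,7,8,6,13,6,8,7,13], 9, [([], 792, [13,10,14]), ([116,104,117,108], 325, [5,13,14,13,14,13,9,7])], []⟩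
def c827 : Clm := ⟨11, 17, true, [14,12,10,14,13,7,8,6,13,6,8,7,13], [13,10,14,8], 5, [([], 826, [])], []⟩
def c828 : Clm := ⟨17, 13, true, [3,5,10,14,8], [5,14,13,4,9,14,5,11,8,6,8,13,14,8,13,1,7], 9, [([], 792, [3,5,10,14]), ([104,108,104,117], 512, [4,5,14,11,13,10,14,13,9])], []⟩
def c829 : Clm := ⟨13, 17, true, [5,14,13,4,9,14,5,11,8,6,8,13,14,8,13,1,7], [3,5,10,14,8], 5, [([], 828, [])], []⟩
def c830 : Clm := ⟨17, 17, true, [3,5,13,14,8], [3,4,5,13,14,12,8,14], 9, [([], 792, [3,5,13,14]), ([116], 796, [3,11,9,13,14,12])], []⟩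
def c831 : Clm := ⟨17, 17, true, [3,4,5,13,14,12,8,14], [3,5,13,14,8], 5, [([], 830, [])], []⟩
def c832 : Clm := ⟨17, 13, true, [3,10,13,14,8], [7,10,9,14,13,3,2,8,10,14,13,6,8,7,11], 9, [([], 792, [3,10,13,14]), ([104,109], 622, [4,10,14,11,9])], []⟩
def c833 : Clm := ⟨13, 17, true, [7,10,9,14,13,3,2,8,10,14,13,6,8,7,11], [3,10,13,14,8], 5, [([], 832, [])], []⟩
def c834 : Clm := ⟨17, 8, true, [3,13,10,14,8], [4,9,10,14,11,9,2,8,14,13,6,8,14,13,6,13,10], 9, [([], 792, [3,13,10,14]), ([108,104,109], 229, [9,10,9,12])], []⟩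
def c835 : Clm := ⟨8, 17, true, [4,9,10,14,11,9,2,8,14,13,6,8,14,13,6,13,10], [3,13,10,14,8], 5, [([], 834, [])], []⟩
def c836 : Clm := ⟨17, 8, true, [4,9,10,14,8], [3,13,7,9,8,6,10,8,13,6,11,13,9], 9, [([], 792, [4,9,10,14]), ([116,116,109], 212, [11,13,14,13,7])], []⟩
def c837 : Clm := ⟨8, 17, true, [3,13,7,9,8,6,10,8,13,6,11,13,9], [4,9,10,14,8], 5, [([], 836, [])], []⟩
def c838 : Clm := ⟨17, 12, true, [10,11,13,14,8], [13,14,13,7,9,14,5,2,8,6,13,6,8,13,1,7], 9, [([], 792, [10,11,13,14]), ([116,108,104,117,109], 424, [5,7,10,9,13,14,13,14,13])], []⟩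
def c839 : Clm := ⟨12, 17, true, [13,14,13,7,9,14,5,2,8,6,13,6,8,13,1,7], [10,11,13,14,8], 5, [([], 838, [])], []⟩
def c840 : Clm := ⟨17, 17, true, [3,10,8,7], [3,9,13,14,13,7,9,8,14,13,2,6,5,8], 11, [([], 792, [7,10]), ([116,108,104,109], 816, [4,7,13,14,13,14,5])], []⟩
def c841 : Clm := ⟨17, 17, true, [3,9,13,14,13,7,9,8,14,13,2,6,5,8], [3,10,8,7], 5, [([], 840, [])], []⟩
def c842 : Clm := ⟨17, 17, true, [10,8,7], [3,9,12,14,2,8,6,5,10,8], 11, [([], 792, [3,7,10]), ([116,108,108,104], 803, [7,10,14,5])], []⟩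
def c843 : Clm := ⟨17, 17, true, [3,9,12,14,2,8,6,5,10,8], [10,8,7], 5, [([], 842, [])], []⟩
def c844 : Clm := ⟨17, 17, true, [5,7,14,12,14,8,6,8,13,14,8,7], [3,12,2,8,7], 11, [([], 799, [14,13,14,11,9,7]), ([106,104,117,106,104], 796, [3])], []⟩
def c845 : Clm := ⟨17, 17, true, [3,12,2,8,7], [5,7,14,12,14,8,6,8,13,14,8,7], 5, [([], 844, [])], []⟩
def c846 : Clm := ⟨6, 17, true, [3,10,9,7,5,9,1,8,10,13,6,13,6,8,7], [7,12,2], 11, [([], 119, [5,13,14,12,13,10,14,13,9]), ([104,106], 796, [7])], []⟩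
def c847 : Clm := ⟨17, 6, true, [7,12,2], [3,10,9,7,5,9,1,8,10,13,6,13,6,8,7], 5, [([], 846, [])], []⟩
def c848 : Clm := ⟨5, 17, true, [3,7,9,10,9,13,1,8,7,13,6,13,6,8,6,10], [5,13,4,14,13,8,7,14,13,10,14,8,10], 9, [([], 796, [10]), ([], 841, [10,12])], []⟩
def c849 : Clm := ⟨17, 5, true, [5,13,4,14,13,8,7,14,13,10,14,8,10], [3,7,9,10,9,13,1,8,7,13,6,13,6,8,6,10], 5, [([], 848, [])], []⟩
def c850 : Clm := ⟨6, 17, true, [4,13,7,10,14,5,8,6,8,13,14,8,13,7], [3,9,12,14,2,8,6,7], 11, [([], 119, [4,13,14,5,13,3,14,13]), ([109,117], 796, [3,14])], []⟩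
def c851 : Clm := ⟨17, 6, true, [3,9,12,14,2,8,6,7], [4,13,7,10,14,5,8,6,8,13,14,8,13,7], 5, [([], 850, [])], []⟩
def c852 : Clm := ⟨17, 17, true, [4,5,13,3,14,13,9,2,8,14,13,10,9,14,8], [7,9,14,5,12,14,2,8,6,5], 11, [([], 848, [4,10,9,12]), ([104,117,109,104], 796, [7,14])], []⟩
def c853 : Clm := ⟨17, 17, true, [7,9,14,5,12,14,2,8,6,5], [4,5,13,3,14,13,9,2,8,14,13,10,9,14,8], 5, [([], 852, [])], []⟩
def c854 : Clm := ⟨6, 17, true, [4,5,9,10,9,12,14,13,14,5,8,14,13,14,8,13,10,14,13], [3,11,9,13,14,2,8,6,7], 11, [([], 151, [4,5,11,14,13,14,5,13,14]), ([108,116,116], 796, [3,13,14])], []⟩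
def c855 : Clm := ⟨17, 6, true, [3,11,9,13,14,2,8,6,7], [4,5,9,10,9,12,14,13,14,5,8,14,13,14,8,13,10,14,13], 5, [([], 854, [])], []⟩
def c856 : Clm := ⟨17, 17, true, [12,14,8,10,14,13,9,14,5,8,7], [5,9,3,7,9,8,6,10,8], 11, [([], 799, [9,10,14,13,9,14,5]), ([109], 796, [9,10,14])], []⟩
def c857 : Clm := ⟨17, 17, true, [5,9,3,7,9,8,6,10,8], [12,14,8,10,14,13,9,14,5,8,7], 5, [([], 856, [])], []⟩
def c858 : Clm := ⟨17, 17, true, [13,4,14,12,8,6], [3,13,9,11,14,2,8,6,7], 11, [([], 797, [13,3,9,14,12]), ([117,104,109,109], 796, [13,3,14])], []⟩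
def c859 : Clm := ⟨13, 17, true, [13,4,10,9,14,13,8,6,13,14,13,8,11,14,13,14], [3,9,7,11,13,8,6,10,8], 11, [([], 560, [5,9,10,14,13,14,13,7]), ([104,108], 796, [13,10,14])], []⟩
def c860 : Clm := ⟨17, 13, true, [3,9,7,11,13,8,6,10,8], [13,4,10,9,14,13,8,6,13,14,13,8,11,14,13,14], 5, [([], 859, [])], []⟩
def c861 : Clm := ⟨5, 17, true, [4,14,5,13,14,13,7,14,5,8,6,7,13,6,8,6,11], [9,3,7,9,11,8,6,5,13,6,8], 11, [([108,108,108,104], 76, [3,7,10,13,14,13,9]), ([104,116,108], 796, [5,9,12,14,13,14])], []⟩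
def c862 : Clm := ⟨17, 5, true, [9,3,7,9,11,8,6,5,13,6,8], [4,14,5,13,14,13,7,14,5,8,6,7,13,6,8,6,11], 5, [([], 861, [])], []⟩
def c863 : Clm := ⟨5, 17, true, [4,7,14,13,10,14,13,14,2,8,6,13,6,13,8,6,13,14,5], [3,5,9,13,14,2,8,6,7], 11, [([], 96, [5,14,13,9,14,13,4,14,5]), ([108,116,116], 796, [3,5,13,14])], []⟩
def c864 : Clm := ⟨17, 5, true, [3,5,9,13,14,2,8,6,7], [4,7,14,13,10,14,13,14,2,8,6,13,6,13,8,6,13,14,5], 5, [([], 863, [])], []⟩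
def c865 : Clm := ⟨13, 17, true, [4,7,9,10,13,9,8,10,8,14,13,14,5,8,7], [4,13,9,7,2,8,6,10,8], 11, [([], 491, [10,9,7,13,14,13,14,5]), ([108,104,116], 796, [3,13,10,14])], []⟩
def c866 : Clm := ⟨17, 13, true, [4,13,9,7,2,8,6,10,8], [4,7,9,10,13,9,8,10,8,14,13,14,5,8,7], 5, [([], 865, [])], []⟩
def c867 : Clm := ⟨5, 17, true, [3,12,13,14,13,14,5,8,6,7,13,6,8,10,8,14,13,4], [4,7,14,1,8,10,13,6,13,1,8,9,7], 9, [([], 796, [3,14,13,14]), ([1618,1590,1600,1588], 806, [5,12,14,13,14,5,13,14])], []⟩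
def c868 : Clm := ⟨17, 5, true, [4,7,14,1,8,10,13,6,13,1,8,9,7], [3,12,13,14,13,14,5,8,6,7,13,6,8,10,8,14,13,4], 5, [([], 867, [])], []⟩
def c869 : Clm := ⟨5, 17, true, [13,4,14,5,13,3,14,13,14,2,8,6,13,6,13,8,6,10,11,8], [11,9,14,12,10,8,14,13,6,10,8,6,13,1], 9, [([], 796, [4,9,10,14]), ([1618,1600,1590], 843, [3,9,10,9,13,7,14,13,14])], []⟩
def c870 : Clm := ⟨17, 5, true, [11,9,14,12,10,8,14,13,6,10,8,6,13,1], [13,4,14,5,13,3,14,13,14,2,8,6,13,6,13,8,6,10,11,8], 5, [([], 869, [])], []⟩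
def c871 : Clm := ⟨17, 17, true, [3,10,9,14,13,10,1,8,7,10,13,6,8,6,13,1], [3,9,13,14,2,8,6,7], 11, [([], 799, [14,13,14,5,13,7,14]), ([108,116,116], 796, [5,13,3,14])], []⟩
def c872 : Clm := ⟨17, 17, true, [3,9,13,14,2,8,6,7], [3,10,9,14,13,10,1,8,7,10,13,6,8,6,13,1], 5, [([], 871, [])], []⟩
def c873 : Clm := ⟨5, 17, true, [9,11,14,13,10,9,14,13,8,14,13,6,5,8,7], [5,9,3,7,9,8,6,5,13,6,8], 11, [([], 84, [3,5,9,14,13,10,9,14,11,13]), ([109,117,108,106], 796, [9,12,14,13,14])], []⟩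
def c874 : Clm := ⟨17, 5, true, [5,9,3,7,9,8,6,5,13,6,8], [9,11,14,13,10,9,14,13,8,14,13,6,5,8,7], 5, [([], 873, [])], []⟩
def c875 : Clm := ⟨17, 17, true, [5,13,3,14,13,10,4,14,8,14,13,14,13,8,6,13,7], [4,5,9,7,9,2,8,6,7,10,8], 11, [([], 867, [4,5,10,12,14,5,13]), ([106], 796, [9,7,10,14])], []⟩
def c876 : Clm := ⟨17, 17, true, [4,5,9,7,9,2,8,6,7,10,8], [5,13,3,14,13,10,4,14,8,14,13,14,13,8,6,13,7], 5, [([], 875, [])], []⟩
def c877 : Clm := ⟨17, 17, true, [4,14,5,12,14,13,1,8,13,6,13,6,5,8,10,8], [3,7,14,12,14,8,6,10,8], 11, [([], 873, [12,10,4,14,13]), ([116,104,109], 796, [9,10,11,14])], []⟩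
def c878 : Clm := ⟨17, 17, true, [3,7,14,12,14,8,6,10,8], [4,14,5,12,14,13,1,8,13,6,13,6,5,8,10,8], 5, [([], 877, [])], []⟩
def c879 : Clm := ⟨13, 17, true, [3,9,7,10,11,8,6,13,6,8,7,13,1,3], [3,5,9,7,8,6,7,13,6,10,8], 11, [([], 516, [10,9,14,13,4,14,13,14]), ([116,116], 796, [10,14,13,14])], []⟩
def c880 : Clm := ⟨17, 13, true, [3,5,9,7,8,6,7,13,6,10,8], [3,9,7,10,11,8,6,13,6,8,7,13,1,3], 5, [([], 879, [])], []⟩
def c881 : Clm := ⟨17, 17, true, [4,5,13,14,5,12,1,8,13,6,10,8,13,1,7], [3,9,7,8,6,5,13,6,8], 11, [([], 817, [14,13,10,14,11,13,9,14,5]), ([116,104,117], 796, [11,14,13,14])], []⟩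
def c882 : Clm := ⟨17, 17, true, [3,9,7,8,6,5,13,6,8], [4,5,13,14,5,12,1,8,13,6,10,8,13,1,7], 5, [([], 881, [])], []⟩
def c883 : Clm := ⟨13, 17, true, [3,5,7,14,12,14,8,6,13,6,13,2,8,7], [9,13,3,7,9,8,6,5,13,6,8], 11, [([], 491, [14,13,14,13,9,7]), ([109,117,108], 796, [13,9,14,13,14])], []⟩
def c884 : Clm := ⟨17, 13, true, [9,13,3,7,9,8,6,5,13,6,8], [3,5,7,14,12,14,8,6,13,6,13,2,8,7], 5, [([], 883, [])], []⟩
def c885 : Clm := ⟨17, 17, true, [4,5,9,7,2,8,6,13,6,8,3], [4,5,9,7,9,8,14,13,2,6,8], 11, [([], 873, [4,5,9,11]), ([109,117,108,106], 796, [9,3,12,14,13,14])], []⟩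
def c886 : Clm := ⟨6, 17, true, [3,10,13,9,7,14,5,8,14,13,14,5,8,7], [9,7,11,8,14,13,2,6,8], 11, [([], 127, [4,14,13,14,5,11]), ([116,104,106], 796, [3,4,5,12,14,13,14])], []⟩
def c887 : Clm := ⟨17, 6, true, [9,7,11,8,14,13,2,6,8], [3,10,13,9,7,14,5,8,14,13,14,5,8,7], 5, [([], 886, [])], []⟩
def c888 : Clm := ⟨13, 17, true, [4,7,13,9,10,9,8,10,8,14,8,13,7], [5,14,11,12,14,8,6,13,3,6,10,8], 11, [([], 491, [4,13,10,9,14,13]), ([104,116,104], 796, [5,9,3,12,10,14,13,14])], []⟩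
def c889 : Clm := ⟨17, 13, true, [5,14,11,12,14,8,6,13,3,6,10,8], [4,7,13,9,10,9,8,10,8,14,8,13,7], 5, [([], 888, [])], []⟩
def c890 : Clm := ⟨11, 17, true, [5,7,10,14,13,9,7,10,14,8,6,10,13,6,8,10,13,9,14,5], [13,4,9,7,8,14,13,2,6,8], 11, [([], 369, [3,4,13,14,13,14,5,13]), ([116,116], 796, [3,13,14,13,14])], []⟩
def c891 : Clm := ⟨17, 11, true, [13,4,9,7,8,14,13,2,6,8], [5,7,10,14,13,9,7,10,14,8,6,10,13,6,8,10,13,9,14,5], 5, [([], 890, [])], []⟩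
def c892 : Clm := ⟨13, 17, true, [4,13,3,14,13,14,5,8,6,7,13,6,8,14], [9,13,3,7,8,6,5,13,6,8], 11, [([], 505, [4,5,13,14,13,9,11,14]), ([104,117,108], 796, [4,13,14,13,14])], []⟩
def c893 : Clm := ⟨17, 13, true, [9,13,3,7,8,6,5,13,6,8], [4,13,3,14,13,14,5,8,6,7,13,6,8,14], 5, [([], 892, [])], []⟩
def c894 : Clm := ⟨17, 17, true, [4,13,9,14,13,10,4,14,8,14,5,13,14,8,13,6,13], [4,9,7,9,11,2,8,6,7,10,8], 11, [([], 867, [5,9,10,11,14,13]), ([104,116,108,116], 796, [5,9,7,10,14])], []⟩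
def c895 : Clm := ⟨17, 17, true, [4,9,7,9,11,2,8,6,7,10,8], [4,13,9,14,13,10,4,14,8,14,5,13,14,8,13,6,13], 5, [([], 894, [])], []⟩
def c896 : Clm := ⟨17, 17, true, [5,14,11,12,13,8,14,13,14,13,1,8,10,9], [3,9,7,8,6,10,8], 11, [([], 873, [9,3,12,14,13,10]), ([109,117,108], 796, [10,12,14])], []⟩
def c897 : Clm := ⟨17, 17, true, [3,9,7,8,6,10,8], [5,14,11,12,13,8,14,13,14,13,1,8,10,9], 5, [([], 896, [])], []⟩
def c898 : Clm := ⟨13, 17, true, [5,14,13,3,4,14,8,6,13,10,8,10], [3,11,9,7,8,6,7,13,6,10,8], 11, [([], 513, [11,13,4,14,13,10]), ([108,116,104,109,104], 796, [5,10,14,13,14])], []⟩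
def c899 : Clm := ⟨17, 13, true, [3,11,9,7,8,6,7,13,6,10,8], [5,14,13,3,4,14,8,6,13,10,8,10], 5, [([], 898, [])], []⟩
def c900 : Clm := ⟨12, 17, true, [13,14,13,14,11,9,13,14,8,6,13,6,8,14,13,1], [3,7,11,12,8,6,7,10,13,6,8], 11, [([], 425, [5,14,13,14,13,7,10]), ([116,109,109,104], 796, [5,14,13,10,14])], []⟩
def c901 : Clm := ⟨17, 12, true, [3,7,11,12,8,6,7,10,13,6,8], [13,14,13,14,11,9,13,14,8,6,13,6,8,14,13,1], 5, [([], 900, [])], []⟩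
def c902 : Clm := ⟨11, 17, true, [3,9,13,14,5,8,6,13,10,8,10], [5,7,9,3,8,6,7,10,13,6,8], 11, [([], 337, [4,5,9,11,14,13,10]), ([116,108,108], 796, [9,14,13,10,14])], []⟩
def c903 : Clm := ⟨17, 11, true, [5,7,9,3,8,6,7,10,13,6,8], [3,9,13,14,5,8,6,13,10,8,10], 5, [([], 902, [])], []⟩
def c904 : Clm := ⟨13, 17, true, [3,4,14,13,14,5,13,14,8,6,10,13,8,10], [3,9,7,8,6,7,13,6,10,8], 11, [([], 523, [3,13,9,14,13,7,10]), ([116,109], 796, [10,11,14,13,14])], []⟩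
def c905 : Clm := ⟨17, 13, true, [3,9,7,8,6,7,13,6,10,8], [3,4,14,13,14,5,13,14,8,6,10,13,8,10], 5, [([], 904, [])], []⟩
def c906 : Clm := ⟨13, 17, true, [4,14,5,11,14,12,2,8,14,13,6,8,13,1,7], [4,9,7,2,8,6,13,6,10,8], 11, [([], 513, [13,3,9,14,13,10,14,5]), ([117,109,117], 796, [10,14,13,3,14])], []⟩
def c907 : Clm := ⟨17, 13, true, [4,9,7,2,8,6,13,6,10,8], [4,14,5,11,14,12,2,8,14,13,6,8,13,1,7], 5, [([], 906, [])], []⟩
def c908 : Clm := ⟨11, 17, true, [7,5,10,9,14,13,14,1,8,7,13,6,13,6,8,6], [4,9,13,7,8,14,13,2,6,8], 11, [([], 341, [5,10,14,13,14,11,9,13]), ([106,104,109], 796, [13,3,14,13,14])], []⟩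
def c909 : Clm := ⟨17, 11, true, [4,9,13,7,8,14,13,2,6,8], [7,5,10,9,14,13,14,1,8,7,13,6,13,6,8,6], 5, [([], 908, [])], []⟩
def c910 : Clm := ⟨13, 17, true, [13,3,7,1,8,7,13,6,13,6,8,7], [3,9,11,13,7,8,6,7,13,6,10,8], 11, [([], 491, [4,7,14,13,9,14,13,10]), ([104,116,104,108], 796, [13,10,14,13,14])], []⟩
def c911 : Clm := ⟨17, 13, true, [3,9,11,13,7,8,6,7,13,6,10,8], [13,3,7,1,8,7,13,6,13,6,8,7], 5, [([], 910, [])], []⟩
def c912 : Clm := ⟨11, 17, true, [9,13,4,14,13,2,8,14,13,14,13,8,10], [3,9,11,13,7,8,6,13,3,6,10,8], 11, [([], 369, [3,4,14,13,10,14,13,9,14]), ([104,108,116], 796, [3,13,10,14,13,14])], []⟩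
def c913 : Clm := ⟨17, 11, true, [3,9,11,13,7,8,6,13,3,6,10,8], [9,13,4,14,13,2,8,14,13,14,13,8,10], 5, [([], 912, [])], []⟩
def c914 : Clm := ⟨10, 17, true, [4,12,14,5,13,8,6,13,3,6,8,7], [3,4,13,9,7,8,6,7,13,6,10,8], 11, [([], 292, [3,5,13,14,13,10,14,12,13,14]), ([117,109,106], 796, [4,10,13,14,13,14])], []⟩
def c915 : Clm := ⟨17, 10, true, [3,4,13,9,7,8,6,7,13,6,10,8], [4,12,14,5,13,8,6,13,3,6,8,7], 5, [([], 914, [])], []⟩
def c916 : Clm := ⟨16, 17, true, [3,4,5,14,5,13,14,13,9,8,10,14,13,8,14,8,13,6,10], [3,7,5,13,9,8,6,7,10,13,6,8], 11, [([], 777, [7,9,10,9,13,14,13,14,13]), ([104,109,117], 796, [4,13,9,14,13,10,14])], []⟩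
def c917 : Clm := ⟨17, 16, true, [3,7,5,13,9,8,6,7,10,13,6,8], [3,4,5,14,5,13,14,13,9,8,10,14,13,8,14,8,13,6,10], 5, [([], 916, [])], []⟩
def c918 : Clm := ⟨12, 17, true, [4,13,10,14,13,4,8,10,14,8,12,6,13], [3,4,7,11,8,6,7,13,6,10,8], 11, [([], 418, [3,9,13,10,14,11,9,13]), ([117,108,116], 796, [4,5,10,12,14,13,14,11])], []⟩
def c919 : Clm := ⟨17, 12, true, [3,4,7,11,8,6,7,13,6,10,8], [4,13,10,14,13,4,8,10,14,8,12,6,13], 5, [([], 918, [])], []⟩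
def c920 : Clm := ⟨10, 17, true, [4,5,9,11,14,13,9,2,8,14,13,10,8,7], [4,9,7,9,13,8,14,13,2,6,8], 11, [([], 282, [3,13,9,11,14,13,10]), ([109,109,106], 796, [5,13,9,3,14,13,14])], []⟩
def c921 : Clm := ⟨17, 10, true, [4,9,7,9,13,8,14,13,2,6,8], [4,5,9,11,14,13,9,2,8,14,13,10,8,7], 5, [([], 920, [])], []⟩
def c922 : Clm := ⟨17, 17, true, [9,7,10,13,9,3,8,10,8,14,13,14,8,7], [3,4,13,7,9,8,6,7,10,13,6,8], 11, [([], 797, [9,13,14,13,10,9,14,12]), ([104], 796, [9,13,14,13,10,14])], []⟩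
def c923 : Clm := ⟨17, 17, true, [3,4,13,7,9,8,6,7,10,13,6,8], [9,7,10,13,9,3,8,10,8,14,13,14,8,7], 5, [([], 922, [])], []⟩
def c924 : Clm := ⟨11, 17, true, [14,13,3,4,14,5,2,8,6,13,14,5,8,7], [3,4,13,9,7,8,6,13,3,6,10,8], 11, [([], 382, [11,9,13,14,5,12]), ([104,109,117,106], 796, [10,4,13,14,13,14])], []⟩
def c925 : Clm := ⟨17, 11, true, [3,4,13,9,7,8,6,13,3,6,10,8], [14,13,3,4,14,5,2,8,6,13,14,5,8,7], 5, [([], 924, [])], []⟩
def c926 : Clm := ⟨13, 17, true, [3,14,12,10,14,8,6,13,6,10,8,6], [13,3,9,7,8,6,7,13,6,10,8], 11, [([], 623, [10,9,13,7]), ([109,117,108], 796, [11,13,10,14,13,14])], []⟩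
def c927 : Clm := ⟨17, 13, true, [13,3,9,7,8,6,7,13,6,10,8], [3,14,12,10,14,8,6,13,6,10,8,6], 5, [([], 926, [])], []⟩
def c928 : Clm := ⟨10, 17, true, [3,4,12,14,13,9,1,8,13,6,13,14,8,13,7], [3,5,7,9,1,8,13,6,10,8,13,1], 11, [([], 292, [5,9,14,13,7,9,14,13,14]), ([104,117,109,109], 796, [14,5,13,14,13,14])], []⟩
def c929 : Clm := ⟨17, 10, true, [3,5,7,9,1,8,13,6,10,8,13,1], [3,4,12,14,13,9,1,8,13,6,13,14,8,13,7], 5, [([], 928, [])], []⟩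
def c930 : Clm := ⟨13, 17, true, [4,9,7,10,9,13,8,10,8,14,8,13,7], [5,9,3,7,1,8,13,6,10,8,13,1], 11, [([], 491, [9,13,10,9,14,11,13]), ([106,104,106], 796, [14,13,9,14,13,14])], []⟩
def c931 : Clm := ⟨17, 13, true, [5,9,3,7,1,8,13,6,10,8,13,1], [4,9,7,10,9,13,8,10,8,14,8,13,7], 5, [([], 930, [])], []⟩
def c932 : Clm := ⟨6, 17, true, [3,14,13,9,10,8,6,13,6,10,8,14,11,13,1], [3,4,7,13,8,6,7,10,13,6,8], 11, [([], 139, [3,13,10,9,14,13,7,14]), ([117,108,106], 796, [4,5,13,14,13,10,14])], []⟩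
def c933 : Clm := ⟨17, 6, true, [3,4,7,13,8,6,7,10,13,6,8], [3,14,13,9,10,8,6,13,6,10,8,14,11,13,1], 5, [([], 932, [])], []⟩
def c934 : Clm := ⟨13, 17, true, [5,9,7,10,9,14,13,14,5,8,14,13,14,8,10,13,14,11,9], [4,7,5,10,9,1,8,10,13,8,6,8,13,1], 11, [([], 606, [9,3,10,13,7]), ([106,104,106], 796, [4,14,13,10,14,13,14])], []⟩
def c935 : Clm := ⟨17, 13, true, [4,7,5,10,9,1,8,10,13,8,6,8,13,1], [5,9,7,10,9,14,13,14,5,8,14,13,14,8,10,13,14,11,9], 5, [([], 934, [])], []⟩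
def c936 : Clm := ⟨17, 17, true, [12,13,14,5,13,14,11,2,8,14,13,14,13,8,14,13,7], [14,13,9,14,13,10,14,5,1,8,7,13,6,13,1], 11, [([], 867, [4,7,13,14,13,10,14,5]), ([108,116,116,106], 796, [4,14,13,10,14,13,9,10,14,13])], []⟩
def c937 : Clm := ⟨17, 17, true, [14,13,9,14,13,10,14,5,1,8,7,13,6,13,1], [12,13,14,5,13,14,11,2,8,14,13,14,13,8,14,13,7], 5, [([], 936, [])], []⟩
def c938 : Clm := ⟨17, 17, true, [7,13,9,14,13,10,14,13,8,6,13,6,8,7,13,6,13], [5,7,9,3,11,2,8,10,8], 7, [([], 867, [5,9,10,9,7,14,13]), ([116,104,108,104], 796, [5,9,3,12,10])], []⟩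
def c939 : Clm := ⟨17, 17, true, [5,7,9,3,11,2,8,10,8], [7,13,9,14,13,10,14,13,8,6,13,6,8,7,13,6,13], 5, [([], 938, [])], []⟩
def c940 : Clm := ⟨8, 17, true, [4,14,5,11,9,14,8,6,7,13,6,8,14], [11,9,14,13,14,2,8,6,7], 11, [([], 197, [3,5,7,14,13,9,14]), ([], 798, [3,13,14])], []⟩
def c941 : Clm := ⟨17, 8, true, [11,9,14,13,14,2,8,6,7], [4,14,5,11,9,14,8,6,7,13,6,8,14], 5, [([], 940, [])], []⟩
def c942 : Clm := ⟨17, 17, true, [10,13,9,3,14,5,8,6,10,13,8,6,13,6,8,10], [4,7,9,7,5,2,8,6,5], 11, [([], 873, [7,14,13,9,3,14,13,14]), ([116,109,104], 798, [5,7,14])], []⟩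
def c943 : Clm := ⟨17, 17, true, [4,7,9,7,5,2,8,6,5], [10,13,9,3,14,5,8,6,10,13,8,6,13,6,8,10], 5, [([], 942, [])], []⟩
def c944 : Clm := ⟨13, 17, true, [5,9,3,7,10,9,12,8,14,13,6,13,6,8,9,7], [3,14,13,4,9,8,6,10,13,6,8,11,13], 11, [([], 516, [7,10,13,14,13,9,7,14,5]), ([104,106,104,106], 798, [9,13,14,12,13,10,14,13])], []⟩
def c945 : Clm := ⟨17, 13, true, [3,14,13,4,9,8,6,10,13,6,8,11,13], [5,9,3,7,10,9,12,8,14,13,6,13,6,8,9,7], 5, [([], 944, [])], []⟩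
def c946 : Clm := ⟨17, 17, true, [3,13,14,13,9,14,11,13,14,2,8,10,14,8,13,14,8,10,13,14], [9,12,14,5,11,2,8,6,7,10,8], 11, [([], 848, [5,14,5,13,7]), ([106,104], 798, [7,10,14])], []⟩
def c947 : Clm := ⟨17, 17, true, [9,12,14,5,11,2,8,6,7,10,8], [3,13,14,13,9,14,11,13,14,2,8,10,14,8,13,14,8,10,13,14], 5, [([], 946, [])], []⟩
def c948 : Clm := ⟨11, 17, true, [3,5,7,9,11,8,6,13,6,10,8,7,10,13], [14,13,14,11,9,2,8,6,7], 11, [([], 369, [4,9,13,10,9]), ([116,104,106], 798, [3,5,13,14])], []⟩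
def c949 : Clm := ⟨17, 11, true, [14,13,14,11,9,2,8,6,7], [3,5,7,9,11,8,6,13,6,10,8,7,10,13], 5, [([], 948, [])], []⟩
def c950 : Clm := ⟨8, 17, true, [3,5,11,14,13,4,14,5,2,8,6,13,6,8,6,10,8,9], [9,12,14,11,13,2,8,6,10,8], 11, [([], 220, [10,11,14,13,14,5]), ([116,116,109], 798, [3,10,13,14])], []⟩
def c951 : Clm := ⟨17, 8, true, [9,12,14,11,13,2,8,6,10,8], [3,5,11,14,13,4,14,5,2,8,6,13,6,8,6,10,8,9], 5, [([], 950, [])], []⟩
def c952 : Clm := ⟨10, 17, true, [11,14,12,8,6,8,13,14,8,7,13], [3,7,9,14,13,14,2,8,6,7], 11, [([], 282, [5,12,14,13,9,7,14,13]), ([106,104,109,117], 798, [5,13,3,14])], []⟩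
def c953 : Clm := ⟨17, 10, true, [3,7,9,14,13,14,2,8,6,7], [11,14,12,8,6,8,13,14,8,7,13], 5, [([], 952, [])], []⟩
def c954 : Clm := ⟨17, 17, true, [14,13,7,10,2,8,6,10,8,14], [9,12,14,13,2,8,6,7,10,8], 11, [([], 799, [7,13,10,14]), ([106], 798, [7,13,10,14])], []⟩
def c955 : Clm := ⟨17, 17, true, [9,13,14,5,11,14,2,8,6,13,14,13,6,8,7], [12,14,5,11,2,8,6,7,10,8], 11, [([], 863, [3,5,10,12,14,13,14,5,13]), ([117,108,104,106], 798, [9,7,10,14])], []⟩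
def c956 : Clm := ⟨17, 17, true, [12,14,5,11,2,8,6,7,10,8], [9,13,14,5,11,14,2,8,6,13,14,13,6,8,7], 5, [([], 955, [])], []⟩
def c957 : Clm := ⟨13, 17, true, [11,12,14,8,10,14,13,6,8,6,13,2], [9,3,12,14,13,8,6,10,8], 11, [([], 623, [10,9,14,13,14,13,7,10]), ([104,108,116,106], 798, [10,11,13,14])], []⟩
def c958 : Clm := ⟨17, 13, true, [9,3,12,14,13,8,6,10,8], [11,12,14,8,10,14,13,6,8,6,13,2], 5, [([], 957, [])], []⟩
def c959 : Clm := ⟨6, 17, true, [11,13,4,14,5,13,14,8,6,10,13,6,8,10,8,6,13], [3,4,12,14,13,9,8,6,10,8], 11, [([], 151, [3,10,12,13,14,5,12]), ([108,108], 798, [11,13,10,14])], []⟩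
def c960 : Clm := ⟨17, 6, true, [3,4,12,14,13,9,8,6,10,8], [11,13,4,14,5,13,14,8,6,10,13,6,8,10,8,6,13], 5, [([], 959, [])], []⟩
def c961 : Clm := ⟨13, 17, true, [5,9,11,14,13,8,6,13,14,8,7,13,3,14], [7,9,11,14,13,9,8,6,10,8], 11, [([], 558, [4,13,3,14,5,12,10]), ([108,104,108], 798, [13,9,10,14])], []⟩
def c962 : Clm := ⟨17, 13, true, [7,9,11,14,13,9,8,6,10,8], [5,9,11,14,13,8,6,13,14,8,7,13,3,14], 5, [([], 961, [])], []⟩
def c963 : Clm := ⟨6, 17, true, [10,4,9,7,5,1,8,13,6,5,13,6,5,8,7], [3,7,9,14,5,7,2,8,14,13,14,8,3], 11, [([], 119, [10,4,13,14,13,14,13,9]), ([108,116], 798, [14,13,3,14])], []⟩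
def c964 : Clm := ⟨17, 6, true, [3,7,9,14,5,7,2,8,14,13,14,8,3], [10,4,9,7,5,1,8,13,6,5,13,6,5,8,7], 5, [([], 963, [])], []⟩
def c965 : Clm := ⟨10, 17, true, [3,7,12,14,13,8,6,13,6,10,8,9,10], [3,4,14,13,9,8,6,7,13,6,5,8], 11, [([], 294, [12,14,13,10,14,13,9,14,13]), ([104,106,104,106], 798, [5,13,14,13,9,14,5])], []⟩
def c966 : Clm := ⟨17, 10, true, [3,4,14,13,9,8,6,7,13,6,5,8], [3,7,12,14,13,8,6,13,6,10,8,9,10], 5, [([], 965, [])], []⟩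
def c967 : Clm := ⟨10, 17, true, [5,11,9,14,11,13,2,8,10,14,13,14,8,13,7], [9,14,13,2,8,6,13,6,5,8], 11, [([], 282, [3,13,14,13,14,13,9,10]), ([116,108,116,106], 798, [4,7,9,13,14,5,13,14,5])], []⟩
def c968 : Clm := ⟨17, 10, true, [9,14,13,2,8,6,13,6,5,8], [5,11,9,14,11,13,2,8,10,14,13,14,8,13,7], 5, [([], 967, [])], []⟩
def c969 : Clm := ⟨10, 17, true, [13,7,14,13,10,9,14,13,1,2,8,13,6,13,6,8,6], [3,12,14,5,13,8,6,7,13,6,5,10,8], 11, [([], 282, [13,14,5,13,4,14,13,10]), ([104,117,106], 798, [9,13,14,12,10,13,14,5])], []⟩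
def c970 : Clm := ⟨17, 10, true, [3,12,14,5,13,8,6,7,13,6,5,10,8], [13,7,14,13,10,9,14,13,1,2,8,13,6,13,6,8,6], 5, [([], 969, [])], []⟩
def c971 : Clm := ⟨6, 17, true, [10,12,13,14,5,8,6,13,6,5,8,13,1,7], [12,14,13,2,8,6,7,10,8], 11, [([], 127, [9,13,10,9,14,13,14,5,13]), ([116,104,106], 798, [9,7,13,10,14])], []⟩
def c972 : Clm := ⟨17, 6, true, [12,14,13,2,8,6,7,10,8], [10,12,13,14,5,8,6,13,6,5,8,13,1,7], 5, [([], 971, [])], []⟩
def c973 : Clm := ⟨13, 17, true, [7,14,5,13,7,14,13,14,5,1,8,13,6,13,6,8,3,6,10], [3,14,5,12,8,6,10,13,3,6,8], 11, [([], 606, [3,4,14,13,10,14,13]), ([117,109,109,106], 798, [3,5,14,13,10,14])], []⟩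
def c974 : Clm := ⟨17, 13, true, [3,14,5,12,8,6,10,13,3,6,8], [7,14,5,13,7,14,13,14,5,1,8,13,6,13,6,8,3,6,10], 5, [([], 973, [])], []⟩
def c975 : Clm := ⟨9, 17, true, [9,3,14,13,10,9,14,8,6,13,6,8,6,13,6,13,9], [3,12,14,11,8,6,7,13,6,10,8], 11, [([], 255, [5,14,5,7,13,14,13,10]), ([108,104,109], 798, [5,9,10,14,13,14])], []⟩
def c976 : Clm := ⟨17, 9, true, [3,12,14,11,8,6,7,13,6,10,8], [9,3,14,13,10,9,14,8,6,13,6,8,6,13,6,13,9], 5, [([], 975, [])], []⟩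
def c977 : Clm := ⟨10, 17, true, [3,12,14,5,13,14,2,8,6,13,6,8,6,10,8,9], [3,14,11,8,6,7,10,13,6,8], 11, [([], 294, [3,10,12,13,14,5,13,14,13,14]), ([108,104,109,117], 798, [5,12,14,13,10,14])], []⟩
def c978 : Clm := ⟨17, 10, true, [3,14,11,8,6,7,10,13,6,8], [3,12,14,5,13,14,2,8,6,13,6,8,6,10,8,9], 5, [([], 977, [])], []⟩
def c979 : Clm := ⟨17, 17, true, [3,5,9,11,14,13,10,14,13,9,8,6,7,13,6,10,8,10,14,13,14], [3,7,9,14,5,7,1,8,13,6,10,8,13,1], 11, [([], 861, [5,14,11,13,10,14,13,4,14]), ([106,104,117], 798, [4,14,13,9,14,13,14])], []⟩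
def c980 : Clm := ⟨6, 17, true, [3,10,9,7,9,11,8,6,13,3,10,14,8,7], [14,5,11,9,3,8,6,7,13,6], 9, [([], 801, []), ([], 844, [3])], []⟩
def c981 : Clm := ⟨17, 6, true, [14,5,11,9,3,8,6,7,13,6], [3,10,9,7,9,11,8,6,13,3,10,14,8,7], 5, [([], 980, [])], []⟩
def c982 : Clm := ⟨6, 17, true, [3,10,9,7,9,11,8,6,13,10,14,8,3,7], [14,11,13,14,5,13,14,5,2,8,6,13,6,8,3,10,8,14], 9, [([], 801, [3]), ([1589], 936, [4,10,14,13,9,14,13,14,5,13])], []⟩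
def c983 : Clm := ⟨17, 6, true, [14,11,13,14,5,13,14,5,2,8,6,13,6,8,3,10,8,14], [3,10,9,7,9,11,8,6,13,10,14,8,3,7], 5, [([], 982, [])], []⟩
def c984 : Clm := ⟨17, 17, true, [9,13,3,14,13,10,14,5,8,6,13,6,8,13,6,11,13,1,10], [11,9,13,14,2,8,6,7], 11, [([], 886, [10,13,7,14,13,9,14,5]), ([235,213], 801, [3,13,14])], []⟩
def c985 : Clm := ⟨17, 17, true, [11,9,13,14,2,8,6,7], [9,13,3,14,13,10,14,5,8,6,13,6,8,13,6,11,13,1,10], 5, [([], 984, [])], []⟩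
def c986 : Clm := ⟨11, 17, true, [11,13,14,13,7,5,8,6,10,8,9,13,1,7], [9,7,11,13,9,8,6,10,8], 11, [([], 354, [4,13,14,13,14,5,11,14]), ([235,225], 801, [4,13,9,10,14])], []⟩
def c987 : Clm := ⟨17, 11, true, [9,7,11,13,9,8,6,10,8], [11,13,14,13,7,5,8,6,10,8,9,13,1,7], 5, [([], 986, [])], []⟩
def c988 : Clm := ⟨17, 17, true, [5,9,10,14,13,14,5,11,13,1,2,8,7], [5,9,13,14,2,8,6,7], 11, [([], 846, [10,13,14,13,4,9,14,13]), ([214,213], 801, [3,5,13,14])], []⟩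
def c989 : Clm := ⟨17, 17, true, [5,9,13,14,2,8,6,7], [5,9,10,14,13,14,5,11,13,1,2,8,7], 5, [([], 988, [])], []⟩
def c990 : Clm := ⟨10, 17, true, [3,5,7,13,14,5,8,10,14,13,6,8,10,8], [9,13,3,7,2,8,6,10,8], 11, [([], 296, [3,5,14,13,10,14]), ([224,214,210], 801, [3,10,13,14])], []⟩
def c991 : Clm := ⟨17, 10, true, [9,13,3,7,2,8,6,10,8], [3,5,7,13,14,5,8,10,14,13,6,8,10,8], 5, [([], 990, [])], []⟩
def c992 : Clm := ⟨11, 17, true, [5,9,3,7,9,8,6,13,6,8,7,13,3], [3,4,13,9,7,2,8,6,10,8], 11, [([], 324, [11,12,14,13,14,13,9]), ([235,224,213], 801, [3,13,10,14])], []⟩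
def c993 : Clm := ⟨17, 11, true, [3,4,13,9,7,2,8,6,10,8], [5,9,3,7,9,8,6,13,6,8,7,13,3], 5, [([], 992, [])], []⟩
def c994 : Clm := ⟨8, 17, true, [4,14,12,10,14,2,8,10,14,13,8,9,7], [4,13,9,7,9,8,6,10,8], 11, [([], 206, [3,5,10,9,12,14,13,10]), ([225], 801, [9,13,10,14])], []⟩
def c995 : Clm := ⟨17, 8, true, [4,13,9,7,9,8,6,10,8], [4,14,12,10,14,2,8,10,14,13,8,9,7], 5, [([], 994, [])], []⟩
def c996 : Clm := ⟨13, 17, true, [9,3,7,14,13,14,13,1,8,13,6,10,8,13,7], [9,7,9,13,8,6,10,8], 11, [([], 640, [4,11,14,13,10,14,13]), ([235,224,210], 801, [3,13,9,3,10,14])], []⟩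
def c997 : Clm := ⟨17, 13, true, [9,7,9,13,8,6,10,8], [9,3,7,14,13,14,13,1,8,13,6,10,8,13,7], 5, [([], 996, [])], []⟩
def c998 : Clm := ⟨17, 17, true, [5,13,3,4,14,13,9,2,8,10,14,8,13,1,9,7], [11,9,3,7,8,14,13,2,6,8], 11, [([], 854, [7,13,14,12,10,13,14]), ([225,234,214,224], 801, [3,5,14,13,14])], []⟩
def c999 : Clm := ⟨13, 17, true, [3,9,10,9,12,8,6,13,6,8,14,11,13], [9,7,5,9,8,6,13,3,6,10,8], 11, [([], 527, [9,14,12,13,14,5,13]), ([225,235,213], 801, [3,5,9,12,10,14,13,14])], []⟩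
def c1000 : Clm := ⟨17, 13, true, [9,7,5,9,8,6,13,3,6,10,8], [3,9,10,9,12,8,6,13,6,8,14,11,13], 5, [([], 999, [])], []⟩
def c1001 : Clm := ⟨13, 17, true, [7,10,9,14,13,10,14,8,6,10,8,13,10], [3,13,4,9,7,8,14,13,2,6,8], 11, [([], 527, [9,13,14,12,10,13]), ([235,214,213,213], 801, [3,13,14,13,14])], []⟩
def c1002 : Clm := ⟨17, 13, true, [3,13,4,9,7,8,14,13,2,6,8], [7,10,9,14,13,10,14,8,6,10,8,13,10], 5, [([], 1001, [])], []⟩
def c1003 : Clm := ⟨10, 17, true, [4,5,14,5,7,8,6,13,10,8,10], [7,5,9,8,6,10,13,3,6,8], 11, [([], 280, [4,5,11,14,13,10]), ([234,225], 801, [3,5,9,12,14,13,10,14])], []⟩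
def c1004 : Clm := ⟨17, 10, true, [7,5,9,8,6,10,13,3,6,8], [4,5,14,5,7,8,6,13,10,8,10], 5, [([], 1003, [])], []⟩
def c1005 : Clm := ⟨11, 17, true, [3,9,7,10,14,13,9,14,8,6,7,10,8,10,14], [13,9,7,8,6,5,13,6,8], 11, [([], 345, [5,9,10,9,12,14,5]), ([235,213], 801, [5,13,14,13,14])], []⟩
def c1006 : Clm := ⟨17, 11, true, [13,9,7,8,6,5,13,6,8], [3,9,7,10,14,13,9,14,8,6,7,10,8,10,14], 5, [([], 1005, [])], []⟩
def c1007 : Clm := ⟨13, 17, true, [3,5,14,13,10,4,14,5,1,8,13,6,10,13,1,8,10], [7,9,3,11,2,8,6,10,13,6,8], 11, [([], 521, [3,5,14,13,9,14,13,3,14,5]), ([234,212], 801, [5,7,9,14,12,13,10,14])], []⟩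
def c1008 : Clm := ⟨17, 13, true, [7,9,3,11,2,8,6,10,13,6,8], [3,5,14,13,10,4,14,5,1,8,13,6,10,13,1,8,10], 5, [([], 1007, [])], []⟩
def c1009 : Clm := ⟨13, 17, true, [4,14,5,11,8,14,13,14,8,13,1,7], [5,7,14,12,14,8,6,7,13,6,10,8], 11, [([], 496, [13,14,11,9,13,14,13,10]), ([212,234], 801, [9,10,14,13,14])], []⟩
def c1010 : Clm := ⟨17, 13, true, [5,7,14,12,14,8,6,7,13,6,10,8], [4,14,5,11,8,14,13,14,8,13,1,7], 5, [([], 1009, [])], []⟩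
def c1011 : Clm := ⟨10, 17, true, [3,9,11,13,14,5,13,8,14,13,10,8,14,5], [9,7,13,9,3,8,14,13,2,6,8], 11, [([], 296, [5,7,14,13,14,5,13,14]), ([214,225,213,210], 801, [3,9,13,14,13,14])], []⟩
def c1012 : Clm := ⟨17, 10, true, [9,7,13,9,3,8,14,13,2,6,8], [3,9,11,13,14,5,13,8,14,13,10,8,14,5], 5, [([], 1011, [])], []⟩
def c1013 : Clm := ⟨10, 17, true, [14,13,9,14,13,3,14,13,8,6,8,13,6,13,8,6,8,10], [13,9,7,8,6,13,3,6,10,8], 11, [([], 296, [14,13,10,14,13,3,14,13,9]), ([214], 801, [3,10,13,14,13,14])], []⟩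
def c1014 : Clm := ⟨17, 10, true, [13,9,7,8,6,13,3,6,10,8], [14,13,9,14,13,3,14,13,8,6,8,13,6,13,8,6,8,10], 5, [([], 1013, [])], []⟩
def c1015 : Clm := ⟨5, 17, true, [5,7,10,4,9,7,2,8,6,13,14,8,3,10,8], [3,9,10,14,5,11,9,8,6,10,9,13,6,8,14,13,3], 9, [([], 803, [3,10,14]), ([1588,1618,1590], 876, [7,10,12,14,13,14,13])], []⟩
def c1016 : Clm := ⟨17, 5, true, [3,9,10,14,5,11,9,8,6,10,9,13,6,8,14,13,3], [5,7,10,4,9,7,2,8,6,13,14,8,3,10,8], 5, [([], 1015, [])], []⟩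
def c1017 : Clm := ⟨13, 17, true, [4,5,11,13,14,5,12,8,6,8,13,6,8,13,6,5], [3,11,9,14,13,14,2,8,6,7], 11, [([], 558, [5,7,13,14,12]), ([117,109,106], 803, [3,13,14])], []⟩
def c1018 : Clm := ⟨17, 13, true, [3,11,9,14,13,14,2,8,6,7], [4,5,11,13,14,5,12,8,6,8,13,6,8,13,6,5], 5, [([], 1017, [])], []⟩
def c1019 : Clm := ⟨17, 17, true, [3,5,14,13,4,9,14,13,10,14,8,6,7,13,6,8,10,13,14,13], [7,9,3,7,5,2,8,6,5], 11, [([], 848, [10,12,14,13,4,14]), ([116,104,109,109], 803, [5,7,14])], []⟩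
def c1020 : Clm := ⟨13, 17, true, [7,14,13,14,12,10,13,8,10,14,8,12,6,13], [4,12,14,11,9,8,6,10,8], 11, [([], 523, [3,9,13,10,14,11,9,13]), ([109,106,104], 803, [5,10,14])], []⟩
def c1021 : Clm := ⟨17, 13, true, [4,12,14,11,9,8,6,10,8], [7,14,13,14,12,10,13,8,10,14,8,12,6,13], 5, [([], 1020, [])], []⟩
def c1022 : Clm := ⟨8, 17, true, [11,13,4,14,13,10,14,8,14,13,2,6,8,13,6,10,13], [7,9,11,14,8,14,13,2,6,13,8], 11, [([], 211, [11,13,14,13,14,5]), ([116,116,109,106], 803, [5,14,13,14,5,13,3])], []⟩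
def c1023 : Clm := ⟨17, 8, true, [7,9,11,14,8,14,13,2,6,13,8], [11,13,4,14,13,10,14,8,14,13,2,6,8,13,6,10,13], 5, [([], 1022, [])], []⟩
def c1024 : Clm := ⟨12, 17, true, [3,9,7,5,10,9,14,1,8,10,13,6,13,1,8,10], [3,14,5,8,14,13,2,6,8,13], 11, [([], 425, [5,9,14,13,7,9,14,13,14]), ([108,104,116], 803, [5,14,13,14,5,13,7])], []⟩
def c1025 : Clm := ⟨17, 12, true, [3,14,5,8,14,13,2,6,8,13], [3,9,7,5,10,9,14,1,8,10,13,6,13,1,8,10], 5, [([], 1024, [])], []⟩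
def c1026 : Clm := ⟨11, 17, true, [9,14,13,10,9,14,5,13,14,1,8,13,6,13,6,8,3,14], [7,9,14,13,14,2,8,6,7], 11, [([], 326, [13,9,7,10,14,13,9,14,13]), ([108,116], 803, [5,13,3,14])], []⟩
def c1027 : Clm := ⟨17, 11, true, [7,9,14,13,14,2,8,6,7], [9,14,13,10,9,14,5,13,14,1,8,13,6,13,6,8,3,14], 5, [([], 1026, [])], []⟩
def c1028 : Clm := ⟨13, 17, true, [11,9,3,7,1,8,10,13,6,8,13,1,7], [3,9,12,14,13,2,8,6,7,10,8], 11, [([], 491, [7,10,14,13,9,14,13,10,14,13]), ([109,117,104,108], 803, [7,13,10,14])], []⟩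
def c1029 : Clm := ⟨17, 13, true, [3,9,12,14,13,2,8,6,7,10,8], [11,9,3,7,1,8,10,13,6,8,13,1,7], 5, [([], 1028, [])], []⟩
def c1030 : Clm := ⟨12, 17, true, [13,3,4,14,13,9,14,8,14,13,2,6,13,6,8,7], [14,13,8,6,13,3,6,5,8], 11, [([], 425, [14,13,10,4,14,13,14,5,13]), ([104,116,104], 803, [5,13,14,5,13,7,14,5])], []⟩
def c1031 : Clm := ⟨17, 12, true, [14,13,8,6,13,3,6,5,8], [13,3,4,14,13,9,14,8,14,13,2,6,13,6,8,7], 5, [([], 1030, [])], []⟩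
def c1032 : Clm := ⟨8, 17, true, [3,5,12,14,13,10,9,14,5,8,6,13,3,10,8,14,13,14,8], [3,9,12,14,12,2,8,6,13,6,10,8], 11, [([], 222, [9,13,14,13,7,10,14]), ([108,108,108], 803, [10,14,13,3,14])], []⟩
def c1033 : Clm := ⟨17, 8, true, [3,9,12,14,12,2,8,6,13,6,10,8], [3,5,12,14,13,10,9,14,5,8,6,13,3,10,8,14,13,14,8], 5, [([], 1032, [])], []⟩
def c1034 : Clm := ⟨17, 17, true, [3,7,13,9,7,14,5,2,8,10,14,13,8,10], [4,12,14,13,3,8,14,13,2,6,8], 11, [([], 817, [5,7,9,14,13,4,10]), ([108,104,106], 803, [3,13,9,14,13,14])], []⟩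
def c1035 : Clm := ⟨17, 17, true, [4,12,14,13,3,8,14,13,2,6,8], [3,7,13,9,7,14,5,2,8,10,14,13,8,10], 5, [([], 1034, [])], []⟩
def c1036 : Clm := ⟨11, 17, true, [3,5,9,12,14,13,10,14,2,8,6,13,6,8,10,13,7,14,8], [3,7,9,14,13,4,8,6,7,10,13,6,8], 11, [([], 913, [9,3,10,9,11,14]), ([1618,1588,1600,1588], 806, [13,9,11,14,13,10,14])], []⟩
def c1037 : Clm := ⟨17, 11, true, [3,7,9,14,13,4,8,6,7,10,13,6,8], [3,5,9,12,14,13,10,14,2,8,6,13,6,8,10,13,7,14,8], 5, [([], 1036, [])], []⟩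
def c1038 : Clm := ⟨17, 17, true, [14,5,7,12,8,14,5,13,14,13,14,8], [4,14,13,10,9,14,8,6,10,8,13,6,8,13,6,5], 9, [([], 806, [14,5,13,14,13,14,11]), ([1588], 882, [5,13,14,13,10,14,13,14])], []⟩
def c1039 : Clm := ⟨17, 17, true, [4,11,9,14,13,1,8,13,6,13,1,10,8], [4,7,9,14,8,14,13,2,6,13,6,8,7], 9, [([], 806, [3,14,5,13,14,13,14,11]), ([1600,1590,1589], 806, [4,14,5,13,14,13,9,14])], []⟩
def c1040 : Clm := ⟨17, 17, true, [5,7,12,14,13,8,6,5,13,14,8,10], [10,11,9,14,5,13,14,8,7,14], 11, [([], 1022, [4,5,13,14,13,10,4]), ([396,391,396,388,390], 807, [13,14])], []⟩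
def c1041 : Clm := ⟨17, 17, true, [10,11,9,14,5,13,14,8,7,14], [5,7,12,14,13,8,6,5,13,14,8,10], 5, [([], 1040, [])], []⟩
def c1042 : Clm := ⟨17, 17, true, [7,9,14,13,10,14,13,9,14,8,6,5,13,6,8,13,6,13,2,14], [3,7,10,9,14,5,7,8,6,7,13,6,10,8], 11, [([], 1022, [5,7,10,14,13,14]), ([390,390,390], 807, [10,14,13,14])], []⟩
def c1043 : Clm := ⟨17, 17, true, [3,7,10,9,14,5,7,8,6,7,13,6,10,8], [7,9,14,13,10,14,13,9,14,8,6,5,13,6,8,13,6,13,2,14], 5, [([], 1042, [])], []⟩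
def c1044 : Clm := ⟨8, 17, true, [5,9,3,10,12,14,8,6,10,13,8,14,5,13], [7,12,10,1,8,10,13,6,8,6,13,1], 9, [([], 807, [13,9,14,13,14]), ([1588,1600,1618,1590], 845, [5,7,14,13,9,14,13,14])], []⟩
def c1045 : Clm := ⟨17, 8, true, [7,12,10,1,8,10,13,6,8,6,13,1], [5,9,3,10,12,14,8,6,10,13,8,14,5,13], 5, [([], 1044, [])], []⟩
def c1046 : Clm := ⟨12, 17, true, [3,13,10,14,12,13,14,5,8,6,10,8,13,6,8,14], [3,10,9,14,5,11,8,6,10,13,3,6,8,13], 11, [([], 444, [5,9,14,13,4,10,14]), ([396,391], 807, [7,9,11,14,13,14,13,10])], []⟩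
def c1047 : Clm := ⟨17, 12, true, [3,10,9,14,5,11,8,6,10,13,3,6,8,13], [3,13,10,14,12,13,14,5,8,6,10,8,13,6,8,14], 5, [([], 1046, [])], []⟩
def c1048 : Clm := ⟨17, 13, true, [5,10,9,14,13,14,13,3,10,8,6,10,13,6,8,3], [5,9,3,14,13,10,14,8,6,13,10,8,6,13,8,14,8], 9, [([1588], 811, [3,5,9,14,13,3,10,14]), ([1588,1618,1588], 883, [4,5,12,14,13,14,13])], []⟩
def c1049 : Clm := ⟨13, 17, true, [5,9,3,14,13,10,14,8,6,13,10,8,6,13,8,14,8], [5,10,9,14,13,14,13,3,10,8,6,10,13,6,8,3], 5, [([], 1048, [])], []⟩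
def c1050 : Clm := ⟨13, 17, true, [3,9,14,13,10,9,14,5,13,14,5,8,6,8,13,6,8,13,6,5,11], [3,5,10,9,12,14,2,8,6,5], 11, [([], 620, [4,10,14,13,7,14,5]), ([988,974,966,988,966,988], 812, [7,14])], []⟩
def c1051 : Clm := ⟨17, 13, true, [3,5,10,9,12,14,2,8,6,5], [3,9,14,13,10,9,14,5,13,14,5,8,6,8,13,6,8,13,6,5,11], 5, [([], 1050, [])], []⟩
def c1052 : Clm := ⟨11, 17, true, [3,7,13,14,13,9,8,6,13,6,13,10,8,10], [14,13,7,10,9,14,2,8,6,7], 11, [([], 605, [4,9,13,7,10]), ([968,966], 812, [3,13,14])], []⟩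
def c1053 : Clm := ⟨17, 11, true, [14,13,7,10,9,14,2,8,6,7], [3,7,13,14,13,9,8,6,13,6,13,10,8,10], 5, [([], 1052, [])], []⟩
def c1054 : Clm := ⟨13, 17, true, [13,3,14,5,2,8,10,14,13,6,8,10,14,12], [9,13,14,13,9,14,5,7,8,6,13,14], 9, [([], 812, [5,11,14]), ([], 841, [5,14,12])], []⟩
def c1055 : Clm := ⟨17, 13, true, [9,13,14,13,9,14,5,7,8,6,13,14], [13,3,14,5,2,8,10,14,13,6,8,10,14,12], 5, [([], 1054, [])], []⟩
def c1056 : Clm := ⟨13, 17, true, [7,10,14,12,8,6,10,13,8,14,8,13,6,13], [3,10,9,14,13,14,12,10,8,10,14,8,13,6,8,6,13,14], 9, [([], 812, [11,14,13,14]), ([1618,1588,1618,1588], 882, [10,9,13,14,13,4,10])], []⟩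
def c1057 : Clm := ⟨17, 13, true, [3,10,9,14,13,14,12,10,8,10,14,8,13,6,8,6,13,14], [7,10,14,12,8,6,10,13,8,14,8,13,6,13], 5, [([], 1056, [])], []⟩
def c1058 : Clm := ⟨11, 17, true, [4,5,7,13,14,5,8,6,13,6,8,13,6,13,2,3], [3,10,11,9,7,14,2,8,14,13,14,8,3], 11, [([], 575, [5,13,14,13,7,10,14,5]), ([966,988,966], 812, [5,14,13,3,14])], []⟩
def c1059 : Clm := ⟨17, 11, true, [3,10,11,9,7,14,2,8,14,13,14,8,3], [4,5,7,13,14,5,8,6,13,6,8,13,6,13,2,3], 5, [([], 1058, [])], []⟩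
def c1060 : Clm := ⟨10, 17, true, [9,13,3,14,5,13,8,6,10,13,8,14,13,10,8,10,14], [10,9,14,2,8,14,13,14,8,3], 11, [([], 555, [3,5,12,13,14,13,10,14,13,14]), ([988,966,988,966,974], 812, [7,9,14,13,14])], []⟩
def c1061 : Clm := ⟨17, 10, true, [10,9,14,2,8,14,13,14,8,3], [9,13,3,14,5,13,8,6,10,13,8,14,13,10,8,10,14], 5, [([], 1060, [])], []⟩
def c1062 : Clm := ⟨11, 17, true, [5,7,9,3,10,14,13,8,6,13,6,13,8,6,13,14,8,3], [3,14,13,10,4,2,8,6,10,13,6,8,9], 11, [([], 575, [5,14,13,9,3,10,14,5]), ([988,966,988,968,966,988,966], 812, [5,10,9,13,14,13,14])], []⟩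
def c1063 : Clm := ⟨17, 11, true, [3,14,13,10,4,2,8,6,10,13,6,8,9], [5,7,9,3,10,14,13,8,6,13,6,13,8,6,13,14,8,3], 5, [([], 1062, [])], []⟩
def c1064 : Clm := ⟨13, 17, true, [7,9,13,7,14,13,8,6,13,14,5,13,8,14], [10,9,11,14,5,12,2,8,6,7], 11, [([], 562, [9,3,10,13,14]), ([802,800,808,798], 814, [3,5,14])], []⟩
def c1065 : Clm := ⟨17, 13, true, [10,9,11,14,5,12,2,8,6,7], [7,9,13,7,14,13,8,6,13,14,5,13,8,14], 5, [([], 1064, [])], []⟩
def c1066 : Clm := ⟨12, 17, true, [3,13,7,9,3,8,6,10,13,8,6,8,10,8,10], [3,13,9,10,14,5,8,6,13,6,13,8,3,6,13], 9, [([], 814, [3,10,14]), ([], 894, [5,10,9,7,14,5,12])], []⟩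
def c1067 : Clm := ⟨17, 12, true, [3,13,9,10,14,5,8,6,13,6,13,8,3,6,13], [3,13,7,9,3,8,6,10,13,8,6,8,10,8,10], 5, [([], 1066, [])], []⟩
def c1068 : Clm := ⟨15, 17, true, [9,10,13,9,7,14,2,8,6,10,13,8,6,13,8,14], [4,5,10,12,14,11,12,8,6,10,8], 11, [([], 719, [10,14,13,9,14,11,13]), ([798,808,800], 814, [4,5,9,10,14])], []⟩
def c1069 : Clm := ⟨17, 15, true, [4,5,10,12,14,11,12,8,6,10,8], [9,10,13,9,7,14,2,8,6,10,13,8,6,13,8,14], 5, [([], 1068, [])], []⟩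
def c1070 : Clm := ⟨17, 17, true, [7,9,13,3,7,8,6,5,11], [4,13,7,9,7,2,8,6,5], 11, [([], 817, [5,7,9,14,5,12]), ([116,116], 816, [5,7,14])], []⟩
def c1071 : Clm := ⟨17, 17, true, [5,14,5,11,9,8,6,13,6,8,10,8,14,13,7], [7,10,12,14,13,9,8,14,13,2,6,8], 11, [([], 879, [3,5,7,14,13,9,10,9]), ([968,966,988,966], 818, [5,13,3,14,13,14])], []⟩
def c1072 : Clm := ⟨9, 17, true, [3,10,12,14,13,9,14,13,1,8,13,6,10,13,1,8,10], [9,10,14,11,9,2,8,6,10,13,6,8], 11, [([], 528, [14,5,13,14,11,13,14,13]), ([988,966,974,966], 820, [5,9,7,14,13,10,14])], []⟩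
def c1073 : Clm := ⟨17, 9, true, [9,10,14,11,9,2,8,6,10,13,6,8], [3,10,12,14,13,9,14,13,1,8,13,6,10,13,1,8,10], 5, [([], 1072, [])], []⟩
def c1074 : Clm := ⟨15, 17, true, [11,12,13,14,5,1,8,13,6,13,6,8,13,7], [12,14,11,13,10,8,14,13,2,6,8], 11, [([], 711, [7,13,10,14,12,13,14,5]), ([810,820,802], 822, [9,3,13,14,13,14])], []⟩
def c1075 : Clm := ⟨17, 15, true, [12,14,11,13,10,8,14,13,2,6,8], [11,12,13,14,5,1,8,13,6,13,6,8,13,7], 5, [([], 1074, [])], []⟩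
def c1076 : Clm := ⟨16, 17, true, [3,14,13,10,9,14,8,6,13,6,8,6,13,14,5,13,1], [3,5,14,12,13,14,13,9,8,14,13,6,8,10,11,8], 9, [([], 824, [3]), ([1588], 1040, [14,13,3])], []⟩
def c1077 : Clm := ⟨17, 16, true, [3,5,14,12,13,14,13,9,8,14,13,6,8,10,11,8], [3,14,13,10,9,14,8,6,13,6,8,6,13,14,5,13,1], 5, [([], 1076, [])], []⟩
def c1078 : Clm := ⟨13, 17, true, [10,14,13,7,14,5,8,6,13,6,8,14,13,14,13,10], [13,10,12,14,13,9,8,14,13,2,6,8], 11, [([], 574, [3,9,10,14,13,14,13,9,11]), ([645,642,654,640], 826, [5,13,3,14,13,14])], []⟩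
def c1079 : Clm := ⟨17, 13, true, [13,10,12,14,13,9,8,14,13,2,6,8], [10,14,13,7,14,5,8,6,13,6,8,14,13,14,13,10], 5, [([], 1078, [])], []⟩
def c1080 : Clm := ⟨15, 17, true, [7,13,9,7,14,5,8,6,8,10,9,13,14,8,7], [13,9,3,14,5,1,8,10,13,8,6,8,13,1], 11, [([], 705, [3,12,13,10,14,13,9,14]), ([642,654,640], 826, [4,14,13,10,14,13,14])], []⟩
def c1081 : Clm := ⟨17, 15, true, [13,9,3,14,5,1,8,10,13,8,6,8,13,1], [7,13,9,7,14,5,8,6,8,10,9,13,14,8,7], 5, [([], 1080, [])], []⟩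
def c1082 : Clm := ⟨17, 17, true, [4,7,13,14,13,8,6,13,14,8,10,13,14,8], [3,9,13,10,14,11,9,13,8,6,5,10,8,14], 11, [([], 923, [3,5,10,9,14]), ([1600], 831, [14,13,10,9,14,5,12])], []⟩
def c1083 : Clm := ⟨17, 17, true, [9,13,14,13,7,9,14,13,1,8,13,6,10,8,11,9,7], [7,10,13,3,14,13,8,6,5,13,6,8], 11, [([], 1054, [3,13,14,13,10,14,13,9,10,14]), ([966,988,966,968,988], 832, [9,13,14,13,14])], []⟩
def c1084 : Clm := ⟨17, 17, true, [7,10,13,3,14,13,8,6,5,13,6,8], [9,13,14,13,7,9,14,13,1,8,13,6,10,8,11,9,7], 5, [([], 1083, [])], []⟩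
def c1085 : Clm := ⟨13, 17, true, [3,12,14,13,14,13,10,2,8,14,13,14,8,13,6,10,8,11], [10,11,13,14,13,8,6,7,10,13,6,8], 11, [([], 578, [4,9,14,13,10,4,14,5]), ([988,966,974,966], 832, [5,13,14,13,10,14])], []⟩
def c1086 : Clm := ⟨17, 13, true, [10,11,13,14,13,8,6,7,10,13,6,8], [3,12,14,13,14,13,10,2,8,14,13,14,8,13,6,10,8,11], 5, [([], 1085, [])], []⟩
def c1087 : Clm := ⟨8, 17, true, [9,13,14,13,9,14,13,10,9,8,6,13,6,8,3,13,10,14], [5,11,14,13,14,13,1,8,10,13,6,8,13,14,13,1,7], 9, [([], 834, [14,13,7,9,14,13,14]), ([1618,1589], 1040, [3,9,13,10,14,13,9,3,14])], []⟩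
def c1088 : Clm := ⟨17, 8, true, [5,11,14,13,14,13,1,8,10,13,6,8,13,14,13,1,7], [9,13,14,13,9,14,13,10,9,8,6,13,6,8,3,13,10,14], 5, [([], 1087, [])], []⟩
def c1089 : Clm := ⟨10, 17, true, [10,14,12,13,14,5,13,8,10,14,13,6,8,14,12,13,6], [4,9,10,12,14,13,9,8,14,13,2,6,8], 11, [([], 312, [3,9,14,13,14,12,10,13,14,5]), ([391,396,390,397,388], 836, [5,13,3,14,13,14])], []⟩
def c1090 : Clm := ⟨17, 10, true, [4,9,10,12,14,13,9,8,14,13,2,6,8], [10,14,12,13,14,5,13,8,10,14,13,6,8,14,12,13,6], 5, [([], 1089, [])], []⟩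
def c1091 : Clm := ⟨10, 17, true, [4,5,11,13,14,13,9,8,6,10,9,13,6,8,6,13,3], [13,14,5,12,10,4,14,8,14,13,2,6,8], 11, [([], 427, [4,13,10,14,13,4,14,5]), ([802,800,810,798], 838, [3,9,14,13,14])], []⟩
def c1092 : Clm := ⟨17, 10, true, [13,14,5,12,10,4,14,8,14,13,2,6,8], [4,5,11,13,14,13,9,8,6,10,9,13,6,8,6,13,3], 5, [([], 1091, [])], []⟩
def c1093 : Clm := ⟨17, 10, true, [4,5,13,14,5,13,2,8,6,13,6,8,10,14,8], [13,10,14,11,13,14,8,6,13,6,8,6,10,8,14,8], 9, [([], 840, [5,9,10,14]), ([1600,1588,1600,1588], 1013, [13,3,14,13,9,14,13,3,14])], []⟩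
def c1094 : Clm := ⟨10, 17, true, [13,10,14,11,13,14,8,6,13,6,8,6,10,8,14,8], [4,5,13,14,5,13,2,8,6,13,6,8,10,14,8], 5, [([], 1093, [])], []⟩
def c1095 : Clm := ⟨17, 13, true, [4,13,3,9,8,6,13,6,10,8,3], [3,10,13,4,14,5,12,8,6,13,10,8,6,13,8,6,8], 9, [([], 844, [13,14,13,9,10,14]), ([1618,1590,1600], 892, [14,13,3,9,14,13,3,10])], []⟩
def c1096 : Clm := ⟨13, 17, true, [3,10,13,4,14,5,12,8,6,13,10,8,6,13,8,6,8], [4,13,3,9,8,6,13,6,10,8,3], 5, [([], 1095, [])], []⟩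
def c1097 : Clm := ⟨17, 11, true, [5,9,12,14,11,13,1,8,10,13,6,7,8], [4,7,10,13,3,14,5,8,14,13,6,10,8,6,11], 9, [([], 852, [5,10,11,14,13,14]), ([1600,1618], 902, [3,10,13,9,14,13,7,14,5])], []⟩
def c1098 : Clm := ⟨11, 17, true, [4,7,10,13,3,14,5,8,14,13,6,10,8,6,11], [5,9,12,14,11,13,1,8,10,13,6,7,8], 5, [([], 1097, [])], []⟩
def c1099 : Clm := ⟨17, 10, true, [5,9,3,11,14,13,10,8,14,13,6,13,8,14,13,7,14], [7,14,13,14,5,13,14,8,6,13,10,8,14,8,10], 9, [([], 888, [14,13,14]), ([966,988,966,968,988,966], 610, [3,12,14,13,4,14,5])], []⟩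
def c1100 : Clm := ⟨10, 17, true, [7,14,13,14,5,13,14,8,6,13,10,8,14,8,10], [5,9,3,11,14,13,10,8,14,13,6,13,8,14,13,7,14], 5, [([], 1099, [])], []⟩
def c1101 : Clm := ⟨17, 10, true, [3,4,5,12,2,8,6,10,8,13,6,8,10,9,14], [5,10,9,14,13,7,14,13,8,6,13,6,8,10,9,14,13,6], 11, [([], 1041, [3,9,13,4,14,5]), ([1600,1618,1589], 914, [9,10,13,14])], []⟩
def c1102 : Clm := ⟨10, 17, true, [5,10,9,14,13,7,14,13,8,6,13,6,8,10,9,14,13,6], [3,4,5,12,2,8,6,10,8,13,6,8,10,9,14], 5, [([], 1101, [])], []⟩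
def c1103 : Clm := ⟨5, 18, true, [10,8,14,3,13,6,8], [], 1, [], []⟩
def c1104 : Clm := ⟨18, 5, true, [], [3,10,2,8,14,13,6,8], 5, [([], 1103, [])], []⟩
def c1105 : Clm := ⟨18, 18, false, [], [4,5,11,14,13,9,14,13,10,14], 3, [([], 1103, []), ([109,105,109,117,109,109], 1103, [4,5,11,14,13,9,14,13,10,14])], []⟩
def c1106 : Clm := ⟨18, 18, false, [], [10,14,13,14,5,13,14], 3, [([], 1103, []), ([107,108,108,117,109,106], 1103, [10,14,13,14,5,13,14])], []⟩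
def c1107 : Clm := ⟨18, 17, true, [8], [14,13,4,14,13,14,2,8,6,13,6,8,13,6,13,10,14], 9, [([], 1103, []), ([116,116,108,108], 1016, [5,14,13,10,12,14,13,14,5])], []⟩
def c1108 : Clm := ⟨17, 18, true, [14,13,4,14,13,14,2,8,6,13,6,8,13,6,13,10,14], [8], 5, [([], 1107, [])], []⟩
def c1109 : Clm := ⟨18, 17, true, [3,8], [3,11,14,13,8,6,10,13,8,6,11,13,1,8], 9, [([], 1103, [3]), ([106,104,117], 862, [10,4,13,14,5,13,3,14,5])], []⟩
def c1110 : Clm := ⟨17, 18, true, [3,11,14,13,8,6,10,13,8,6,11,13,1,8], [3,8], 5, [([], 1109, [])], []⟩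
def c1111 : Clm := ⟨18, 18, false, [3,8], [5,9,13,7,14,8,7,14,13], 3, [([], 1110, []), ([1601,1589,1591,1600,1588], 1110, [4,5,13,14,13,9])], []⟩
def c1112 : Clm := ⟨18, 5, true, [7,8], [13,3,14,5,13,4,14,13,14,1,8,10,13,6,13,6,8,7], 9, [([], 1103, [7]), ([116], 89, [4,12,14,13,7,14,5])], []⟩
def c1113 : Clm := ⟨5, 18, true, [13,3,14,5,13,4,14,13,14,1,8,10,13,6,13,6,8,7], [7,8], 5, [([], 1112, [])], []⟩
def c1114 : Clm := ⟨18, 17, true, [10,8], [5,12,13,3,14,13,9,8,6,5,13,6,8,7], 9, [([], 1103, [10]), ([116,108,104,109], 816, [3,4,13,14,13,14])], []⟩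
def c1115 : Clm := ⟨17, 18, true, [5,12,13,3,14,13,9,8,6,5,13,6,8,7], [10,8], 5, [([], 1114, [])], []⟩
def c1116 : Clm := ⟨18, 18, false, [10,8], [4,13,10,8,6,13,6,8,10,13,4], 3, [([], 1115, []), ([1591,1619,1589,1619,1590,1600], 1115, [13,14,5,11,13,14,13])], []⟩
def c1117 : Clm := ⟨18, 6, true, [3,7,8], [10,9,7,9,11,2,8,6,13,10,14,8,7], 9, [([], 1103, [3,7]), ([116,104,108], 164, [3,10,9,13,14,5,13])], []⟩
def c1118 : Clm := ⟨6, 18, true, [10,9,7,9,11,2,8,6,13,10,14,8,7], [3,7,8], 5, [([], 1117, [])], []⟩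
def c1119 : Clm := ⟨18, 17, true, [3,10,8], [3,11,9,7,14,5,8,6,7,10,8,7], 9, [([], 1103, [3,10]), ([116,108,108,104], 803, [7,10,14,12])], []⟩
def c1120 : Clm := ⟨17, 18, true, [3,11,9,7,14,5,8,6,7,10,8,7], [3,10,8], 5, [([], 1119, [])], []⟩
def c1121 : Clm := ⟨18, 6, true, [3,14,8], [4,7,10,13,9,7,2,8,14,13,6,8,3,14], 9, [([], 1103, [3,14]), ([104,106,104], 126, [4,5,9,14,13,14,12])], []⟩
def c1122 : Clm := ⟨6, 18, true, [4,7,10,13,9,7,2,8,14,13,6,8,3,14], [3,14,8], 5, [([], 1121, [])], []⟩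
def c1123 : Clm := ⟨18, 17, true, [7,14,8], [7,9,13,14,13,8,6,10,8,9,13,7], 9, [([], 1103, [7,14]), ([106,104,117,108], 816, [7,5,13,14,13,9,10,9])], []⟩
def c1124 : Clm := ⟨17, 18, true, [7,9,13,14,13,8,6,10,8,9,13,7], [7,14,8], 5, [([], 1123, [])], []⟩
def c1125 : Clm := ⟨18, 13, true, [10,14,8], [3,7,5,12,8,6,5,13,6,13,10,8,7], 9, [([], 1103, [10,14]), ([108,116,116,108,108], 490, [5,14,13,7,10,14,13])], []⟩
def c1126 : Clm := ⟨13, 18, true, [3,7,5,12,8,6,5,13,6,13,10,8,7], [10,14,8], 5, [([], 1125, [])], []⟩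
def c1127 : Clm := ⟨18, 18, true, [13,14,8], [13,14,5,13,14,13,4,10,2,8,7], 9, [([], 1103, [13,14]), ([108,116,106], 1104, [4,13,14,5,13,14,12,13,10])], []⟩
def c1128 : Clm := ⟨18, 17, true, [3,7,10,8], [4,9,10,9,14,12,2,8,6,13,10,8,14,8,13,3], 9, [([], 1103, [3,7,10]), ([116,108,108,104], 1016, [3,7,12])], []⟩
def c1129 : Clm := ⟨17, 18, true, [4,9,10,9,14,12,2,8,6,13,10,8,14,8,13,3], [3,7,10,8], 5, [([], 1128, [])], []⟩
def c1130 : Clm := ⟨18, 10, true, [5,10,14,8], [3,4,7,14,5,13,8,6,13,6,10,8,7,14,13], 9, [([], 1103, [5,10,14]), ([104,109,104,117], 295, [4,5,14,13,9,14,5,12,10])], []⟩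
def c1131 : Clm := ⟨10, 18, true, [3,4,7,14,5,13,8,6,13,6,10,8,7,14,13], [5,10,14,8], 5, [([], 1130, [])], []⟩
def c1132 : Clm := ⟨18, 9, true, [5,13,14,8], [9,10,14,5,11,14,8,10,14,13,6,8,6,8,13,1], 9, [([], 1103, [5,13,14]), ([117,108], 256, [14,13,14,12,13,14])], []⟩
def c1133 : Clm := ⟨9, 18, true, [9,10,14,5,11,14,8,10,14,13,6,8,6,8,13,1], [5,13,14,8], 5, [([], 1132, [])], []⟩
def c1134 : Clm := ⟨18, 13, true, [7,10,14,8], [4,5,7,9,14,13,8,6,13,6,8,13,7], 9, [([], 1103, [7,10,14]), ([109,117,108,108,104], 512, [4,5,13,14,13,14,13,3,9])], []⟩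
def c1135 : Clm := ⟨13, 18, true, [4,5,7,9,14,13,8,6,13,6,8,13,7], [7,10,14,8], 5, [([], 1134, [])], []⟩
def c1136 : Clm := ⟨18, 17, true, [13,3,14,8], [9,3,14,13,8,6,13,6,13,8,9,7], 9, [([], 1103, [13,3,14]), ([104,116,116,104], 798, [3,13,14,13,14,13,4])], []⟩
def c1137 : Clm := ⟨17, 18, true, [9,3,14,13,8,6,13,6,13,8,9,7], [13,3,14,8], 5, [([], 1136, [])], []⟩
def c1138 : Clm := ⟨18, 11, true, [13,10,14,8], [5,9,13,14,5,12,2,8,6,10,13,6,5,8,7], 9, [([], 1103, [13,10,14]), ([106], 336, [5,14,13,10,12,14,5])], []⟩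
def c1139 : Clm := ⟨11, 18, true, [5,9,13,14,5,12,2,8,6,10,13,6,5,8,7], [13,10,14,8], 5, [([], 1138, [])], []⟩
def c1140 : Clm := ⟨18, 18, true, [3,5,13,14,8], [3,4,5,13,14,12,8,14], 9, [([], 1103, [3,5,13,14]), ([116], 1112, [3,11,9,13,14,12])], []⟩
def c1141 : Clm := ⟨18, 17, true, [5,11,13,14,8], [5,12,13,14,13,9,11,14,13,8,6,10,13,6,8,9,10], 9, [([], 1103, [5,11,13,14]), ([104,108,116,109], 1016, [13,14,13,10,14,11,13])], []⟩
def c1142 : Clm := ⟨17, 18, true, [5,12,13,14,13,9,11,14,13,8,6,10,13,6,8,9,10], [5,11,13,14,8], 5, [([], 1141, [])], []⟩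
def c1143 : Clm := ⟨18, 12, true, [10,11,13,14,8], [3,12,13,14,13,9,14,5,8,6,7,13,6,5,10,8,7], 9, [([], 1103, [10,11,13,14]), ([116,116,108], 424, [9,3,12,10,14,13,14,5])], []⟩
def c1144 : Clm := ⟨12, 18, true, [3,12,13,14,13,9,14,5,8,6,7,13,6,5,10,8,7], [10,11,13,14,8], 5, [([], 1143, [])], []⟩
def c1145 : Clm := ⟨18, 12, true, [10,13,3,14,8], [3,13,4,14,5,13,8,6,10,9,13,6,8,7], 9, [([], 1103, [10,13,3,14]), ([117,108,116], 417, [4,13,10,14,13,7,9,14])], []⟩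
def c1146 : Clm := ⟨12, 18, true, [3,13,4,14,5,13,8,6,10,9,13,6,8,7], [10,13,3,14,8], 5, [([], 1145, [])], []⟩
def c1147 : Clm := ⟨6, 18, true, [3,5,10,12,14,12,2,8,6,10,13,8,10,14,13,1,8], [12,2], 11, [([], 887, [10,13,9,14,11,13,14,13]), ([1588,1600], 1107, [7])], []⟩
def c1148 : Clm := ⟨18, 6, true, [12,2], [3,5,10,12,14,12,2,8,6,10,13,8,10,14,13,1,8], 5, [([], 1147, [])], []⟩
def c1149 : Clm := ⟨18, 18, true, [3,4,5,14,5,12,8,6,7], [4,5,14,11,2,8,6,7], 11, [([], 1108, [7,9,14,5,11]), ([1618,1590], 1107, [3,4,11,14,12])], []⟩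
def c1150 : Clm := ⟨13, 18, true, [5,14,12,13,14,5,13,14,5,8,14,13,14,13,8,10,14,13,1], [3,4,8,6,10,8], 11, [([], 818, [10,9,12,14,13,10,14]), ([1588,1618,1589], 1107, [4,11,14,12,10])], []⟩
def c1151 : Clm := ⟨18, 13, true, [3,4,8,6,10,8], [5,14,12,13,14,5,13,14,5,8,14,13,14,13,8,10,14,13,1], 5, [([], 1150, [])], []⟩
def c1152 : Clm := ⟨16, 18, true, [4,5,14,13,9,10,14,13,9,8,6,13,10,8,14,13,8,6,10], [5,13,14,11,9,2,8,6,7], 11, [([], 1077, [3,14,5,12]), ([1588,1600,1589], 1107, [3,13,14])], []⟩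
def c1153 : Clm := ⟨18, 16, true, [5,13,14,11,9,2,8,6,7], [4,5,14,13,9,10,14,13,9,8,6,13,10,8,14,13,8,6,10], 5, [([], 1152, [])], []⟩
def c1154 : Clm := ⟨17, 18, true, [4,10,11,14,8,6,10,13,6,8,6,13,1,3], [3,13,7,9,7,8,6,10,8], 11, [([], 877, [4,9,13,10,14,13,3,14]), ([1600,1618,1588], 1107, [10,13,14])], []⟩
def c1155 : Clm := ⟨18, 17, true, [3,13,7,9,7,8,6,10,8], [4,10,11,14,8,6,10,13,6,8,6,13,1,3], 5, [([], 1154, [])], []⟩
def c1156 : Clm := ⟨9, 18, true, [9,13,7,14,5,13,14,5,2,8,14,13,14,8,13,10,14,5,11], [11,13,14,11,9,2,8,6,7], 11, [([], 976, [10,13,14,13,14,5,11,12]), ([1590,1600,1589], 1107, [13,3,14])], []⟩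
def c1157 : Clm := ⟨18, 9, true, [11,13,14,11,9,2,8,6,7], [9,13,7,14,5,13,14,5,2,8,14,13,14,8,13,10,14,5,11], 5, [([], 1156, [])], []⟩
def c1158 : Clm := ⟨13, 18, true, [7,14,5,13,14,11,13,14,8,6,13,6,13,8,6,13,3,14], [3,7,5,9,7,8,6,5,13,6,8], 11, [([], 818, [10,9,13,14,12,13,14,13]), ([1618,1600], 1107, [14,13,14])], []⟩
def c1159 : Clm := ⟨18, 13, true, [3,7,5,9,7,8,6,5,13,6,8], [7,14,5,13,14,11,13,14,8,6,13,6,13,8,6,13,3,14], 5, [([], 1158, [])], []⟩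
def c1160 : Clm := ⟨18, 18, true, [9,7,9,13,14,8,6,7], [13,14,11,9,2,8,6,7], 11, [([], 1142, [3,4,5,12,14,5]), ([1588,1600,1589], 1107, [3,5,13,14])], []⟩
def c1161 : Clm := ⟨13, 18, true, [4,9,13,14,13,14,11,9,13,8,14,13,6,8,10,9,12], [4,12,8,14,13,2,6,8], 11, [([], 1065, [3,9,14,13,7,14,13,10]), ([1590,1600], 1107, [3,11,14,13,4,14])], []⟩
def c1162 : Clm := ⟨18, 13, true, [4,12,8,14,13,2,6,8], [4,9,13,14,13,14,11,9,13,8,14,13,6,8,10,9,12], 5, [([], 1161, [])], []⟩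
def c1163 : Clm := ⟨18, 18, true, [9,14,13,10,14,13,9,14,13,7,1,8,13,6,13,6,8,3,14], [4,5,11,13,2,8,6,7,10,8], 11, [([], 1120, [3,5,10,9,14,13,14,12,10,13]), ([1600,1618,1589,1600], 1107, [3,13,4,10,14,12])], []⟩
def c1164 : Clm := ⟨13, 18, true, [13,14,11,13,14,13,10,8,6,13,6,8,7,10,13,6,8], [4,7,11,9,7,8,14,13,2,6,8], 11, [([], 1051, [3,4,13,9,14,13,10,14,5,12]), ([1589], 1107, [3,5,14,13,14])], []⟩
def c1165 : Clm := ⟨18, 13, true, [4,7,11,9,7,8,14,13,2,6,8], [13,14,11,13,14,13,10,8,6,13,6,8,7,10,13,6,8], 5, [([], 1164, [])], []⟩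
def c1166 : Clm := ⟨13, 18, true, [13,9,11,14,5,13,2,8,14,13,6,8,13,6,10,9,13], [3,4,5,8,6,7,13,6,10,8], 11, [([], 820, [13,14,13,4,10,9,14]), ([1588,1618,1588], 1107, [3,5,10,14,13,4,14,12])], []⟩
def c1167 : Clm := ⟨18, 13, true, [3,4,5,8,6,7,13,6,10,8], [13,9,11,14,5,13,2,8,14,13,6,8,13,6,10,9,13], 5, [([], 1166, [])], []⟩
def c1168 : Clm := ⟨15, 18, true, [5,14,11,13,14,13,9,7,8,6,10,13,8,9,7,14,5], [3,7,11,9,7,2,8,14,13,14,8,3], 11, [([], 1069, [13,3,4,14,13,10,14,5]), ([1589,1618,1589], 1107, [5,14,13,3,14])], []⟩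
def c1169 : Clm := ⟨18, 15, true, [3,7,11,9,7,2,8,14,13,14,8,3], [5,14,11,13,14,13,9,7,8,6,10,13,8,9,7,14,5], 5, [([], 1168, [])], []⟩
def c1170 : Clm := ⟨15, 18, true, [11,13,14,13,4,14,5,8,6,8,13,14,13,8,10,9], [3,9,2,8,14,13,14,8,3], 11, [([], 1075, [10,4,9,13,7,9]), ([1589], 1107, [7,9,14,13,14])], []⟩
def c1171 : Clm := ⟨18, 15, true, [3,9,2,8,14,13,14,8,3], [11,13,14,13,4,14,5,8,6,8,13,14,13,8,10,9], 5, [([], 1170, [])], []⟩
def c1172 : Clm := ⟨12, 18, true, [14,12,13,14,5,13,14,13,4,8,6,10,13,8,6,13,4], [3,12,14,12,14,8,6,5,13,6,8], 11, [([], 822, [3,9,14,13,3,14,13,14]), ([1600,1618,1588], 1107, [9,11,14,13,14])], []⟩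
def c1173 : Clm := ⟨18, 12, true, [3,12,14,12,14,8,6,5,13,6,8], [14,12,13,14,5,13,14,13,4,8,6,10,13,8,6,13,4], 5, [([], 1172, [])], []⟩
def c1174 : Clm := ⟨11, 18, true, [3,5,12,8,6,13,14,5,13,8,6,13,1], [3,12,13,8,6,7,13,6,10,8], 11, [([], 903, [5,14,5,13,7,14,13,9,14]), ([1600,1618,1600], 1107, [9,13,14,13,9,10,14])], []⟩
def c1175 : Clm := ⟨18, 11, true, [3,12,13,8,6,7,13,6,10,8], [3,5,12,8,6,13,14,5,13,8,6,13,1], 5, [([], 1174, [])], []⟩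
def c1176 : Clm := ⟨18, 18, true, [5,14,12,14,13,8,6,13,14,8,7,13,1,3], [7,5,9,7,9,2,8,6,10,13,6,8], 11, [([], 1108, [9,14,13,3,10,9,14,5]), ([1600,1588,1618], 1107, [7,9,14,13,10,14])], []⟩
def c1177 : Clm := ⟨8, 18, true, [3,9,7,5,10,9,14,5,2,8,10,14,13,8], [7,5,9,3,7,1,8,13,6,10,8,13,1], 11, [([], 995, [4,13,14,13,10,12]), ([1600,1618,1590,1588], 1107, [14,13,9,14,13,14])], []⟩
def c1178 : Clm := ⟨18, 8, true, [7,5,9,3,7,1,8,13,6,10,8,13,1], [3,9,7,5,10,9,14,5,2,8,10,14,13,8], 5, [([], 1177, [])], []⟩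
def c1179 : Clm := ⟨11, 18, true, [13,14,13,4,14,5,8,6,10,13,6,8,6,11], [5,10,9,1,8,10,13,8,6,8,13,1], 11, [([], 987, [5,13,3,14,5,12,10]), ([1618,1600,1589], 1107, [14,13,10,14,13,14])], []⟩
def c1180 : Clm := ⟨18, 11, true, [5,10,9,1,8,10,13,8,6,8,13,1], [13,14,13,4,14,5,8,6,10,13,6,8,6,11], 5, [([], 1179, [])], []⟩
def c1181 : Clm := ⟨12, 18, true, [9,13,14,13,14,5,13,7,14,8,6,8,10,8,13,14,8,13,10], [3,13,8,6,10,13,3,6,8], 11, [([], 1067, [4,7,14,13,9,10,14,5]), ([1618,1590], 1107, [3,5,13,14,13,10,14])], []⟩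
def c1182 : Clm := ⟨18, 12, true, [3,13,8,6,10,13,3,6,8], [9,13,14,13,14,5,13,7,14,8,6,8,10,8,13,14,8,13,10], 5, [([], 1181, [])], []⟩
def c1183 : Clm := ⟨8, 18, true, [10,13,2,8,14,13,10,8,6,8,10,13], [3,4,13,14,12,14,8,6,13,3,6,10,8], 11, [([], 951, [13,14,13,3,10,14,13,9]), ([1588,1618,1589], 1107, [3,9,13,10,14,13,14])], []⟩
def c1184 : Clm := ⟨18, 8, true, [3,4,13,14,12,14,8,6,13,3,6,10,8], [10,13,2,8,14,13,10,8,6,8,10,13], 5, [([], 1183, [])], []⟩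
def c1185 : Clm := ⟨11, 18, true, [9,10,13,9,14,13,14,5,8,6,13,6,13,8,6,8,11], [11,9,1,8,10,13,6,8,13,1], 11, [([], 891, [5,10,9,13,14,13,3]), ([1590,1600,1618], 1107, [3,14,5,13,14,13,14])], []⟩
def c1186 : Clm := ⟨18, 11, true, [11,9,1,8,10,13,6,8,13,1], [9,10,13,9,14,13,14,5,8,6,13,6,13,8,6,8,11], 5, [([], 1185, [])], []⟩
def c1187 : Clm := ⟨12, 18, true, [4,5,14,13,9,14,12,13,14,8,6,10,8,13,6,9], [5,11,9,3,1,8,13,6,10,8,13,1], 11, [([], 822, [5,13,9,14,5,13,14]), ([1600,1618,1590], 1107, [4,14,5,13,14,13,14])], []⟩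
def c1188 : Clm := ⟨18, 12, true, [5,11,9,3,1,8,13,6,10,8,13,1], [4,5,14,13,9,14,12,13,14,8,6,10,8,13,6,9], 5, [([], 1187, [])], []⟩
def c1189 : Clm := ⟨11, 18, true, [4,10,11,14,12,8,6,13,6,8,6,13,6,13,9], [5,9,10,9,1,8,10,13,8,6,8,13,1], 11, [([], 903, [10,13,14,13,9,14,13,10,4]), ([1618,1589,1600], 1107, [9,14,13,10,14,13,14])], []⟩
def c1190 : Clm := ⟨18, 11, true, [5,9,10,9,1,8,10,13,8,6,8,13,1], [4,10,11,14,12,8,6,13,6,8,6,13,6,13,9], 5, [([], 1189, [])], []⟩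
def c1191 : Clm := ⟨10, 18, true, [4,5,14,11,13,14,13,9,14,8,14,13,6,10,8,7,10], [3,2,8,6,10,8], 11, [([], 1014, [3,5,14,13,9,10]), ([1589,1600,1588], 1109, [7,10,14,12])], []⟩
def c1192 : Clm := ⟨18, 10, true, [3,2,8,6,10,8], [4,5,14,11,13,14,13,9,14,8,14,13,6,10,8,7,10], 5, [([], 1191, [])], []⟩
def c1193 : Clm := ⟨17, 18, true, [12,13,14,5,12,8,6,13,14,8,13,9,7], [5,13,7,9,14,2,8,6,7], 11, [([1589], 989, [3,5,11,14,13,14,13,9]), ([1600,1589], 1109, [3,13,14])], []⟩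
def c1194 : Clm := ⟨18, 17, true, [5,13,7,9,14,2,8,6,7], [12,13,14,5,12,8,6,13,14,8,13,9,7], 5, [([], 1193, [])], []⟩
def c1195 : Clm := ⟨18, 18, true, [3,5,13,4,14,13,8,14,13,2,6,13,10,8,7], [5,7,9,13,14,2,8,6,7], 11, [([], 1193, [10,4,14,13,9,14,13,14,12]), ([1588,1600], 1109, [13,3,14])], []⟩
def c1196 : Clm := ⟨13, 18, true, [3,9,7,14,13,9,14,8,6,5,13,6,8,13,14,13,1,8], [7,9,3,7,11,2,8,6,7,10,8], 11, [([], 997, [4,10,14,11,13,14,5,13,14]), ([1618,1589], 1109, [5,7,10,14])], []⟩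
def c1197 : Clm := ⟨18, 13, true, [7,9,3,7,11,2,8,6,7,10,8], [3,9,7,14,13,9,14,8,6,5,13,6,8,13,14,13,1,8], 5, [([], 1196, [])], []⟩
def c1198 : Clm := ⟨18, 18, true, [5,13,9,14,13,3,10,8,6,13,14,8,13,6,7,13,1], [13,9,11,8,6,5,10,8], 11, [([], 1154, [4,5,13,14,12,13,14,5,13]), ([1618,1588], 1109, [7,13,9,3,10,14,5])], []⟩
def c1199 : Clm := ⟨17, 18, true, [3,13,14,13,9,3,14,5,8,14,13,14,8,13,7,14,13,1,9], [9,13,14,12,14,8,6,5,13,6,8], 11, [([], 1084, [13,7,9,14,13,14,5]), ([1589,1618], 1109, [4,13,14,13,14])], []⟩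
def c1200 : Clm := ⟨18, 17, true, [9,13,14,12,14,8,6,5,13,6,8], [3,13,14,13,9,3,14,5,8,14,13,14,8,13,7,14,13,1,9], 5, [([], 1199, [])], []⟩
def c1201 : Clm := ⟨12, 18, true, [11,13,14,13,4,14,8,14,13,10,8,6], [7,11,9,7,2,8,14,13,14,8,3], 11, [([], 901, [3,9,7,13,14]), ([1618], 1109, [5,14,13,3,14])], []⟩
def c1202 : Clm := ⟨18, 12, true, [7,11,9,7,2,8,14,13,14,8,3], [11,13,14,13,4,14,8,14,13,10,8,6], 5, [([], 1201, [])], []⟩
def c1203 : Clm := ⟨15, 18, true, [3,5,7,9,12,10,8,14,13,6,8,13,7,10,14,13], [7,9,7,8,6,7,13,6,10,8], 11, [([], 1069, [7,14,13,14,13,9,10,9]), ([], 1109, [10,11,14,13,14])], []⟩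
def c1204 : Clm := ⟨18, 15, true, [7,9,7,8,6,7,13,6,10,8], [3,5,7,9,12,10,8,14,13,6,8,13,7,10,14,13], 5, [([], 1203, [])], []⟩
def c1205 : Clm := ⟨8, 19, true, [8,6,13,6,13,8,1], [], 1, [], []⟩
def c1206 : Clm := ⟨19, 8, true, [], [8,6,13,6,13,1,8], 5, [([], 1205, [])], []⟩
def c1207 : Clm := ⟨19, 19, false, [], [9,10,14,13,14,13,9,11,14], 3, [([], 1205, []), ([397,390], 1205, [9,10,14,13,14,13,9,11,14])], []⟩
def c1208 : Clm := ⟨19, 19, false, [], [14,5,11,14], 3, [([], 1205, []), ([389,397], 1205, [14,5,11,14])], []⟩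
def c1209 : Clm := ⟨19, 19, false, [], [7,14,13,9,14,11,13,10,14], 3, [([], 1205, []), ([391,391,389,391], 1205, [7,14,13,9,14,11,13,10,14])], []⟩
def c1210 : Clm := ⟨19, 11, true, [8], [5,9,3,14,13,14,13,7,8,6,10,13,8,3,14,8,13,14,8], 9, [([], 1205, []), ([390,397], 376, [5,9,10,14,13,14,5,11,12])], []⟩
def c1211 : Clm := ⟨11, 19, true, [5,9,3,14,13,14,13,7,8,6,10,13,8,3,14,8,13,14,8], [8], 5, [([], 1210, [])], []⟩
def c1212 : Clm := ⟨19, 19, false, [8], [4,7,12,8,7], 3, [([], 1211, []), ([641], 1211, [4,7,12])], []⟩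
def c1213 : Clm := ⟨19, 19, true, [3,14,8], [3,11,9,7,14,5,2,8,7], 9, [([], 1205, [3,14]), ([397,388], 1206, [3,9,7,12,14,5])], []⟩
def c1214 : Clm := ⟨19, 19, true, [3,11,9,7,14,5,2,8,7], [3,14,8], 5, [([], 1213, [])], []⟩
def c1215 : Clm := ⟨19, 12, true, [11,14,8], [5,10,14,13,3,14,5,13,4,14,8,14,13,6,8,13,10,14,13,8], 9, [([], 1205, [11,14]), ([390,388,390,390], 478, [13,10,14,13,14,13])], []⟩
def c1216 : Clm := ⟨12, 19, true, [5,10,14,13,3,14,5,13,4,14,8,14,13,6,8,13,10,14,13,8], [11,14,8], 5, [([], 1215, [])], []⟩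
def c1217 : Clm := ⟨15, 19, true, [3,4,8,10,14,8,13,9,7], [3,7,5,9,7,8,6,7,13,6,10,8], 11, [([], 705, [10,9,14,13,7,5]), ([654,642], 1210, [10,14,13,14])], []⟩
def c1218 : Clm := ⟨19, 15, true, [3,7,5,9,7,8,6,7,13,6,10,8], [3,4,8,10,14,8,13,9,7], 5, [([], 1217, [])], []⟩
def c1219 : Clm := ⟨15, 19, true, [3,7,9,7,13,1,8,13,6,5,13,6,5,8,7], [3,4,13,14,12,14,8,14,13,14,5,8,13,1], 11, [([], 705, [3,12,10,14,13,14,13,9]), ([644,642], 1210, [3,14,12,13,10,14,13])], []⟩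
def c1220 : Clm := ⟨19, 15, true, [3,4,13,14,12,14,8,14,13,14,5,8,13,1], [3,7,9,7,13,1,8,13,6,5,13,6,5,8,7], 5, [([], 1219, [])], []⟩
def c1221 : Clm := ⟨19, 19, true, [4,9,12,14,8,6,10,13,6,8,3], [12,14,5,13,3,2,8,6,10,8,11,9,7], 9, [([], 1214, [14,13,10,12,14]), ([2424,2419,2424,2416,2424,2415], 1214, [9,10,9,13,14,5,11])], []⟩
def c1222 : Clm := ⟨1, 0, true, [2], [], 4, [([], 12, [])], [26]⟩

noncomputable def cl0 (y : ℕ) : Clm := (selA 8 y (selA 4 y (selA 2 y (selA 1 y c0 c1) (selA 3 y c2 c3)) (selA 6 y (selA 5 y c4 c5) (selA 7 y c6 c7))) (selA 12 y (selA 10 y (selA 9 y c8 c9) (selA 11 y c10 c11)) (selA 14 y (selA 13 y c12 c13) (selA 15 y c14 c15))))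

noncomputable def cl1 (y : ℕ) : Clm := (selA 24 y (selA 20 y (selA 18 y (selA 17 y c16 c17) (selA 19 y c18 c19)) (selA 22 y (selA 21 y c20 c21) (selA 23 y c22 c23))) (selA 28 y (selA 26 y (selA 25 y c24 c25) (selA 27 y c26 c27)) (selA 30 y (selA 29 y c28 c29) (selA 31 y c30 c31))))

noncomputable def cl2 (y : ℕ) : Clm := (selA 40 y (selA 36 y (selA 34 y (selA 33 y c32 c33) (selA 35 y c34 c35)) (selA 38 y (selA 37 y c36 c37) (selA 39 y c38 c39))) (selA 44 y (selA 42 y (selA 41 y c40 c41) (selA 43 y c42 c43)) (selA 46 y (selA 45 y c44 c45) (selA 47 y c46 c47))))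

noncomputable def cl3 (y : ℕ) : Clm := (selA 56 y (selA 52 y (selA 50 y (selA 49 y c48 c49) (selA 51 y c50 c51)) (selA 54 y (selA 53 y c52 c53) (selA 55 y c54 c55))) (selA 60 y (selA 58 y (selA 57 y c56 c57) (selA 59 y c58 c59)) (selA 62 y (selA 61 y c60 c61) (selA 63 y c62 c63))))

noncomputable def cl4 (y : ℕ) : Clm := (selA 72 y (selA 68 y (selA 66 y (selA 65 y c64 c65) (selA 67 y c66 c67)) (selA 70 y (selA 69 y c68 c69) (selA 71 y c70 c71))) (selA 76 y (selA 74 y (selA 73 y c72 c73) (selA 75 y c74 c75)) (selA 78 y (selA 77 y c76 c77) (selA 79 y c78 c79))))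

noncomputable def cl5 (y : ℕ) : Clm := (selA 88 y (selA 84 y (selA 82 y (selA 81 y c80 c81) (selA 83 y c82 c83)) (selA 86 y (selA 85 y c84 c85) (selA 87 y c86 c87))) (selA 92 y (selA 90 y (selA 89 y c88 c89) (selA 91 y c90 c91)) (selA 94 y (selA 93 y c92 c93) (selA 95 y c94 c95))))

noncomputable def cl6 (y : ℕ) : Clm := (selA 104 y (selA 100 y (selA 98 y (selA 97 y c96 c97) (selA 99 y c98 c99)) (selA 102 y (selA 101 y c100 c101) (selA 103 y c102 c103))) (selA 108 y (selA 106 y (selA 105 y c104 c105) (selA 107 y c106 c107)) (selA 110 y (selA 109 y c108 c109) (selA 111 y c110 c111))))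

noncomputable def cl7 (y : ℕ) : Clm := (selA 120 y (selA 116 y (selA 114 y (selA 113 y c112 c113) (selA 115 y c114 c115)) (selA 118 y (selA 117 y c116 c117) (selA 119 y c118 c119))) (selA 124 y (selA 122 y (selA 121 y c120 c121) (selA 123 y c122 c123)) (selA 126 y (selA 125 y c124 c125) (selA 127 y c126 c127))))

noncomputable def cl8 (y : ℕ) : Clm := (selA 136 y (selA 132 y (selA 130 y (selA 129 y c128 c129) (selA 131 y c130 c131)) (selA 134 y (selA 133 y c132 c133) (selA 135 y c134 c135))) (selA 140 y (selA 138 y (selA 137 y c136 c137) (selA 139 y c138 c139)) (selA 142 y (selA 141 y c140 c141) (selA 143 y c142 c143))))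

noncomputable def cl9 (y : ℕ) : Clm := (selA 152 y (selA 148 y (selA 146 y (selA 145 y c144 c145) (selA 147 y c146 c147)) (selA 150 y (selA 149 y c148 c149) (selA 151 y c150 c151))) (selA 156 y (selA 154 y (selA 153 y c152 c153) (selA 155 y c154 c155)) (selA 158 y (selA 157 y c156 c157) (selA 159 y c158 c159))))

noncomputable def cl10 (y : ℕ) : Clm := (selA 168 y (selA 164 y (selA 162 y (selA 161 y c160 c161) (selA 163 y c162 c163)) (selA 166 y (selA 165 y c164 c165) (selA 167 y c166 c167))) (selA 172 y (selA 170 y (selA 169 y c168 c169) (selA 171 y c170 c171)) (selA 174 y (selA 173 y c172 c173) (selA 175 y c174 c175))))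

noncomputable def cl11 (y : ℕ) : Clm := (selA 184 y (selA 180 y (selA 178 y (selA 177 y c176 c177) (selA 179 y c178 c179)) (selA 182 y (selA 181 y c180 c181) (selA 183 y c182 c183))) (selA 188 y (selA 186 y (selA 185 y c184 c185) (selA 187 y c186 c187)) (selA 190 y (selA 189 y c188 c189) (selA 191 y c190 c191))))

noncomputable def cl12 (y : ℕ) : Clm := (selA 200 y (selA 196 y (selA 194 y (selA 193 y c192 c193) (selA 195 y c194 c195)) (selA 198 y (selA 197 y c196 c197) (selA 199 y c198 c199))) (selA 204 y (selA 202 y (selA 201 y c200 c201) (selA 203 y c202 c203)) (selA 206 y (selA 205 y c204 c205) (selA 207 y c206 c207))))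

noncomputable def cl13 (y : ℕ) : Clm := (selA 216 y (selA 212 y (selA 210 y (selA 209 y c208 c209) (selA 211 y c210 c211)) (selA 214 y (selA 213 y c212 c213) (selA 215 y c214 c215))) (selA 220 y (selA 218 y (selA 217 y c216 c217) (selA 219 y c218 c219)) (selA 222 y (selA 221 y c220 c221) (selA 223 y c222 c223))))

noncomputable def cl14 (y : ℕ) : Clm := (selA 232 y (selA 228 y (selA 226 y (selA 225 y c224 c225) (selA 227 y c226 c227)) (selA 230 y (selA 229 y c228 c229) (selA 231 y c230 c231))) (selA 236 y (selA 234 y (selA 233 y c232 c233) (selA 235 y c234 c235)) (selA 238 y (selA 237 y c236 c237) (selA 239 y c238 c239))))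

noncomputable def cl15 (y : ℕ) : Clm := (selA 248 y (selA 244 y (selA 242 y (selA 241 y c240 c241) (selA 243 y c242 c243)) (selA 246 y (selA 245 y c244 c245) (selA 247 y c246 c247))) (selA 252 y (selA 250 y (selA 249 y c248 c249) (selA 251 y c250 c251)) (selA 254 y (selA 253 y c252 c253) (selA 255 y c254 c255))))

noncomputable def cl16 (y : ℕ) : Clm := (selA 264 y (selA 260 y (selA 258 y (selA 257 y c256 c257) (selA 259 y c258 c259)) (selA 262 y (selA 261 y c260 c261) (selA 263 y c262 c263))) (selA 268 y (selA 266 y (selA 265 y c264 c265) (selA 267 y c266 c267)) (selA 270 y (selA 269 y c268 c269) (selA 271 y c270 c271))))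

noncomputable def cl17 (y : ℕ) : Clm := (selA 280 y (selA 276 y (selA 274 y (selA 273 y c272 c273) (selA 275 y c274 c275)) (selA 278 y (selA 277 y c276 c277) (selA 279 y c278 c279))) (selA 284 y (selA 282 y (selA 281 y c280 c281) (selA 283 y c282 c283)) (selA 286 y (selA 285 y c284 c285) (selA 287 y c286 c287))))

noncomputable def cl18 (y : ℕ) : Clm := (selA 296 y (selA 292 y (selA 290 y (selA 289 y c288 c289) (selA 291 y c290 c291)) (selA 294 y (selA 293 y c292 c293) (selA 295 y c294 c295))) (selA 300 y (selA 298 y (selA 297 y c296 c297) (selA 299 y c298 c299)) (selA 302 y (selA 301 y c300 c301) (selA 303 y c302 c303))))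

noncomputable def cl19 (y : ℕ) : Clm := (selA 312 y (selA 308 y (selA 306 y (selA 305 y c304 c305) (selA 307 y c306 c307)) (selA 310 y (selA 309 y c308 c309) (selA 311 y c310 c311))) (selA 316 y (selA 314 y (selA 313 y c312 c313) (selA 315 y c314 c315)) (selA 318 y (selA 317 y c316 c317) (selA 319 y c318 c319))))

noncomputable def cl20 (y : ℕ) : Clm := (selA 328 y (selA 324 y (selA 322 y (selA 321 y c320 c321) (selA 323 y c322 c323)) (selA 326 y (selA 325 y c324 c325) (selA 327 y c326 c327))) (selA 332 y (selA 330 y (selA 329 y c328 c329) (selA 331 y c330 c331)) (selA 334 y (selA 333 y c332 c333) (selA 335 y c334 c335))))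

noncomputable def cl21 (y : ℕ) : Clm := (selA 344 y (selA 340 y (selA 338 y (selA 337 y c336 c337) (selA 339 y c338 c339)) (selA 342 y (selA 341 y c340 c341) (selA 343 y c342 c343))) (selA 348 y (selA 346 y (selA 345 y c344 c345) (selA 347 y c346 c347)) (selA 350 y (selA 349 y c348 c349) (selA 351 y c350 c351))))

noncomputable def cl22 (y : ℕ) : Clm := (selA 360 y (selA 356 y (selA 354 y (selA 353 y c352 c353) (selA 355 y c354 c355)) (selA 358 y (selA 357 y c356 c357) (selA 359 y c358 c359))) (selA 364 y (selA 362 y (selA 361 y c360 c361) (selA 363 y c362 c363)) (selA 366 y (selA 365 y c364 c365) (selA 367 y c366 c367))))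

noncomputable def cl23 (y : ℕ) : Clm := (selA 376 y (selA 372 y (selA 370 y (selA 369 y c368 c369) (selA 371 y c370 c371)) (selA 374 y (selA 373 y c372 c373) (selA 375 y c374 c375))) (selA 380 y (selA 378 y (selA 377 y c376 c377) (selA 379 y c378 c379)) (selA 382 y (selA 381 y c380 c381) (selA 383 y c382 c383))))

noncomputable def cl24 (y : ℕ) : Clm := (selA 392 y (selA 388 y (selA 386 y (selA 385 y c384 c385) (selA 387 y c386 c387)) (selA 390 y (selA 389 y c388 c389) (selA 391 y c390 c391))) (selA 396 y (selA 394 y (selA 393 y c392 c393) (selA 395 y c394 c395)) (selA 398 y (selA 397 y c396 c397) (selA 399 y c398 c399))))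

noncomputable def cl25 (y : ℕ) : Clm := (selA 408 y (selA 404 y (selA 402 y (selA 401 y c400 c401) (selA 403 y c402 c403)) (selA 406 y (selA 405 y c404 c405) (selA 407 y c406 c407))) (selA 412 y (selA 410 y (selA 409 y c408 c409) (selA 411 y c410 c411)) (selA 414 y (selA 413 y c412 c413) (selA 415 y c414 c415))))

noncomputable def cl26 (y : ℕ) : Clm := (selA 424 y (selA 420 y (selA 418 y (selA 417 y c416 c417) (selA 419 y c418 c419)) (selA 422 y (selA 421 y c420 c421) (selA 423 y c422 c423))) (selA 428 y (selA 426 y (selA 425 y c424 c425) (selA 427 y c426 c427)) (selA 430 y (selA 429 y c428 c429) (selA 431 y c430 c431))))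

noncomputable def cl27 (y : ℕ) : Clm := (selA 440 y (selA 436 y (selA 434 y (selA 433 y c432 c433) (selA 435 y c434 c435)) (selA 438 y (selA 437 y c436 c437) (selA 439 y c438 c439))) (selA 444 y (selA 442 y (selA 441 y c440 c441) (selA 443 y c442 c443)) (selA 446 y (selA 445 y c444 c445) (selA 447 y c446 c447))))

noncomputable def cl28 (y : ℕ) : Clm := (selA 456 y (selA 452 y (selA 450 y (selA 449 y c448 c449) (selA 451 y c450 c451)) (selA 454 y (selA 453 y c452 c453) (selA 455 y c454 c455))) (selA 460 y (selA 458 y (selA 457 y c456 c457) (selA 459 y c458 c459)) (selA 462 y (selA 461 y c460 c461) (selA 463 y c462 c463))))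

noncomputable def cl29 (y : ℕ) : Clm := (selA 472 y (selA 468 y (selA 466 y (selA 465 y c464 c465) (selA 467 y c466 c467)) (selA 470 y (selA 469 y c468 c469) (selA 471 y c470 c471))) (selA 476 y (selA 474 y (selA 473 y c472 c473) (selA 475 y c474 c475)) (selA 478 y (selA 477 y c476 c477) (selA 479 y c478 c479))))

noncomputable def cl30 (y : ℕ) : Clm := (selA 488 y (selA 484 y (selA 482 y (selA 481 y c480 c481) (selA 483 y c482 c483)) (selA 486 y (selA 485 y c484 c485) (selA 487 y c486 c487))) (selA 492 y (selA 490 y (selA 489 y c488 c489) (selA 491 y c490 c491)) (selA 494 y (selA 493 y c492 c493) (selA 495 y c494 c495))))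

noncomputable def cl31 (y : ℕ) : Clm := (selA 504 y (selA 500 y (selA 498 y (selA 497 y c496 c497) (selA 499 y c498 c499)) (selA 502 y (selA 501 y c500 c501) (selA 503 y c502 c503))) (selA 508 y (selA 506 y (selA 505 y c504 c505) (selA 507 y c506 c507)) (selA 510 y (selA 509 y c508 c509) (selA 511 y c510 c511))))

noncomputable def cl32 (y : ℕ) : Clm := (selA 520 y (selA 516 y (selA 514 y (selA 513 y c512 c513) (selA 515 y c514 c515)) (selA 518 y (selA 517 y c516 c517) (selA 519 y c518 c519))) (selA 524 y (selA 522 y (selA 521 y c520 c521) (selA 523 y c522 c523)) (selA 526 y (selA 525 y c524 c525) (selA 527 y c526 c527))))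

noncomputable def cl33 (y : ℕ) : Clm := (selA 536 y (selA 532 y (selA 530 y (selA 529 y c528 c529) (selA 531 y c530 c531)) (selA 534 y (selA 533 y c532 c533) (selA 535 y c534 c535))) (selA 540 y (selA 538 y (selA 537 y c536 c537) (selA 539 y c538 c539)) (selA 542 y (selA 541 y c540 c541) (selA 543 y c542 c543))))

noncomputable def cl34 (y : ℕ) : Clm := (selA 552 y (selA 548 y (selA 546 y (selA 545 y c544 c545) (selA 547 y c546 c547)) (selA 550 y (selA 549 y c548 c549) (selA 551 y c550 c551))) (selA 556 y (selA 554 y (selA 553 y c552 c553) (selA 555 y c554 c555)) (selA 558 y (selA 557 y c556 c557) (selA 559 y c558 c559))))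

noncomputable def cl35 (y : ℕ) : Clm := (selA 568 y (selA 564 y (selA 562 y (selA 561 y c560 c561) (selA 563 y c562 c563)) (selA 566 y (selA 565 y c564 c565) (selA 567 y c566 c567))) (selA 572 y (selA 570 y (selA 569 y c568 c569) (selA 571 y c570 c571)) (selA 574 y (selA 573 y c572 c573) (selA 575 y c574 c575))))

noncomputable def cl36 (y : ℕ) : Clm := (selA 584 y (selA 580 y (selA 578 y (selA 577 y c576 c577) (selA 579 y c578 c579)) (selA 582 y (selA 581 y c580 c581) (selA 583 y c582 c583))) (selA 588 y (selA 586 y (selA 585 y c584 c585) (selA 587 y c586 c587)) (selA 590 y (selA 589 y c588 c589) (selA 591 y c590 c591))))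

noncomputable def cl37 (y : ℕ) : Clm := (selA 600 y (selA 596 y (selA 594 y (selA 593 y c592 c593) (selA 595 y c594 c595)) (selA 598 y (selA 597 y c596 c597) (selA 599 y c598 c599))) (selA 604 y (selA 602 y (selA 601 y c600 c601) (selA 603 y c602 c603)) (selA 606 y (selA 605 y c604 c605) (selA 607 y c606 c607))))

noncomputable def cl38 (y : ℕ) : Clm := (selA 616 y (selA 612 y (selA 610 y (selA 609 y c608 c609) (selA 611 y c610 c611)) (selA 614 y (selA 613 y c612 c613) (selA 615 y c614 c615))) (selA 620 y (selA 618 y (selA 617 y c616 c617) (selA 619 y c618 c619)) (selA 622 y (selA 621 y c620 c621) (selA 623 y c622 c623))))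

noncomputable def cl39 (y : ℕ) : Clm := (selA 632 y (selA 628 y (selA 626 y (selA 625 y c624 c625) (selA 627 y c626 c627)) (selA 630 y (selA 629 y c628 c629) (selA 631 y c630 c631))) (selA 636 y (selA 634 y (selA 633 y c632 c633) (selA 635 y c634 c635)) (selA 638 y (selA 637 y c636 c637) (selA 639 y c638 c639))))

noncomputable def cl40 (y : ℕ) : Clm := (selA 648 y (selA 644 y (selA 642 y (selA 641 y c640 c641) (selA 643 y c642 c643)) (selA 646 y (selA 645 y c644 c645) (selA 647 y c646 c647))) (selA 652 y (selA 650 y (selA 649 y c648 c649) (selA 651 y c650 c651)) (selA 654 y (selA 653 y c652 c653) (selA 655 y c654 c655))))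

noncomputable def cl41 (y : ℕ) : Clm := (selA 664 y (selA 660 y (selA 658 y (selA 657 y c656 c657) (selA 659 y c658 c659)) (selA 662 y (selA 661 y c660 c661) (selA 663 y c662 c663))) (selA 668 y (selA 666 y (selA 665 y c664 c665) (selA 667 y c666 c667)) (selA 670 y (selA 669 y c668 c669) (selA 671 y c670 c671))))

noncomputable def cl42 (y : ℕ) : Clm := (selA 680 y (selA 676 y (selA 674 y (selA 673 y c672 c673) (selA 675 y c674 c675)) (selA 678 y (selA 677 y c676 c677) (selA 679 y c678 c679))) (selA 684 y (selA 682 y (selA 681 y c680 c681) (selA 683 y c682 c683)) (selA 686 y (selA 685 y c684 c685) (selA 687 y c686 c687))))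

noncomputable def cl43 (y : ℕ) : Clm := (selA 696 y (selA 692 y (selA 690 y (selA 689 y c688 c689) (selA 691 y c690 c691)) (selA 694 y (selA 693 y c692 c693) (selA 695 y c694 c695))) (selA 700 y (selA 698 y (selA 697 y c696 c697) (selA 699 y c698 c699)) (selA 702 y (selA 701 y c700 c701) (selA 703 y c702 c703))))

noncomputable def cl44 (y : ℕ) : Clm := (selA 712 y (selA 708 y (selA 706 y (selA 705 y c704 c705) (selA 707 y c706 c707)) (selA 710 y (selA 709 y c708 c709) (selA 711 y c710 c711))) (selA 716 y (selA 714 y (selA 713 y c712 c713) (selA 715 y c714 c715)) (selA 718 y (selA 717 y c716 c717) (selA 719 y c718 c719))))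

noncomputable def cl45 (y : ℕ) : Clm := (selA 728 y (selA 724 y (selA 722 y (selA 721 y c720 c721) (selA 723 y c722 c723)) (selA 726 y (selA 725 y c724 c725) (selA 727 y c726 c727))) (selA 732 y (selA 730 y (selA 729 y c728 c729) (selA 731 y c730 c731)) (selA 734 y (selA 733 y c732 c733) (selA 735 y c734 c735))))

noncomputable def cl46 (y : ℕ) : Clm := (selA 744 y (selA 740 y (selA 738 y (selA 737 y c736 c737) (selA 739 y c738 c739)) (selA 742 y (selA 741 y c740 c741) (selA 743 y c742 c743))) (selA 748 y (selA 746 y (selA 745 y c744 c745) (selA 747 y c746 c747)) (selA 750 y (selA 749 y c748 c749) (selA 751 y c750 c751))))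

noncomputable def cl47 (y : ℕ) : Clm := (selA 760 y (selA 756 y (selA 754 y (selA 753 y c752 c753) (selA 755 y c754 c755)) (selA 758 y (selA 757 y c756 c757) (selA 759 y c758 c759))) (selA 764 y (selA 762 y (selA 761 y c760 c761) (selA 763 y c762 c763)) (selA 766 y (selA 765 y c764 c765) (selA 767 y c766 c767))))

noncomputable def cl48 (y : ℕ) : Clm := (selA 776 y (selA 772 y (selA 770 y (selA 769 y c768 c769) (selA 771 y c770 c771)) (selA 774 y (selA 773 y c772 c773) (selA 775 y c774 c775))) (selA 780 y (selA 778 y (selA 777 y c776 c777) (selA 779 y c778 c779)) (selA 782 y (selA 781 y c780 c781) (selA 783 y c782 c783))))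

noncomputable def cl49 (y : ℕ) : Clm := (selA 792 y (selA 788 y (selA 786 y (selA 785 y c784 c785) (selA 787 y c786 c787)) (selA 790 y (selA 789 y c788 c789) (selA 791 y c790 c791))) (selA 796 y (selA 794 y (selA 793 y c792 c793) (selA 795 y c794 c795)) (selA 798 y (selA 797 y c796 c797) (selA 799 y c798 c799))))

noncomputable def cl50 (y : ℕ) : Clm := (selA 808 y (selA 804 y (selA 802 y (selA 801 y c800 c801) (selA 803 y c802 c803)) (selA 806 y (selA 805 y c804 c805) (selA 807 y c806 c807))) (selA 812 y (selA 810 y (selA 809 y c808 c809) (selA 811 y c810 c811)) (selA 814 y (selA 813 y c812 c813) (selA 815 y c814 c815))))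

noncomputable def cl51 (y : ℕ) : Clm := (selA 824 y (selA 820 y (selA 818 y (selA 817 y c816 c817) (selA 819 y c818 c819)) (selA 822 y (selA 821 y c820 c821) (selA 823 y c822 c823))) (selA 828 y (selA 826 y (selA 825 y c824 c825) (selA 827 y c826 c827)) (selA 830 y (selA 829 y c828 c829) (selA 831 y c830 c831))))

noncomputable def cl52 (y : ℕ) : Clm := (selA 840 y (selA 836 y (selA 834 y (selA 833 y c832 c833) (selA 835 y c834 c835)) (selA 838 y (selA 837 y c836 c837) (selA 839 y c838 c839))) (selA 844 y (selA 842 y (selA 841 y c840 c841) (selA 843 y c842 c843)) (selA 846 y (selA 845 y c844 c845) (selA 847 y c846 c847))))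

noncomputable def cl53 (y : ℕ) : Clm := (selA 856 y (selA 852 y (selA 850 y (selA 849 y c848 c849) (selA 851 y c850 c851)) (selA 854 y (selA 853 y c852 c853) (selA 855 y c854 c855))) (selA 860 y (selA 858 y (selA 857 y c856 c857) (selA 859 y c858 c859)) (selA 862 y (selA 861 y c860 c861) (selA 863 y c862 c863))))

noncomputable def cl54 (y : ℕ) : Clm := (selA 872 y (selA 868 y (selA 866 y (selA 865 y c864 c865) (selA 867 y c866 c867)) (selA 870 y (selA 869 y c868 c869) (selA 871 y c870 c871))) (selA 876 y (selA 874 y (selA 873 y c872 c873) (selA 875 y c874 c875)) (selA 878 y (selA 877 y c876 c877) (selA 879 y c878 c879))))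

noncomputable def cl55 (y : ℕ) : Clm := (selA 888 y (selA 884 y (selA 882 y (selA 881 y c880 c881) (selA 883 y c882 c883)) (selA 886 y (selA 885 y c884 c885) (selA 887 y c886 c887))) (selA 892 y (selA 890 y (selA 889 y c888 c889) (selA 891 y c890 c891)) (selA 894 y (selA 893 y c892 c893) (selA 895 y c894 c895))))

noncomputable def cl56 (y : ℕ) : Clm := (selA 904 y (selA 900 y (selA 898 y (selA 897 y c896 c897) (selA 899 y c898 c899)) (selA 902 y (selA 901 y c900 c901) (selA 903 y c902 c903))) (selA 908 y (selA 906 y (selA 905 y c904 c905) (selA 907 y c906 c907)) (selA 910 y (selA 909 y c908 c909) (selA 911 y c910 c911))))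

noncomputable def cl57 (y : ℕ) : Clm := (selA 920 y (selA 916 y (selA 914 y (selA 913 y c912 c913) (selA 915 y c914 c915)) (selA 918 y (selA 917 y c916 c917) (selA 919 y c918 c919))) (selA 924 y (selA 922 y (selA 921 y c920 c921) (selA 923 y c922 c923)) (selA 926 y (selA 925 y c924 c925) (selA 927 y c926 c927))))

noncomputable def cl58 (y : ℕ) : Clm := (selA 936 y (selA 932 y (selA 930 y (selA 929 y c928 c929) (selA 931 y c930 c931)) (selA 934 y (selA 933 y c932 c933) (selA 935 y c934 c935))) (selA 940 y (selA 938 y (selA 937 y c936 c937) (selA 939 y c938 c939)) (selA 942 y (selA 941 y c940 c941) (selA 943 y c942 c943))))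

noncomputable def cl59 (y : ℕ) : Clm := (selA 952 y (selA 948 y (selA 946 y (selA 945 y c944 c945) (selA 947 y c946 c947)) (selA 950 y (selA 949 y c948 c949) (selA 951 y c950 c951))) (selA 956 y (selA 954 y (selA 953 y c952 c953) (selA 955 y c954 c955)) (selA 958 y (selA 957 y c956 c957) (selA 959 y c958 c959))))

noncomputable def cl60 (y : ℕ) : Clm := (selA 968 y (selA 964 y (selA 962 y (selA 961 y c960 c961) (selA 963 y c962 c963)) (selA 966 y (selA 965 y c964 c965) (selA 967 y c966 c967))) (selA 972 y (selA 970 y (selA 969 y c968 c969) (selA 971 y c970 c971)) (selA 974 y (selA 973 y c972 c973) (selA 975 y c974 c975))))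

noncomputable def cl61 (y : ℕ) : Clm := (selA 984 y (selA 980 y (selA 978 y (selA 977 y c976 c977) (selA 979 y c978 c979)) (selA 982 y (selA 981 y c980 c981) (selA 983 y c982 c983))) (selA 988 y (selA 986 y (selA 985 y c984 c985) (selA 987 y c986 c987)) (selA 990 y (selA 989 y c988 c989) (selA 991 y c990 c991))))

noncomputable def cl62 (y : ℕ) : Clm := (selA 1000 y (selA 996 y (selA 994 y (selA 993 y c992 c993) (selA 995 y c994 c995)) (selA 998 y (selA 997 y c996 c997) (selA 999 y c998 c999))) (selA 1004 y (selA 1002 y (selA 1001 y c1000 c1001) (selA 1003 y c1002 c1003)) (selA 1006 y (selA 1005 y c1004 c1005) (selA 1007 y c1006 c1007))))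

noncomputable def cl63 (y : ℕ) : Clm := (selA 1016 y (selA 1012 y (selA 1010 y (selA 1009 y c1008 c1009) (selA 1011 y c1010 c1011)) (selA 1014 y (selA 1013 y c1012 c1013) (selA 1015 y c1014 c1015))) (selA 1020 y (selA 1018 y (selA 1017 y c1016 c1017) (selA 1019 y c1018 c1019)) (selA 1022 y (selA 1021 y c1020 c1021) (selA 1023 y c1022 c1023))))

noncomputable def cl64 (y : ℕ) : Clm := (selA 1032 y (selA 1028 y (selA 1026 y (selA 1025 y c1024 c1025) (selA 1027 y c1026 c1027)) (selA 1030 y (selA 1029 y c1028 c1029) (selA 1031 y c1030 c1031))) (selA 1036 y (selA 1034 y (selA 1033 y c1032 c1033) (selA 1035 y c1034 c1035)) (selA 1038 y (selA 1037 y c1036 c1037) (selA 1039 y c1038 c1039))))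

noncomputable def cl65 (y : ℕ) : Clm := (selA 1048 y (selA 1044 y (selA 1042 y (selA 1041 y c1040 c1041) (selA 1043 y c1042 c1043)) (selA 1046 y (selA 1045 y c1044 c1045) (selA 1047 y c1046 c1047))) (selA 1052 y (selA 1050 y (selA 1049 y c1048 c1049) (selA 1051 y c1050 c1051)) (selA 1054 y (selA 1053 y c1052 c1053) (selA 1055 y c1054 c1055))))

noncomputable def cl66 (y : ℕ) : Clm := (selA 1064 y (selA 1060 y (selA 1058 y (selA 1057 y c1056 c1057) (selA 1059 y c1058 c1059)) (selA 1062 y (selA 1061 y c1060 c1061) (selA 1063 y c1062 c1063))) (selA 1068 y (selA 1066 y (selA 1065 y c1064 c1065) (selA 1067 y c1066 c1067)) (selA 1070 y (selA 1069 y c1068 c1069) (selA 1071 y c1070 c1071))))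

noncomputable def cl67 (y : ℕ) : Clm := (selA 1080 y (selA 1076 y (selA 1074 y (selA 1073 y c1072 c1073) (selA 1075 y c1074 c1075)) (selA 1078 y (selA 1077 y c1076 c1077) (selA 1079 y c1078 c1079))) (selA 1084 y (selA 1082 y (selA 1081 y c1080 c1081) (selA 1083 y c1082 c1083)) (selA 1086 y (selA 1085 y c1084 c1085) (selA 1087 y c1086 c1087))))

noncomputable def cl68 (y : ℕ) : Clm := (selA 1096 y (selA 1092 y (selA 1090 y (selA 1089 y c1088 c1089) (selA 1091 y c1090 c1091)) (selA 1094 y (selA 1093 y c1092 c1093) (selA 1095 y c1094 c1095))) (selA 1100 y (selA 1098 y (selA 1097 y c1096 c1097) (selA 1099 y c1098 c1099)) (selA 1102 y (selA 1101 y c1100 c1101) (selA 1103 y c1102 c1103))))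

noncomputable def cl69 (y : ℕ) : Clm := (selA 1112 y (selA 1108 y (selA 1106 y (selA 1105 y c1104 c1105) (selA 1107 y c1106 c1107)) (selA 1110 y (selA 1109 y c1108 c1109) (selA 1111 y c1110 c1111))) (selA 1116 y (selA 1114 y (selA 1113 y c1112 c1113) (selA 1115 y c1114 c1115)) (selA 1118 y (selA 1117 y c1116 c1117) (selA 1119 y c1118 c1119))))

noncomputable def cl70 (y : ℕ) : Clm := (selA 1128 y (selA 1124 y (selA 1122 y (selA 1121 y c1120 c1121) (selA 1123 y c1122 c1123)) (selA 1126 y (selA 1125 y c1124 c1125) (selA 1127 y c1126 c1127))) (selA 1132 y (selA 1130 y (selA 1129 y c1128 c1129) (selA 1131 y c1130 c1131)) (selA 1134 y (selA 1133 y c1132 c1133) (selA 1135 y c1134 c1135))))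

noncomputable def cl71 (y : ℕ) : Clm := (selA 1144 y (selA 1140 y (selA 1138 y (selA 1137 y c1136 c1137) (selA 1139 y c1138 c1139)) (selA 1142 y (selA 1141 y c1140 c1141) (selA 1143 y c1142 c1143))) (selA 1148 y (selA 1146 y (selA 1145 y c1144 c1145) (selA 1147 y c1146 c1147)) (selA 1150 y (selA 1149 y c1148 c1149) (selA 1151 y c1150 c1151))))

noncomputable def cl72 (y : ℕ) : Clm := (selA 1160 y (selA 1156 y (selA 1154 y (selA 1153 y c1152 c1153) (selA 1155 y c1154 c1155)) (selA 1158 y (selA 1157 y c1156 c1157) (selA 1159 y c1158 c1159))) (selA 1164 y (selA 1162 y (selA 1161 y c1160 c1161) (selA 1163 y c1162 c1163)) (selA 1166 y (selA 1165 y c1164 c1165) (selA 1167 y c1166 c1167))))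

noncomputable def cl73 (y : ℕ) : Clm := (selA 1176 y (selA 1172 y (selA 1170 y (selA 1169 y c1168 c1169) (selA 1171 y c1170 c1171)) (selA 1174 y (selA 1173 y c1172 c1173) (selA 1175 y c1174 c1175))) (selA 1180 y (selA 1178 y (selA 1177 y c1176 c1177) (selA 1179 y c1178 c1179)) (selA 1182 y (selA 1181 y c1180 c1181) (selA 1183 y c1182 c1183))))

noncomputable def cl74 (y : ℕ) : Clm := (selA 1192 y (selA 1188 y (selA 1186 y (selA 1185 y c1184 c1185) (selA 1187 y c1186 c1187)) (selA 1190 y (selA 1189 y c1188 c1189) (selA 1191 y c1190 c1191))) (selA 1196 y (selA 1194 y (selA 1193 y c1192 c1193) (selA 1195 y c1194 c1195)) (selA 1198 y (selA 1197 y c1196 c1197) (selA 1199 y c1198 c1199))))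

noncomputable def cl75 (y : ℕ) : Clm := (selA 1208 y (selA 1204 y (selA 1202 y (selA 1201 y c1200 c1201) (selA 1203 y c1202 c1203)) (selA 1206 y (selA 1205 y c1204 c1205) (selA 1207 y c1206 c1207))) (selA 1212 y (selA 1210 y (selA 1209 y c1208 c1209) (selA 1211 y c1210 c1211)) (selA 1214 y (selA 1213 y c1212 c1213) (selA 1215 y c1214 c1215))))

noncomputable def cl76 (y : ℕ) : Clm := (selA 1219 y (selA 1217 y c1216 (selA 1218 y c1217 c1218)) (selA 1221 y (selA 1220 y c1219 c1220) (selA 1222 y c1221 c1222)))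

noncomputable def cl (y : ℕ) : Clm := (selA 608 y (selA 304 y (selA 144 y (selA 64 y (selA 32 y (selA 16 y (cl0 y) (cl1 y)) (selA 48 y (cl2 y) (cl3 y))) (selA 96 y (selA 80 y (cl4 y) (cl5 y)) (selA 112 y (cl6 y) (selA 128 y (cl7 y) (cl8 y))))) (selA 224 y (selA 176 y (selA 160 y (cl9 y) (cl10 y)) (selA 192 y (cl11 y) (selA 208 y (cl12 y) (cl13 y)))) (selA 256 y (selA 240 y (cl14 y) (cl15 y)) (selA 272 y (cl16 y) (selA 288 y (cl17 y) (cl18 y)))))) (selA 448 y (selA 368 y (selA 336 y (selA 320 y (cl19 y) (cl20 y)) (selA 352 y (cl21 y) (cl22 y))) (selA 400 y (selA 384 y (cl23 y) (cl24 y)) (selA 416 y (cl25 y) (selA 432 y (cl26 y) (cl27 y))))) (selA 528 y (selA 480 y (selA 464 y (cl28 y) (cl29 y)) (selA 496 y (cl30 y) (selA 512 y (cl31 y) (cl32 y)))) (selA 560 y (selA 544 y (cl33 y) (cl34 y)) (selA 576 y (cl35 y) (selA 592 y (cl36 y) (cl37 y))))))) (selA 912 y (selA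 752 y (selA 672 y (selA 640 y (selA 624 y (cl38 y) (cl39 y)) (selA 656 y (cl40 y) (cl41 y))) (selA 704 y (selA 688 y (cl42 y) (cl43 y)) (selA 720 y (cl44 y) (selA 736 y (cl45 y) (cl46 y))))) (selA 832 y (selA 784 y (selA 768 y (cl47 y) (cl48 y)) (selA 800 y (cl49 y) (selA 816 y (cl50 y) (cl51 y)))) (selA 864 y (selA 848 y (cl52 y) (cl53 y)) (selA 880 y (cl54 y) (selA 896 y (cl55 y) (cl56 y)))))) (selA 1072 y (selA 992 y (selA 944 y (selA 928 y (cl57 y) (cl58 y)) (selA 960 y (cl59 y) (selA 976 y (cl60 y) (cl61 y)))) (selA 1024 y (selA 1008 y (cl62 y) (cl63 y)) (selA 1040 y (cl64 y) (selA 1056 y (cl65 y) (cl66 y))))) (selA 1152 y (selA 1104 y (selA 1088 y (cl67 y) (cl68 y)) (selA 1120 y (cl69 y) (selA 1136 y (cl70 y) (cl71 y)))) (selA 1184 y (selA 1168 y (cl72 y) (cl73 y)) (selA 1200 y (cl74 y) (selA 1216 y (cl75 y) (cl76 y))))))))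

def gwL : List (List ℕ) := [[], [15], [15,2,15], [15,8,6,13,10,8,1,15], [15,8,10,6,8,15], [15,8,10,6,13,6,8,15], [15,8,6,13,6,8,15], [15,8,6,13,10,8,1,15,1,15], [15,8,6,13,10,8,1,15,14,13,8,6,13,6,8,15], [15,8,6,13,10,8,1,15,8,6,13,10,8,1,15], [15,8,6,13,10,8,1,15,14,13,8,14,13,14,8,15], [15,8,6,13,10,8,1,15,8,14,13,8,10,6,8,15], [15,8,6,13,10,8,1,15,6,8,10,13,6,8,2,15], [15,8,6,13,10,8,1,15,6,13,8,10,6,8,15], [15,8,10,6,8,15,8,10,6,8,15], [15,8,10,6,8,15,13,6,13,8,14,10,8,2,15], [15,8,10,6,8,15,8,6,13,6,13,8,1,15], [15,8,10,6,13,6,8,15,10,8,14,13,7,6,8,15], [15,8,10,6,13,6,8,15,10,8,14,3,13,6,8,15], [15,8,6,13,10,8,1,15,14,13,8,6,13,6,8,15,8,6,13,6,13,8,1,15]]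

noncomputable def D : Dce where
  inv := 5125576108528134358162376351813529108736
  m := 15
  T := 15
  TI := 16
  KL := [3,4,5,7,9,10,11,12,13,14]
  ax := [[1], [2], [3], [4], [5], [6], [7], [8], [9], [10], [11], [12], [13], [14]]
  sg := [[], [], [], [3], [4], [5], [], [7], [], [9], [10], [11], [12], [13], [14]]
  chk := fixB CM.img 15 CM.bs
  pats := [([], false), ([16,15], false), ([15], true), ([16], true), ([15,8,15,3,7,8,7,15,2,8,7,12], false), ([12,7,8,2,16,7,8,7,3,16,8], true), ([15,3,7,8,7,15,2,8,7,12,15,8], false), ([8,16,12,7,8,2,16,7,8,7,3], true), ([15,2,8,7,12,15,8,15,3,7,8,7], false), ([7,8,7,3,16,8,16,12,7,8,2], true)]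
  gw := nthW gwL
  cl := cl


end Cfsg.Co.D1
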