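import Cfsg.Agent.Co.D1.B0
import Cfsg.Agent.Co.D1.B1
import Cfsg.Agent.Co.D1.B2
import Cfsg.Agent.Co.D1.B3
import Cfsg.Agent.Co.D1.B4
import Cfsg.Agent.Co.D1.B5
import Cfsg.Agent.Co.CT.Main

set_option autoImplicit false
set_option maxRecDepth 100000
set_option Elab.async false

namespace Cfsg.Co.D1

open Cfsg.H6

theorem hv {G : Type*} [Group G] {ev : ℕ → G} {H : Subgroup G} (h : D.Hyp ev H)
    (ha : D.Valid ev H (D.cl 13)) :
    ∀ c < 1223, D.Valid ev H (D.cl c) :=
  Dce.all_valid2 h ha (range_join (range_join (range_join (range_join (allR_range k0 (by norm_num : 0 + 80 = 80)) (allR_range k1 (by norm_num : 80 + 80 = 160))) (range_join (allR_range k2 (by norm_num : 160 + 80 = 240)) (allR_range k3 (by norm_num : 240 + 80 = 320)))) (range_join (range_join (allR_range k4 (by norm_num : 320 + 80 = 400)) (allR_range k5 (by norm_num : 400 + 80 = 480))) (range_join (allR_range k6 (by norm_num : 480 + 80 = 560)) (allR_range k7 (by norm_num : 560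 + 80 = 640))))) (range_join (range_join (range_join (allR_range k8 (by norm_num : 640 + 80 = 720)) (allR_range k9 (by norm_num : 720 + 80 = 800))) (range_join (allR_range k10 (by norm_num : 800 + 80 = 880)) (allR_range k11 (by norm_num : 880 + 80 = 960)))) (range_join (range_join (allR_range k12 (by norm_num : 960 + 80 = 1040)) (allR_range k13 (by norm_num : 1040 + 80 = 1120))) (range_join (allR_range k14 (by norm_num : 1120 + 80 = 1200)) (allR_range k15 (by norm_num : 1200 + 23 = 1223))))))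

theorem top : ⊤ ≤ gen CM.ev (D.genW [0,1,2,3,4,5,6,7,8,9,10]) :=
  CM.hX.ge.trans (gen_le (CM.ora.mem_gen (V := [[0], [1], [2], [3], [4], [5], [6], [7], [8], [9],
    [4, 6, 4, 6], [8, 4, 6, 4, 6, 8, 4, 6, 4, 6], [10]]) (by decide +kernel)))

def E : List (ℕ × ℕ) := [(1, 1771), (0, 1), (3, 21252), (4, 26565), (5, 637560), (6, 637560), (7, 1771), (8, 340032), (9, 91080), (10, 566720), (11, 728640), (12, 425040), (13, 2040192), (14, 759), (15, 42504), (16, 91080), (17, 2266880), (18, 370944), (19, 2024)]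

theorem hT {G : Type*} [Group G] {ev : ℕ → G} {H : Subgroup G} {θ : M24 →* G}
    (M : D.Model ev CM.ev θ CT.φ CT.img 10626) (h : D.Hyp ev H)
    (ha : D.Valid ev H (D.cl 13)) :
    ∀ i ∈ E.map Prod.fst, ∀ p, D.InU ev H θ (E.map Prod.fst) (evL ev (D.gw i) * θ p * ev D.T) :=
  (List.forall_mem_cons.mpr ⟨Dce.fin_sound M h (hv h ha) f1, (List.forall_mem_cons.mpr ⟨Dce.fin_sound M h (hv h ha) f0, (List.forall_mem_cons.mpr ⟨Dce.fin_sound M h (hv h ha) f3, (List.forall_mem_cons.mpr ⟨Dce.fin_sound M h (hv h ha) f4, (List.forall_mem_cons.mpr ⟨Dce.fin_sound M h (hv h ha) f5, (List.forall_mem_cons.mpr ⟨Dce.fin_sound M h (hv h ha) f6, (List.forall_mem_cons.mpr ⟨Dce.fin_sound M h (hv h ha) f7, (List.forall_mem_cons.mpr ⟨Dce.fin_sound M h (hv h ha) f8, (List.forall_mem_cons.mpr ⟨Dce.fin_sound M h (hv h ha) f9, (List.forall_mem_cons.mpr ⟨Dce.fin_sound M h (hv h ha) f10, (List.forall_mem_cons.mpr ⟨Dce.fin_sound M h (hv h ha) f11, (List.forall_mem_cons.mpr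 ⟨Dce.fin_sound M h (hv h ha) f12, (List.forall_mem_cons.mpr ⟨Dce.fin_sound M h (hv h ha) f13, (List.forall_mem_cons.mpr ⟨Dce.fin_sound M h (hv h ha) f14, (List.forall_mem_cons.mpr ⟨Dce.fin_sound M h (hv h ha) f15, (List.forall_mem_cons.mpr ⟨Dce.fin_sound M h (hv h ha) f16, (List.forall_mem_cons.mpr ⟨Dce.fin_sound M h (hv h ha) f17, (List.forall_mem_cons.mpr ⟨Dce.fin_sound M h (hv h ha) f18, (List.forall_mem_cons.mpr ⟨Dce.fin_sound M h (hv h ha) f19, (by simp)⟩)⟩)⟩)⟩)⟩)⟩)⟩)⟩)⟩)⟩)⟩)⟩)⟩)⟩)⟩)⟩)⟩)⟩)⟩)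

theorem hE {G : Type*} [Group G] {ev : ℕ → G} {H : Subgroup G} {θ : M24 →* G}
    (M : D.Model ev CM.ev θ CT.φ CT.img 10626) (h : D.Hyp ev H)
    (ha : D.Valid ev H (D.cl 13)) :
    ∀ e ∈ E, Cover ((rcStab H (evL ev (D.gw e.1))).comap θ) ⊤ e.2 :=
  (List.forall_mem_cons.mpr ⟨Dce.cover_one M h (hv h ha) (Gs := [17,18,19,20,21,22]) (by decide +kernel) s1 (by rw [CM.card]; decide +kernel), (List.forall_mem_cons.mpr ⟨Dce.cover_top M h (hv h ha) (Gs := [0,1,2,3,4,5,6,7,8,9,10]) (by decide +kernel) top, (List.forall_mem_cons.mpr ⟨Dce.cover_one M h (hv h ha) (Gs := [27,28,29,30,35,38]) (by decide +kernel) s3 (by rw [CM.card]; decide +kernel), (List.forall_mem_cons.mpr ⟨Dce.cover_one M h (hv h ha) (Gs := [41,42,43,44,49]) (by decide +kernel) s4 (by rw [CM.card]; decide +kernel), (List.forall_mem_cons.mpr ⟨Dce.cover_one M h (hv h ha) (Gs := [52,53,54,58]) (by decide +kernel) s5 (by rw [CM.card]; decide +kernel), (List.forall_mem_cons.mpr ⟨Dce.cover_one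 M h (hv h ha) (Gs := [105,106,107,112,117]) (by decide +kernel) s6 (by rw [CM.card]; decide +kernel), (List.forall_mem_cons.mpr ⟨Dce.cover_one M h (hv h ha) (Gs := [175,176,177,178,183,186]) (by decide +kernel) s7 (by rw [CM.card]; decide +kernel), (List.forall_mem_cons.mpr ⟨Dce.cover_one M h (hv h ha) (Gs := [194,195,198]) (by decide +kernel) s8 (by rw [CM.card]; decide +kernel), (List.forall_mem_cons.mpr ⟨Dce.cover_one M h (hv h ha) (Gs := [233,234,235,236,241,253]) (by decide +kernel) s9 (by rw [CM.card]; decide +kernel), (List.forall_mem_cons.mpr ⟨Dce.cover_one M h (hv h ha) (Gs := [271,272,273,278]) (by decide +kernel) s10 (by rw [CM.card]; decide +kernel), (List.forall_mem_cons.mpr ⟨Dce.cover_one M h (hv h ha) (Gs := [320,321,322,327]) (by decide +kernel) s11 (by rw [CM.card]; decide +kernel), (List.forall_mem_cons.mpr ⟨Dce.cover_one M h (hv h ha) (Gs := [399,400,401,404,405,410]) (by decide +kernel) s12 (by rw [CM.card]; decide +kernel),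 (List.forall_mem_cons.mpr ⟨Dce.cover_one M h (hv h ha) (Gs := [483,484,487,494]) (by decide +kernel) s13 (by rw [CM.card]; decide +kernel), (List.forall_mem_cons.mpr ⟨Dce.cover_one M h (hv h ha) (Gs := [680,681,682,683,686]) (by decide +kernel) s14 (by rw [CM.card]; decide +kernel), (List.forall_mem_cons.mpr ⟨Dce.cover_one M h (hv h ha) (Gs := [696,697,698,699,702,703]) (by decide +kernel) s15 (by rw [CM.card]; decide +kernel), (List.forall_mem_cons.mpr ⟨Dce.cover_one M h (hv h ha) (Gs := [731,732,733,734,739,746]) (by decide +kernel) s16 (by rw [CM.card]; decide +kernel), (List.forall_mem_cons.mpr ⟨Dce.cover_one M h (hv h ha) (Gs := [794,795,800,809]) (by decide +kernel) s17 (by rw [CM.card]; decide +kernel), (List.forall_mem_cons.mpr ⟨Dce.cover_one M h (hv h ha) (Gs := [1105,1106,1111,1116]) (by decide +kernel) s18 (by rw [CM.card]; decide +kernel), (List.forall_mem_cons.mpr ⟨Dce.cover_one M h (hv h ha) (Gs := [1207,1208,1209,1212]) (by decide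 +kernel) s19 (by rw [CM.card]; decide +kernel), (by simp)⟩)⟩)⟩)⟩)⟩)⟩)⟩)⟩)⟩)⟩)⟩)⟩)⟩)⟩)⟩)⟩)⟩)⟩)⟩)

theorem model {G : Type*} [Group G] {ev : ℕ → G} {θ : M24 →* G}
    (hθ : ∀ l, 1 ≤ l → l < 15 → θ (CM.ev l) = ev l) : D.Model ev CM.ev θ CT.φ CT.img 10626 :=
  ⟨hθ, CT.hφ, CT.hφ.lt_of_gen (by norm_num) CM.hX (by decide +kernel), CT.stab, by decide +kernel⟩

theorem cover {G : Type*} [Group G] {ev : ℕ → G} {H : Subgroup G} {θ : M24 →* G}
    (hθ : ∀ l, 1 ≤ l → l < 15 → θ (CM.ev l) = ev l) (h : D.Hyp ev H)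
    (ha : evL ev [15, 2, 15] ∈ H) : Cover H (gen ev (lets (List.range' 1 15))) 8292375 :=
  have ha' : D.Valid ev H (D.cl 13) := Dce.valid_of_mem (by decide +kernel)
    (by rw [show D.gw (D.cl 13).i = [15, 2, 15] by decide +kernel]; exact ha)
  Dce.cover_gen E (hE (model hθ) h ha')
    (Dce.inU_gen ⟨0, by decide +kernel, by decide +kernel⟩ (hT (model hθ) h ha')
      (Dce.hinv (model hθ) h (a := []) (b := []) (by decide +kernel))
      (Dce.hgen (model hθ) (by decide +kernel)))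


end Cfsg.Co.D1
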